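import Mathlib.RingTheory.KrullDimension.Module
import Mathlib.RingTheory.Support
import Mathlib.RingTheory.Localization.AtPrime.Basic
import Mathlib.Algebra.Module.LocalizedModule.Basic

/-!
# The support dimension of a localised module
-/

universe u

namespace GrothLib.GrLC

variable {R : Type u} [CommRing R] (M : Type u) [AddCommGroup M] [Module R M] (p : Ideal R) [p.IsPrime]

/-- Support of the localisation. -/
theorem mem_support_localized_iff (P : PrimeSpectrum (Localization.AtPrime p)) :
    P ∈ Module.support (Localization.AtPrime p) (LocalizedModule p.primeCompl M) ↔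
      PrimeSpectrum.comap (algebraMap R (Localization.AtPrime p)) P ∈ Module.support R M := by
  have hle : ∀ r, algebraMap R (Localization.AtPrime p) r ∉ P.asIdeal ∨ r ∈ P.asIdeal.comap (algebraMap R _) :=
    fun r => (em (algebraMap R (Localization.AtPrime p) r ∈ P.asIdeal)).symm
  constructor
  · intro hP
    obtain ⟨z, hz⟩ := Module.mem_support_iff'.1 hP
    induction z using LocalizedModule.induction_on with
    | h x s =>
      refine Module.mem_support_iff'.2 ⟨x, fun r hr h0 => hz _ hr ?_⟩
      rw [algebraMap_smul, LocalizedModule.smul'_mk, h0, LocalizedModule.zero_mk]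
  · intro hP
    obtain ⟨x, hx⟩ := Module.mem_support_iff'.1 hP
    refine Module.mem_support_iff'.2 ⟨LocalizedModule.mk x 1, fun ρ hρ h0 => ?_⟩
    obtain ⟨a, s, rfl⟩ := IsLocalization.exists_mk'_eq p.primeCompl ρ
    have ha : algebraMap R (Localization.AtPrime p) a ∉ P.asIdeal := fun h => hρ (by
      rw [IsLocalization.mk'_eq_mul_mk'_one]; exact Ideal.mul_mem_right _ _ h)
    have h1 : a • LocalizedModule.mk x (1 : p.primeCompl) = 0 := by
      rw [← algebraMap_smul (Localization.AtPrime p) a, ← IsLocalization.mk'_spec' (Localization.AtPrime p) a s,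
        mul_smul, h0, smul_zero]
    rw [LocalizedModule.smul'_mk, ← LocalizedModule.zero_mk (1 : p.primeCompl), LocalizedModule.mk_eq] at h1
    obtain ⟨u, hu⟩ := h1
    refine hx ((u : R) * a) (fun h => ?_) ?_
    · rcases (PrimeSpectrum.comap (algebraMap R (Localization.AtPrime p)) P).isPrime.mem_or_mem h with h | h
      · exact P.isPrime.ne_top (Ideal.eq_top_of_isUnit_mem _ h (IsLocalization.map_units _ u))
      · exact ha h
    · simpa [mul_smul, Submonoid.smul_def] using hu

/-- The support dimension of `M_p` is the dimension of the support below `p`. -/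
theorem supportDim_localized :
    Module.supportDim (Localization.AtPrime p) (LocalizedModule p.primeCompl M) =
      Order.krullDim {q : PrimeSpectrum R // q ∈ Module.support R M ∧ q.asIdeal ≤ p} := by
  let e := IsLocalization.AtPrime.primeSpectrumOrderIso (Localization.AtPrime p) p
  refine Order.krullDim_eq_of_orderIso
    { toFun := fun P => ⟨(e P.1).1, (mem_support_localized_iff M p P.1).1 P.2, (e P.1).2⟩
      invFun := fun q => ⟨e.symm ⟨q.1, q.2.2⟩, (mem_support_localized_iff M p _).2 (by
        change (e (e.symm ⟨q.1, q.2.2⟩)).1 ∈ Module.support R M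
        rw [e.apply_symm_apply]
        exact q.2.1)⟩
      left_inv := fun P => Subtype.ext (e.symm_apply_apply P.1)
      right_inv := fun q => by
        apply Subtype.ext
        change (e (e.symm ⟨q.1, q.2.2⟩)).1 = q.1
        rw [e.apply_symm_apply]
      map_rel_iff' := fun {P Q} => e.le_iff_le }

end GrothLib.GrLC
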