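import Groth.Agent.Lib.CanonMod.Duality
import Groth.Agent.Lib.Gor.Localization
import Mathlib.Algebra.Module.FinitePresentation
import Mathlib.Algebra.Category.ModuleCat.Localization

/-!
# Vanishing of `Ext(M, Y)` after localisation
-/

universe u

open CategoryTheory Abelian

namespace GrothLib.GrLC.ExtLoc

variable {R : Type u} [CommRing R] [IsNoetherianRing R] (S : Submonoid R)

variable {Y : ModuleCat.{u} R}
set_option quotPrecheck false in
local notation "RS" => Y
set_option quotPrecheck false in
local notation "YS" => Y.localizedModule S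

variable (Y) in
/-- Every class in `Ext^s(M,Y)` is killed by an element of `S`. -/
def ExtKilled (s : ℕ) (M : ModuleCat.{u} R) : Prop :=
  ∀ e : Ext M RS s, ∃ σ : S, (σ : R) • e = 0

variable {S}

theorem exists_pres (M : ModuleCat.{u} R) [Module.Finite R M] :
    ∃ (r : ℕ) (T : ShortComplex (ModuleCat.{u} R)), T.ShortExact ∧ T.X₂ = ModuleCat.of R (Fin r → R) ∧
      Module.Finite R T.X₁ ∧ Module.Finite R T.X₂ ∧ T.X₃ = M ∧ Projective T.X₂ := by
  obtain ⟨r, f, hf⟩ := Module.Finite.exists_fin' R M
  exact ⟨r, f.shortComplexKer, LinearMap.shortExact_shortComplexKer hf, rfl,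
    inferInstanceAs (Module.Finite R (LinearMap.ker f)), inferInstanceAs (Module.Finite R (Fin r → R)), rfl,
    ModuleCat.projective_of_categoryTheory_projective (R := R) _⟩

theorem locMap_mk {M N : ModuleCat.{u} R} (g : M ⟶ N) (m : M) :
    ((ModuleCat.localizedModuleMap S g).hom) (M.localizedModuleMkLinearMap S m) =
      N.localizedModuleMkLinearMap S (g.hom m) :=
  IsLocalizedModule.map_apply S (M.localizedModuleMkLinearMap S) (N.localizedModuleMkLinearMap S) g.hom m

theorem hom_ext_mk {M : ModuleCat.{u} R} {N : ModuleCat.{u} (Localization S)}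
    (φ ψ : M.localizedModule S ⟶ N)
    (h : ∀ m, φ.hom (M.localizedModuleMkLinearMap S m) = ψ.hom (M.localizedModuleMkLinearMap S m)) : φ = ψ := by
  refine ModuleCat.hom_ext (LinearMap.ext fun z => ?_)
  obtain ⟨⟨m, σ⟩, rfl⟩ := IsLocalizedModule.mk'_surjective S (M.localizedModuleMkLinearMap S) z
  refine (IsUnit.smul_left_cancel (IsLocalization.map_units (Localization S) σ)).1 ?_
  rw [← map_smul, ← map_smul, algebraMap_smul, ← Submonoid.smul_def, Function.uncurry_apply_pair,
    IsLocalizedModule.mk'_cancel']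
  exact h m

theorem exists_lift {M : ModuleCat.{u} R} [Module.Finite R M] (φ : M.localizedModule S ⟶ YS) :
    ∃ (ψ : M ⟶ RS) (σ : S), ModuleCat.localizedModuleMap S ψ = algebraMap R (Localization S) σ • φ := by
  haveI : Module.FinitePresentation R M := Module.finitePresentation_of_finite R M
  let g : M →ₗ[R] YS :=
    { toFun := fun m => φ.hom (M.localizedModuleMkLinearMap S m)
      map_add' := fun a b => by rw [map_add, map_add]
      map_smul' := fun r a => by
        rw [map_smul, RingHom.id_apply, ← algebraMap_smul (Localization S) r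
          (M.localizedModuleMkLinearMap S a), map_smul, algebraMap_smul] }
  haveI := ModuleCat.localizedModule_isLocalizedModule Y S
  obtain ⟨h, σ, hσ⟩ := Module.FinitePresentation.exists_lift_of_isLocalizedModule S
    (Y.localizedModuleMkLinearMap S) g
  refine ⟨ModuleCat.ofHom h, σ, hom_ext_mk _ _ fun m => ?_⟩
  refine (locMap_mk (ModuleCat.ofHom h) m).trans ?_
  refine (LinearMap.congr_fun hσ m).trans ?_
  exact (algebraMap_smul (Localization S) (σ : R) _).symm

theorem map_smul_hom {M : ModuleCat.{u} R} (ψ : M ⟶ RS) (r : R) :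
    ModuleCat.localizedModuleMap S (r • ψ) =
      algebraMap R (Localization S) r • ModuleCat.localizedModuleMap S ψ := by
  refine hom_ext_mk _ _ fun m => ?_
  rw [locMap_mk]
  show _ = algebraMap R (Localization S) r • (ModuleCat.localizedModuleMap S ψ).hom _
  rw [locMap_mk, algebraMap_smul, ← map_smul]
  rfl

theorem exists_smul_eq_zero {M : ModuleCat.{u} R} [Module.Finite R M] (ψ : M ⟶ RS)
    (h : ModuleCat.localizedModuleMap S ψ = 0) : ∃ σ : S, (σ : R) • ψ = 0 := by
  classical
  obtain ⟨t, ht⟩ := (Module.Finite.fg_top : (⊤ : Submodule R M).FG)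
  have hx : ∀ m : M, ∃ σ : S, (σ : R) • ψ.hom m = 0 := fun m => by
    have h1 : Y.localizedModuleMkLinearMap S (ψ.hom m) = 0 := by
      rw [← locMap_mk, h]; rfl
    haveI := ModuleCat.localizedModule_isLocalizedModule Y S
    obtain ⟨σ, hσ⟩ := (IsLocalizedModule.eq_zero_iff S _).1 h1
    exact ⟨σ, hσ⟩
  choose σ hσ using hx
  refine ⟨∏ m ∈ t, σ m, ModuleCat.hom_ext (LinearMap.ext_on ht fun m hm => ?_)⟩
  show ((∏ m ∈ t, σ m : S) : R) • ψ.hom m = 0
  rw [← Finset.prod_erase_mul t σ hm, Submonoid.coe_mul, mul_smul, hσ, smul_zero]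

theorem smul_eq_zero_cancel {X Y : ModuleCat.{u} (Localization S)} {φ : X ⟶ Y} (σ : S)
    (h : algebraMap R (Localization S) σ • φ = 0) : φ = 0 :=
  (IsUnit.smul_eq_zero (IsLocalization.map_units (Localization S) σ)).1 h

theorem projective_loc_pi {F : ModuleCat.{u} R} [Module.Projective R F] :
    Projective (F.localizedModule S) := by
  have hb := IsLocalizedModule.isBaseChange S (Localization S) (F.localizedModuleMkLinearMap S)
  haveI : Module.Projective (Localization S) (F.localizedModule S) := Module.Projective.of_equiv hb.equiv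
  exact (IsProjective.iff_projective (R := Localization S) _).1 inferInstance

/-- `Ext^s_{R_S}(M_S, R_S) = 0` iff every class of `Ext^s_R(M,R)` is killed by an element of `S`. -/
theorem subsingleton_ext_localized_iff : ∀ (s : ℕ) (M : ModuleCat.{u} R) [Module.Finite R M],
    Subsingleton (Ext (M.localizedModule S) YS s) ↔ ExtKilled S Y s M := by
  intro s
  induction s with
  | zero =>
    intro M _
    constructor
    · intro h e
      obtain ⟨ψ, rfl⟩ := (Ext.mk₀_bijective M RS).2 e
      obtain ⟨σ, hσ⟩ := exists_smul_eq_zero ψ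
        ((Ext.mk₀_bijective _ _).1 (h.elim (Ext.mk₀ (ModuleCat.localizedModuleMap S ψ)) (Ext.mk₀ 0)))
      exact ⟨σ, by rw [← Ext.mk₀_smul, hσ, Ext.mk₀_zero]⟩
    · intro h
      refine subsingleton_of_forall_eq 0 fun e => ?_
      obtain ⟨φ, rfl⟩ := (Ext.mk₀_bijective _ _).2 e
      obtain ⟨ψ, σ, hσ⟩ := exists_lift φ
      obtain ⟨τ, hτ⟩ := h (Ext.mk₀ ψ)
      rw [← Ext.mk₀_smul, ← Ext.mk₀_zero] at hτ
      have h0 : algebraMap R (Localization S) (τ : R) • (algebraMap R (Localization S) (σ : R) • φ) = 0 := by
        rw [← hσ, ← map_smul_hom, (Ext.mk₀_bijective _ _).1 hτ]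
        exact hom_ext_mk _ _ fun m => (locMap_mk 0 m).trans (map_zero _)
      rw [smul_eq_zero_cancel σ (smul_eq_zero_cancel τ h0), Ext.mk₀_zero]
  | succ s ih =>
    intro M _
    obtain ⟨r, E, hE, hE2, hf1, hf2, rfl, hproj⟩ := exists_pres M
    haveI := hf1; haveI := hf2; haveI := hproj
    haveI : Module.Projective R E.X₂ := by rw [hE2]; infer_instance
    let T : ShortComplex (ModuleCat.{u} (Localization S)) :=
      ShortComplex.mk (X₁ := E.X₁.localizedModule S) (X₂ := E.X₂.localizedModule S) (X₃ := E.X₃.localizedModule S)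
        (ModuleCat.localizedModuleMap S E.f) (ModuleCat.localizedModuleMap S E.g)
        (E.map (ModuleCat.localizedModuleFunctor S)).zero
    have hT : T.ShortExact := hE.map_of_exact (ModuleCat.localizedModuleFunctor S)
    haveI : Projective (E.X₂.localizedModule S) := projective_loc_pi
    let D := GrothLib.CanonMod.extDelta hE RS s (s + 1) (by omega)
    let D' := GrothLib.CanonMod.extDelta hT YS s (s + 1) (by omega)
    have hD : Function.Surjective D := fun x =>
      Ext.contravariant_sequence_exact₃ hE RS x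
        (Subsingleton.elim (h := Ext.subsingleton_of_projective E.X₂ RS s) _ _) (by omega)
    have hD' : Function.Surjective D' := fun x =>
      Ext.contravariant_sequence_exact₃ hT YS x
        (Subsingleton.elim (h := Ext.subsingleton_of_projective (E.X₂.localizedModule S) YS s) _ _) (by omega)
    rcases s with - | s
    · constructor
      · intro h e
        obtain ⟨a, rfl⟩ := hD e
        obtain ⟨ψ, rfl⟩ := (Ext.mk₀_bijective E.X₁ RS).2 a
        have h0 : D' (Ext.mk₀ (ModuleCat.localizedModuleMap S ψ)) = 0 := h.elim _ _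
        obtain ⟨y, hy⟩ := Ext.contravariant_sequence_exact₁ hT YS _ (by omega) h0
        obtain ⟨χ', rfl⟩ := (Ext.mk₀_bijective _ _).2 y
        rw [Ext.mk₀_comp_mk₀] at hy
        have hy' := (Ext.mk₀_bijective _ _).1 hy
        obtain ⟨χ, σ, hσ⟩ := exists_lift χ'
        have h1 : ModuleCat.localizedModuleMap S (E.f ≫ χ - (σ : R) • ψ) = 0 := by
          refine hom_ext_mk _ _ fun m => (locMap_mk _ m).trans ?_
          show Y.localizedModuleMkLinearMap S (χ.hom (E.f.hom m) - (σ : R) • ψ.hom m) = 0
          rw [map_sub, map_smul, ← locMap_mk χ, ← locMap_mk ψ, hσ, ← algebraMap_smul (Localization S) (σ : R),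
            ← hy']
          show algebraMap R (Localization S) (σ : R) • χ'.hom _ -
            algebraMap R (Localization S) (σ : R) • χ'.hom ((ModuleCat.localizedModuleMap S E.f).hom _) = 0
          rw [locMap_mk, sub_self]
        obtain ⟨τ, hτ⟩ := exists_smul_eq_zero _ h1
        refine ⟨τ * σ, ?_⟩
        rw [← map_smul, ← Ext.mk₀_smul]
        have h2 : (((τ * σ : S) : R) • ψ) = E.f ≫ ((τ : R) • χ) := by
          rw [smul_sub, sub_eq_zero] at hτ
          rw [Linear.comp_smul, hτ, Submonoid.coe_mul, mul_smul]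
        rw [h2, ← Ext.mk₀_comp_mk₀]
        show hE.extClass.comp ((Ext.mk₀ E.f).comp (Ext.mk₀ ((τ : R) • χ)) (zero_add 0)) (show 1 + 0 = 0 + 1 from rfl) = 0
        exact hE.extClass_comp_assoc _
      · intro h
        refine subsingleton_of_forall_eq 0 fun e => ?_
        obtain ⟨a, rfl⟩ := hD' e
        obtain ⟨φ, rfl⟩ := (Ext.mk₀_bijective _ _).2 a
        obtain ⟨ψ, σ, hσ⟩ := exists_lift φ
        obtain ⟨τ, hτ⟩ := h (D (Ext.mk₀ ψ))
        rw [← map_smul, ← Ext.mk₀_smul] at hτ
        obtain ⟨y, hy⟩ := Ext.contravariant_sequence_exact₁ hE RS _ (by omega) hτ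
        obtain ⟨χ, rfl⟩ := (Ext.mk₀_bijective _ _).2 y
        rw [Ext.mk₀_comp_mk₀] at hy
        have hy' := (Ext.mk₀_bijective _ _).1 hy
        have h1 : algebraMap R (Localization S) (τ : R) • (algebraMap R (Localization S) (σ : R) • φ) =
            ModuleCat.localizedModuleMap S E.f ≫ ModuleCat.localizedModuleMap S χ := by
          rw [← hσ, ← map_smul_hom, ← hy']
          exact (ModuleCat.localizedModuleFunctor S).map_comp E.f χ
        have h2 : algebraMap R (Localization S) (τ : R) •
            (algebraMap R (Localization S) (σ : R) • D' (Ext.mk₀ φ)) = 0 := by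
          rw [← map_smul, ← map_smul, ← Ext.mk₀_smul, ← Ext.mk₀_smul, h1, ← Ext.mk₀_comp_mk₀]
          show hT.extClass.comp ((Ext.mk₀ T.f).comp (Ext.mk₀ (ModuleCat.localizedModuleMap S χ)) (zero_add 0))
            (show 1 + 0 = 0 + 1 from rfl) = 0
          exact hT.extClass_comp_assoc _
        exact (IsUnit.smul_eq_zero (IsLocalization.map_units (Localization S) σ)).1
          ((IsUnit.smul_eq_zero (IsLocalization.map_units (Localization S) τ)).1 h2)
    · have hi : Function.Injective D := by
        refine (injective_iff_map_eq_zero _).2 fun x hx => ?_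
        obtain ⟨y, rfl⟩ := Ext.contravariant_sequence_exact₁ hE RS x (by omega) hx
        rw [Subsingleton.elim (h := Ext.subsingleton_of_projective E.X₂ RS s) y 0, Ext.comp_zero]
      have hi' : Function.Injective D' := by
        refine (injective_iff_map_eq_zero _).2 fun x hx => ?_
        obtain ⟨y, rfl⟩ := Ext.contravariant_sequence_exact₁ hT YS x (by omega) hx
        rw [Subsingleton.elim (h := Ext.subsingleton_of_projective (E.X₂.localizedModule S) YS s) y 0, Ext.comp_zero]
      constructor
      · intro h e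
        have : Subsingleton (Ext (E.X₁.localizedModule S) YS (s + 1)) :=
          @Function.Injective.subsingleton _ _ D' hi' h
        obtain ⟨a, rfl⟩ := hD e
        obtain ⟨σ, hσ⟩ := (ih E.X₁).1 this a
        exact ⟨σ, by rw [← map_smul, hσ, map_zero]⟩
      · intro h
        have : Subsingleton (Ext (E.X₁.localizedModule S) YS (s + 1)) := (ih E.X₁).2 fun a => by
          obtain ⟨σ, hσ⟩ := h (D a)
          exact ⟨σ, hi (by rw [map_smul, hσ, map_zero])⟩
        exact @Function.Surjective.subsingleton _ _ D' this hD'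

theorem ExtKilled.mono {S' : Submonoid R} (h : S ≤ S') {s : ℕ} {M : ModuleCat.{u} R}
    (hM : ExtKilled S Y s M) : ExtKilled S' Y s M := fun e => by
  obtain ⟨σ, hσ⟩ := hM e
  exact ⟨⟨σ, h σ.2⟩, hσ⟩

end GrothLib.GrLC.ExtLoc
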