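import Groth.Prelude.Def_GrLC

/-!
# The category of graded modules: components, subobjects, quotients, products, shifts
-/

universe u

open DirectSum

namespace GrothLib.GrLC

variable {ι : Type} [DecidableEq ι]

section Cmp

variable {M : Type*} [AddCommGroup M] {τ : Type*} [SetLike τ M] [AddSubgroupClass τ M] (ℳ : ι → τ)
  [Decomposition ℳ]

/-- the component of degree `g` -/
noncomputable def cmp (g : ι) : M →+ M where
  toFun x := (decompose ℳ x g : M)
  map_zero' := by simp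
  map_add' x y := by simp

theorem cmp_apply (g : ι) (x : M) : cmp ℳ g x = (decompose ℳ x g : M) := rfl

theorem cmp_mem (g : ι) (x : M) : cmp ℳ g x ∈ ℳ g := (decompose ℳ x g).2

theorem cmp_of_mem {g : ι} {x : M} (h : x ∈ ℳ g) : cmp ℳ g x = x := decompose_of_mem_same ℳ h

theorem cmp_of_mem_ne {g h : ι} {x : M} (hx : x ∈ ℳ h) (hne : h ≠ g) : cmp ℳ g x = 0 :=
  decompose_of_mem_ne ℳ hx hne

theorem exists_sum_cmp (x : M) : ∃ S : Finset ι, x = ∑ g ∈ S, cmp ℳ g x := by
  classical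
  exact ⟨_, (sum_support_decompose ℳ x).symm⟩

theorem eq_of_cmp {x y : M} (h : ∀ g, cmp ℳ g x = cmp ℳ g y) : x = y :=
  (decompose ℳ).injective (DFinsupp.ext fun g => Subtype.ext (h g))

theorem eq_zero_of_cmp {x : M} (h : ∀ g, cmp ℳ g x = 0) : x = 0 :=
  eq_of_cmp ℳ fun g => by rw [h g, map_zero]

theorem gr_induction {P : M → Prop} (h0 : P 0) (hh : ∀ g, ∀ x ∈ ℳ g, P x)
    (hadd : ∀ x y, P x → P y → P (x + y)) (x : M) : P x := by
  classical
  obtain ⟨S, hS⟩ := exists_sum_cmp ℳ x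
  rw [hS]
  exact Finset.sum_induction _ P hadd h0 fun g _ => hh g _ (cmp_mem ℳ g x)

end Cmp

variable [AddCommGroup ι] {R : Type u} [CommRing R] {σ : Type u} [SetLike σ R] [AddSubgroupClass σ R]
  {𝒜 : ι → σ} [GradedRing 𝒜]

section CmpSMul

variable {M : Type*} [AddCommGroup M] [Module R M] {τ : Type*} [SetLike τ M] [AddSubgroupClass τ M] (ℳ : ι → τ)
  [Decomposition ℳ] [SetLike.GradedSMul 𝒜 ℳ]

theorem smul_mem' {i g : ι} {r : R} (hr : r ∈ 𝒜 i) {x : M} (hx : x ∈ ℳ g) : r • x ∈ ℳ (i + g) :=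
  SetLike.GradedSMul.smul_mem hr hx

theorem cmp_smul_of_mem {i : ι} {r : R} (hr : r ∈ 𝒜 i) (x : M) (g : ι) :
    cmp ℳ g (r • x) = r • cmp ℳ (g - i) x := by
  induction x using gr_induction ℳ with
  | h0 => simp
  | hh h x hx =>
    by_cases hg : h = g - i
    · subst hg
      rw [cmp_of_mem ℳ hx, cmp_of_mem ℳ]
      simpa using smul_mem' ℳ hr hx
    · rw [cmp_of_mem_ne ℳ hx hg, smul_zero, cmp_of_mem_ne ℳ (smul_mem' ℳ hr hx)]
      exact fun h' => hg (by rw [← h', add_sub_cancel_left])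
  | hadd x y hx hy => rw [smul_add, map_add, map_add, hx, hy, smul_add]

theorem cmp_smul_mem (r : R) {h : ι} {x : M} (hx : x ∈ ℳ h) (g : ι) :
    cmp ℳ g (r • x) = cmp 𝒜 (g - h) r • x := by
  induction r using gr_induction 𝒜 with
  | h0 => simp
  | hh i r hr =>
    rw [cmp_smul_of_mem ℳ hr x g]
    by_cases hi : i = g - h
    · subst hi
      rw [cmp_of_mem 𝒜 hr, sub_sub_cancel, cmp_of_mem ℳ hx]
    · rw [cmp_of_mem_ne 𝒜 hr hi, zero_smul, cmp_of_mem_ne ℳ hx (fun h' => hi (by rw [h', sub_sub_cancel])), smul_zero]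
  | hadd a b ha hb => rw [add_smul, map_add, map_add, ha, hb, add_smul]

/-- A submodule closed under the action of homogeneous scalars. -/
theorem smul_mem_of_homogeneous (P : AddSubgroup M) (h : ∀ i, ∀ r ∈ 𝒜 i, ∀ x ∈ P, r • x ∈ P) (r : R) {x : M}
    (hx : x ∈ P) : r • x ∈ P := by
  induction r using gr_induction 𝒜 with
  | h0 => rw [zero_smul]; exact zero_mem P
  | hh i r hr => exact h i r hr x hx
  | hadd a b ha hb => rw [add_smul]; exact add_mem ha hb

end CmpSMul

section GrHom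

variable {M N L : Type u} [AddCommGroup M] [Module R M] [AddCommGroup N] [Module R N] [AddCommGroup L] [Module R L]
  {τ : Type*} [SetLike τ M] [AddSubgroupClass τ M] {ℳ : ι → τ}
  {τ' : Type*} [SetLike τ' N] [AddSubgroupClass τ' N] {𝒩 : ι → τ'}
  {τ'' : Type*} [SetLike τ'' L] [AddSubgroupClass τ'' L] {ℒ : ι → τ''}

theorem map_cmp [Decomposition ℳ] [Decomposition 𝒩] {f : M →ₗ[R] N}
    (hf : ∀ (g : ι) (m : M), m ∈ ℳ g → f m ∈ 𝒩 g) (g : ι) (x : M) : f (cmp ℳ g x) = cmp 𝒩 g (f x) := by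
  induction x using gr_induction ℳ with
  | h0 => simp
  | hh h x hx =>
    by_cases hg : h = g
    · subst hg
      rw [cmp_of_mem ℳ hx, cmp_of_mem 𝒩 (hf _ _ hx)]
    · rw [cmp_of_mem_ne ℳ hx hg, cmp_of_mem_ne 𝒩 (hf _ _ hx) hg, map_zero]
  | hadd a b ha hb => simp only [map_add, ha, hb]

end GrHom

section Internal

variable {M : Type*} [AddCommGroup M]

omit [AddCommGroup ι] in
theorem isInternal_of_proj (P : ι → AddSubgroup M) (p : ι → M →+ M) (h1 : ∀ g, ∀ x ∈ P g, p g x = x)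
    (h2 : ∀ g h, h ≠ g → ∀ x ∈ P h, p g x = 0) (hmem : ∀ g x, p g x ∈ P g)
    (h3 : ∀ x, ∃ S : Finset ι, x = ∑ g ∈ S, p g x) : IsInternal P := by
  classical
  have key : ∀ (d : ⨁ g, P g) (g : ι), p g (DirectSum.coeAddMonoidHom P d) = (d g : M) := by
    intro d g
    induction d using DirectSum.induction_on with
    | zero => simp
    | of h x =>
      rw [DirectSum.coeAddMonoidHom_of]
      by_cases hg : h = g
      · subst hg
        rw [of_eq_same, h1 _ _ x.2]
      · rw [of_eq_of_ne _ _ _ (fun h' => hg h'.symm), h2 _ _ hg _ x.2]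
        rfl
    | add a b ha hb => rw [map_add, map_add, ha, hb, DirectSum.add_apply, AddSubgroup.coe_add]
  refine ⟨fun a b hab => DFinsupp.ext fun g => Subtype.ext ?_, fun x => ?_⟩
  · rw [← key a g, ← key b g, hab]
  · obtain ⟨S, hS⟩ := h3 x
    refine ⟨∑ g ∈ S, of (fun g => P g) g ⟨p g x, hmem g x⟩, ?_⟩
    rw [map_sum]
    conv_rhs => rw [hS]
    exact Finset.sum_congr rfl fun g _ => DirectSum.coeAddMonoidHom_of _ _ _

end Internal

open _root_.GrLC (GMod IsGrHom IsStarInj)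

/-- A graded module from pieces with projections. -/
noncomputable def mkGMod (C : Type u) [AddCommGroup C] [Module R C] (P : ι → AddSubgroup C) (hP : IsInternal P)
    (hs : ∀ (i g : ι), ∀ r ∈ 𝒜 i, ∀ x ∈ P g, r • x ∈ P (i + g)) : GMod.{u} 𝒜 where
  carrier := C
  gr := P
  dec := hP.chooseDecomposition
  gsmul := ⟨fun {i g r x} hr hx => hs i g r hr x hx⟩

theorem eq_cmp_of_proj (X : GMod.{u} 𝒜) (g : ι) (x : X.carrier) {S : Finset ι} {y : ι → X.carrier}
    (hy : ∀ h, y h ∈ X.gr h) (hx : x = ∑ h ∈ S, y h) : cmp X.gr g x = if g ∈ S then y g else 0 := by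
  classical
  rw [hx, map_sum]
  split_ifs with hg
  · rw [Finset.sum_eq_single g (fun h _ hne => cmp_of_mem_ne _ (hy h) hne) (fun h => absurd hg h)]
    exact cmp_of_mem _ (hy g)
  · exact Finset.sum_eq_zero fun h hh => cmp_of_mem_ne _ (hy h) (fun e => hg (e ▸ hh))

section OfClass

variable {M : Type u} [AddCommGroup M] [Module R M] {τ : Type u} [SetLike τ M] [AddSubgroupClass τ M] (ℳ : ι → τ)
  [Decomposition ℳ] [SetLike.GradedSMul 𝒜 ℳ]

variable (𝒜) in
/-- bundle a graded module -/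
noncomputable abbrev gmod : GMod.{u} 𝒜 :=
  mkGMod M (fun g => AddSubgroup.ofClass (ℳ g))
    (isInternal_of_proj _ (cmp ℳ) (fun _ _ hx => cmp_of_mem ℳ hx) (fun _ _ hne _ hx => cmp_of_mem_ne ℳ hx hne)
      (cmp_mem ℳ) (exists_sum_cmp ℳ))
    fun _ _ _ hr _ hx => smul_mem' ℳ hr hx

end OfClass

section Constructions

variable (X Y : GMod.{u} 𝒜)

/-- homogeneous maps -/
abbrev IsHom {X Y : GMod.{u} 𝒜} (f : X.carrier →ₗ[R] Y.carrier) : Prop := IsGrHom X.gr Y.gr f

variable {X Y}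

theorem IsHom.cmp {f : X.carrier →ₗ[R] Y.carrier} (hf : IsHom f) (g : ι) (x : X.carrier) :
    f (GrLC.cmp X.gr g x) = GrLC.cmp Y.gr g (f x) := map_cmp hf g x

theorem IsHom.comp {Z : GMod.{u} 𝒜} {f : X.carrier →ₗ[R] Y.carrier} {g : Y.carrier →ₗ[R] Z.carrier}
    (hg : IsHom g) (hf : IsHom f) : IsHom (g ∘ₗ f) := fun d m hm => hg d _ (hf d m hm)

theorem IsHom.zero : IsHom (0 : X.carrier →ₗ[R] Y.carrier) := fun d _ _ => zero_mem (Y.gr d)

theorem IsHom.id : IsHom (LinearMap.id : X.carrier →ₗ[R] X.carrier) := fun _ _ hm => hm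

theorem IsHom.add {f g : X.carrier →ₗ[R] Y.carrier} (hf : IsHom f) (hg : IsHom g) : IsHom (f + g) :=
  fun d m hm => add_mem (hf d m hm) (hg d m hm)

theorem IsHom.neg {f : X.carrier →ₗ[R] Y.carrier} (hf : IsHom f) : IsHom (-f) :=
  fun d m hm => neg_mem (hf d m hm)

theorem IsHom.sub {f g : X.carrier →ₗ[R] Y.carrier} (hf : IsHom f) (hg : IsHom g) : IsHom (f - g) :=
  fun d m hm => sub_mem (hf d m hm) (hg d m hm)

theorem IsHom.sum {α : Type*} (s : Finset α) {f : α → (X.carrier →ₗ[R] Y.carrier)} (hf : ∀ a ∈ s, IsHom (f a)) :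
    IsHom (∑ a ∈ s, f a) :=
  Finset.sum_induction f IsHom (fun _ _ => IsHom.add) IsHom.zero hf

theorem isHomogeneous_ker {f : X.carrier →ₗ[R] Y.carrier} (hf : IsHom f) :
    (LinearMap.ker f).IsHomogeneous X.gr := fun g x hx => by
  change f (GrLC.cmp X.gr g x) = 0
  rw [hf.cmp, show f x = 0 from hx, map_zero]

theorem isHomogeneous_range {f : X.carrier →ₗ[R] Y.carrier} (hf : IsHom f) :
    (LinearMap.range f).IsHomogeneous Y.gr := by
  rintro g _ ⟨x, rfl⟩
  exact ⟨GrLC.cmp X.gr g x, hf.cmp g x⟩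

theorem isHomogeneous_map {f : X.carrier →ₗ[R] Y.carrier} (hf : IsHom f) {P : Submodule R X.carrier}
    (hP : P.IsHomogeneous X.gr) : (P.map f).IsHomogeneous Y.gr := by
  rintro g _ ⟨x, hx, rfl⟩
  exact ⟨GrLC.cmp X.gr g x, hP g hx, hf.cmp g x⟩

theorem isHomogeneous_inf {P Q : Submodule R X.carrier} (hP : P.IsHomogeneous X.gr) (hQ : Q.IsHomogeneous X.gr) :
    (P ⊓ Q).IsHomogeneous X.gr := fun g _ hx => ⟨hP g hx.1, hQ g hx.2⟩

theorem pow_isHomogeneous (a : HomogeneousIdeal 𝒜) : ∀ n : ℕ, (a.toIdeal ^ n).IsHomogeneous 𝒜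
  | 0 => by rw [pow_zero, Ideal.one_eq_top]; exact Ideal.IsHomogeneous.top 𝒜
  | n + 1 => by rw [pow_succ]; exact (pow_isHomogeneous a n).mul a.isHomogeneous

theorem isHomogeneous_gam (a : HomogeneousIdeal 𝒜) :
    (_root_.GrLC.gam a.toIdeal X.carrier).IsHomogeneous X.gr := by
  rintro g x ⟨n, hn⟩
  refine ⟨n, fun r hr => ?_⟩
  obtain ⟨S, hS⟩ := exists_sum_cmp 𝒜 r
  rw [hS, Finset.sum_smul]
  refine Finset.sum_eq_zero fun i _ => ?_
  have h := congrArg (GrLC.cmp X.gr (i + g)) (hn (GrLC.cmp 𝒜 i r) (pow_isHomogeneous a n i hr))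
  rw [cmp_smul_of_mem X.gr (cmp_mem 𝒜 i r), map_zero, add_sub_cancel_left] at h
  exact h

theorem map_gam {a : Ideal R} {M N : Type u} [AddCommGroup M] [Module R M] [AddCommGroup N] [Module R N]
    (f : M →ₗ[R] N) {x : M} (hx : x ∈ _root_.GrLC.gam a M) : f x ∈ _root_.GrLC.gam a N := by
  obtain ⟨n, hn⟩ := hx
  exact ⟨n, fun r hr => by rw [← map_smul, hn r hr, map_zero]⟩

variable (X)

/-- a homogeneous submodule -/
noncomputable abbrev sub (P : Submodule R X.carrier) (hP : P.IsHomogeneous X.gr) : GMod.{u} 𝒜 :=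
  mkGMod P (fun g => (X.gr g).comap P.subtype.toAddMonoidHom)
    (isInternal_of_proj _
      (fun g => AddMonoidHom.mk' (fun x => (⟨GrLC.cmp X.gr g x.1, hP g x.2⟩ : P))
        fun x y => Subtype.ext (map_add _ x.1 y.1))
      (fun _ x hx => Subtype.ext (cmp_of_mem X.gr hx))
      (fun _ _ hne x hx => Subtype.ext (cmp_of_mem_ne X.gr hx hne))
      (fun g x => cmp_mem X.gr g x.1)
      (fun x => by
        obtain ⟨S, hS⟩ := exists_sum_cmp X.gr x.1
        refine ⟨S, Subtype.ext ?_⟩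
        rw [AddSubmonoidClass.coe_finsetSum]
        exact hS))
    fun _ _ _ hr x hx => smul_mem' X.gr hr hx

/-- the quotient by a homogeneous submodule -/
noncomputable abbrev quot (P : Submodule R X.carrier) (hP : P.IsHomogeneous X.gr) : GMod.{u} 𝒜 :=
  mkGMod (X.carrier ⧸ P) (fun g => (X.gr g).map P.mkQ.toAddMonoidHom)
    (isInternal_of_proj _
      (fun g => QuotientAddGroup.lift P.toAddSubgroup (P.mkQ.toAddMonoidHom.comp (GrLC.cmp X.gr g))
        fun x hx => (Submodule.Quotient.mk_eq_zero P).2 (hP g hx))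
      (fun g x hx => by
        obtain ⟨y, hy, rfl⟩ := hx
        exact congrArg P.mkQ (cmp_of_mem X.gr hy))
      (fun g h hne x hx => by
        obtain ⟨y, hy, rfl⟩ := hx
        change P.mkQ (GrLC.cmp X.gr g y) = 0
        rw [cmp_of_mem_ne X.gr hy hne, map_zero])
      (fun g x => by
        obtain ⟨y, rfl⟩ := Submodule.mkQ_surjective P x
        exact ⟨_, cmp_mem X.gr g y, rfl⟩)
      (fun x => by
        obtain ⟨y, rfl⟩ := Submodule.mkQ_surjective P x
        obtain ⟨S, hS⟩ := exists_sum_cmp X.gr y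
        refine ⟨S, ?_⟩
        conv_lhs => rw [hS, map_sum]
        rfl))
    fun i g r hr x hx => by
      obtain ⟨y, hy, rfl⟩ := hx
      exact ⟨r • y, smul_mem' X.gr hr hy, map_smul P.mkQ r y⟩

theorem isHom_subtype (P : Submodule R X.carrier) (hP : P.IsHomogeneous X.gr) :
    IsHom (X := sub X P hP) (Y := X) P.subtype := fun _ _ hx => hx

theorem isHom_mkQ (P : Submodule R X.carrier) (hP : P.IsHomogeneous X.gr) :
    IsHom (X := X) (Y := quot X P hP) P.mkQ := fun _ x hx => ⟨x, hx, rfl⟩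

variable (Y)

/-- the product -/
noncomputable abbrev prod : GMod.{u} 𝒜 :=
  mkGMod (X.carrier × Y.carrier) (fun g => (X.gr g).prod (Y.gr g))
    (isInternal_of_proj _ (fun g => (GrLC.cmp X.gr g).prodMap (GrLC.cmp Y.gr g))
      (fun _ _ hx => Prod.ext (cmp_of_mem X.gr hx.1) (cmp_of_mem Y.gr hx.2))
      (fun _ _ hne _ hx => Prod.ext (cmp_of_mem_ne X.gr hx.1 hne) (cmp_of_mem_ne Y.gr hx.2 hne))
      (fun g x => ⟨cmp_mem X.gr g x.1, cmp_mem Y.gr g x.2⟩)
      (fun x => by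
        classical
        obtain ⟨S, hS⟩ := exists_sum_cmp X.gr x.1
        obtain ⟨T, hT⟩ := exists_sum_cmp Y.gr x.2
        refine ⟨S ∪ T, Prod.ext ?_ ?_⟩
        · rw [Prod.fst_sum]
          refine Eq.trans ?_ (Finset.sum_subset (Finset.subset_union_left (s₂ := T)) fun g _ hg => ?_)
          · exact hS
          · change GrLC.cmp X.gr g x.1 = 0
            rw [eq_cmp_of_proj X g x.1 (fun h => cmp_mem X.gr h x.1) hS, if_neg hg]
        · rw [Prod.snd_sum]
          refine Eq.trans ?_ (Finset.sum_subset (Finset.subset_union_right (s₁ := S)) fun g _ hg => ?_)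
          · exact hT
          · change GrLC.cmp Y.gr g x.2 = 0
            rw [eq_cmp_of_proj Y g x.2 (fun h => cmp_mem Y.gr h x.2) hT, if_neg hg]))
    fun _ _ _ hr _ hx => ⟨smul_mem' X.gr hr hx.1, smul_mem' Y.gr hr hx.2⟩

/-- a family of graded modules -/
noncomputable abbrev pi {κ : Type u} [Finite κ] (Z : κ → GMod.{u} 𝒜) : GMod.{u} 𝒜 :=
  mkGMod (∀ a, (Z a).carrier) (fun g => AddSubgroup.pi Set.univ fun a => (Z a).gr g)
    (isInternal_of_proj _ (fun g => AddMonoidHom.mk' (fun x a => GrLC.cmp (Z a).gr g (x a))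
        fun x y => funext fun a => map_add _ _ _)
      (fun _ _ hx => funext fun a => cmp_of_mem (Z a).gr (hx a trivial))
      (fun _ _ hne _ hx => funext fun a => cmp_of_mem_ne (Z a).gr (hx a trivial) hne)
      (fun g x a _ => cmp_mem (Z a).gr g (x a))
      (fun x => by
        classical
        cases nonempty_fintype κ
        choose S hS using fun a => exists_sum_cmp (Z a).gr (x a)
        refine ⟨Finset.univ.biUnion S, funext fun a => ?_⟩
        rw [Finset.sum_apply]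
        refine Eq.trans ?_ (Finset.sum_subset (Finset.subset_biUnion_of_mem S (Finset.mem_univ a)) fun g _ hg => ?_)
        · exact hS a
        · change GrLC.cmp (Z a).gr g (x a) = 0
          rw [eq_cmp_of_proj (Z a) g (x a) (fun h => cmp_mem (Z a).gr h (x a)) (hS a), if_neg hg]))
    fun _ _ r hr x hx a _ => smul_mem' (Z a).gr hr (hx a trivial)

/-- the shift `X(d)` -/
noncomputable abbrev shift (d : ι) : GMod.{u} 𝒜 :=
  mkGMod X.carrier (fun g => X.gr (g + d))
    (isInternal_of_proj _ (fun g => GrLC.cmp X.gr (g + d)) (fun _ _ hx => cmp_of_mem X.gr hx)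
      (fun _ _ hne _ hx => cmp_of_mem_ne X.gr hx fun h => hne (add_right_cancel h)) (fun g x => cmp_mem X.gr _ x)
      (fun x => by
        classical
        obtain ⟨S, hS⟩ := exists_sum_cmp X.gr x
        refine ⟨S.image (· - d), ?_⟩
        rw [Finset.sum_image fun a _ b _ h => sub_left_injective h]
        simpa only [sub_add_cancel] using hS))
    fun i g _ hr _ hx => by rw [add_assoc]; exact smul_mem' X.gr hr hx

variable {X Y}

/-- Extension of homogeneous maps into an injective object. -/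
theorem exists_extend {A B I : GMod.{u} 𝒜} (hI : IsStarInj 𝒜 I.gr) (g : A.carrier →ₗ[R] B.carrier) (hg : IsHom g)
    (h : A.carrier →ₗ[R] I.carrier) (hh : IsHom h) (hker : LinearMap.ker g ≤ LinearMap.ker h) :
    ∃ h' : B.carrier →ₗ[R] I.carrier, IsHom h' ∧ h' ∘ₗ g = h := by
  let K := LinearMap.ker g
  have hK := isHomogeneous_ker hg
  obtain ⟨h', hh', e⟩ := hI (quot A K hK) B (K.liftQ g le_rfl)
    (by rintro d _ ⟨y, hy, rfl⟩; exact hg d y hy)
    (LinearMap.ker_eq_bot.1 (Submodule.ker_liftQ_eq_bot _ _ _ le_rfl))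
    (K.liftQ h hker) (by rintro d _ ⟨y, hy, rfl⟩; exact hh d y hy)
  refine ⟨h', hh', LinearMap.ext fun x => ?_⟩
  exact LinearMap.congr_fun e (K.mkQ x)

end Constructions

end GrothLib.GrLC
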