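import Groth.Agent.Lib.GrLC.Basic
import Mathlib.Algebra.Module.CharacterModule

/-!
# Cofree graded modules: there are enough *injective graded modules
-/

universe u

open DirectSum

namespace GrothLib.GrLC

open _root_.GrLC (GMod IsGrHom IsStarInj StarInjRes)

variable {ι : Type} [AddCommGroup ι] [DecidableEq ι] {R : Type u} [CommRing R] {σ : Type u} [SetLike σ R]
  [AddSubgroupClass σ R] {𝒜 : ι → σ} [GradedRing 𝒜]

section Cofree

variable {κ : Type u} (deg : κ → ι)

variable (𝒜) in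
/-- projection to degree `g` -/
noncomputable def cfProj (g : ι) : (κ → CharacterModule R) →+ (κ → CharacterModule R) :=
  AddMonoidHom.mk' (fun φ k => AddMonoidHom.comp (φ k) (cmp 𝒜 (deg k - g))) fun _ _ => rfl

variable (𝒜) in
/-- degree `g` part -/
def cfP (g : ι) : AddSubgroup (κ → CharacterModule R) where
  carrier := {φ | ∀ k s, φ k s = φ k (cmp 𝒜 (deg k - g) s)}
  zero_mem' _ _ := rfl
  add_mem' {a b} ha hb k s := by
    change a k s + b k s = a k _ + b k _
    rw [ha k s, hb k s]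
  neg_mem' {a} ha k s := by
    change -(a k s) = -(a k _)
    rw [ha k s]

theorem cfProj_mem (g : ι) (φ : κ → CharacterModule R) : cfProj 𝒜 deg g φ ∈ cfP 𝒜 deg g := fun k s =>
  congrArg (φ k) (cmp_of_mem 𝒜 (cmp_mem 𝒜 _ s)).symm

theorem smul_cfP {i g : ι} {r : R} (hr : r ∈ 𝒜 i) {φ : κ → CharacterModule R} (hφ : φ ∈ cfP 𝒜 deg g) :
    r • φ ∈ cfP 𝒜 deg (i + g) := fun k s => by
  change φ k (r • s) = φ k (r • cmp 𝒜 (deg k - (i + g)) s)
  rw [hφ k (r • s), cmp_smul_of_mem 𝒜 hr, sub_sub, add_comm g i]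

variable (𝒜) in
/-- the underlying submodule of the cofree graded module -/
noncomputable def cfC : Submodule R (κ → CharacterModule R) where
  toAddSubmonoid := (⨆ g, cfP 𝒜 deg g).toAddSubmonoid
  smul_mem' r φ hφ := by
    induction r using gr_induction 𝒜 with
    | h0 => rw [zero_smul]; exact AddSubgroup.zero_mem _
    | hh i r hr =>
      refine AddSubgroup.iSup_induction (C := fun ψ => r • ψ ∈ ⨆ g, cfP 𝒜 deg g) (cfP 𝒜 deg) hφ
        (fun g ψ hψ => AddSubgroup.mem_iSup_of_mem (i + g) (smul_cfP deg hr hψ))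
        (by rw [smul_zero]; exact zero_mem _) fun a b ha hb => by rw [smul_add]; exact add_mem ha hb
    | hadd a b ha hb => rw [add_smul]; exact AddSubgroup.add_mem _ ha hb

theorem mem_cfC {g : ι} {φ : κ → CharacterModule R} (h : φ ∈ cfP 𝒜 deg g) : φ ∈ cfC 𝒜 deg :=
  AddSubgroup.mem_iSup_of_mem g h

variable (𝒜) in
/-- the cofree graded module -/
noncomputable abbrev cofree : GMod.{u} 𝒜 :=
  mkGMod (cfC 𝒜 deg) (fun g => (cfP 𝒜 deg g).comap (cfC 𝒜 deg).subtype.toAddMonoidHom)
    (isInternal_of_proj _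
      (fun g => AddMonoidHom.mk' (fun φ => (⟨cfProj 𝒜 deg g φ.1, mem_cfC deg (cfProj_mem deg g _)⟩ : cfC 𝒜 deg))
        fun x y => Subtype.ext (map_add _ x.1 y.1))
      (fun g φ hφ => Subtype.ext (funext fun k => AddMonoidHom.ext fun s => (hφ k s).symm))
      (fun g h hne φ hφ => Subtype.ext (funext fun k => AddMonoidHom.ext fun s => by
        change φ.1 k (cmp 𝒜 (deg k - g) s) = 0
        have h' : φ.1 k (cmp 𝒜 (deg k - g) s) = φ.1 k (cmp 𝒜 (deg k - h) (cmp 𝒜 (deg k - g) s)) := hφ k _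
        rw [h', cmp_of_mem_ne 𝒜 (cmp_mem 𝒜 _ s) fun e => hne (sub_right_injective e).symm, map_zero]))
      (fun g φ => cfProj_mem deg g φ.1)
      (fun φ => by
        classical
        suffices ∀ g, ∀ ψ ∈ cfP 𝒜 deg g, ∀ h, cfProj 𝒜 deg h ψ = if h = g then ψ else 0 by
          obtain ⟨ψ, hψ⟩ := φ
          have key : ∃ S : Finset ι, (∀ h ∉ S, cfProj 𝒜 deg h ψ = 0) ∧ ψ = ∑ h ∈ S, cfProj 𝒜 deg h ψ := by
            refine AddSubgroup.iSup_induction (C := fun ψ => ∃ S : Finset ι, (∀ h ∉ S, cfProj 𝒜 deg h ψ = 0) ∧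
              ψ = ∑ h ∈ S, cfProj 𝒜 deg h ψ) _ hψ (fun g x hx => ⟨{g}, fun h hh => ?_, ?_⟩)
              ⟨∅, fun _ _ => map_zero _, by simp⟩ ?_
            · rw [this g x hx, if_neg (by simpa using hh)]
            · simp [this g x hx]
            · rintro a b ⟨S, hS, ea⟩ ⟨T, hT, eb⟩
              refine ⟨S ∪ T, fun h hh => ?_, ?_⟩
              · rw [Finset.mem_union, not_or] at hh
                rw [map_add, hS h hh.1, hT h hh.2, add_zero]
              · simp only [map_add, Finset.sum_add_distrib]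
                rw [← Finset.sum_subset Finset.subset_union_left (fun h _ hh => hS h hh),
                  ← Finset.sum_subset Finset.subset_union_right (fun h _ hh => hT h hh), ← ea, ← eb]
          obtain ⟨S, -, hS⟩ := key
          refine ⟨S, Subtype.ext ?_⟩
          rw [AddSubmonoidClass.coe_finsetSum]
          exact hS
        intro g ψ hψ h
        funext k
        refine AddMonoidHom.ext fun s => ?_
        change ψ k (cmp 𝒜 (deg k - h) s) = _
        split_ifs with e
        · subst e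
          exact (hψ k s).symm
        · rw [hψ k, cmp_of_mem_ne 𝒜 (cmp_mem 𝒜 _ s) fun e' => e (sub_right_injective e'), map_zero]
          rfl))
    fun _ _ _ hr _ hφ => smul_cfP deg hr hφ

/-- the homogeneous map given by a family of characters -/
noncomputable def toCofree (N : GMod.{u} 𝒜) (ξ : κ → CharacterModule N.carrier) :
    N.carrier →ₗ[R] (cofree 𝒜 deg).carrier :=
  LinearMap.codRestrict (cfC 𝒜 deg)
    { toFun := fun b k => AddMonoidHom.mk' (fun s => ξ k (cmp N.gr (deg k) (s • b)))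
        fun s t => by rw [add_smul, map_add, map_add]
      map_add' := fun b b' => funext fun k => AddMonoidHom.ext fun s => by
        change ξ k (cmp N.gr (deg k) (s • (b + b'))) = ξ k (cmp N.gr (deg k) (s • b)) + ξ k (cmp N.gr (deg k) (s • b'))
        rw [smul_add, map_add, map_add]
      map_smul' := fun r b => funext fun k => AddMonoidHom.ext fun s => by
        change ξ k (cmp N.gr (deg k) (s • r • b)) = ξ k (cmp N.gr (deg k) ((r • s) • b))
        rw [smul_smul, smul_eq_mul, mul_comm] }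
    fun b => by
      induction b using gr_induction N.gr with
      | h0 => rw [map_zero]; exact zero_mem _
      | hh g b hb =>
        refine mem_cfC deg (g := g) fun k s => ?_
        change ξ k (cmp N.gr (deg k) (s • b)) = ξ k (cmp N.gr (deg k) (cmp 𝒜 (deg k - g) s • b))
        rw [cmp_smul_mem (𝒜 := 𝒜) N.gr _ hb, cmp_smul_mem (𝒜 := 𝒜) N.gr _ hb, cmp_of_mem 𝒜 (cmp_mem 𝒜 _ s)]
      | hadd x y hx hy => rw [map_add]; exact add_mem hx hy

theorem toCofree_apply (N : GMod.{u} 𝒜) (ξ : κ → CharacterModule N.carrier) (b : N.carrier) (k : κ) (s : R) :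
    (toCofree deg N ξ b).1 k s = ξ k (cmp N.gr (deg k) (s • b)) := rfl

theorem isHom_toCofree (N : GMod.{u} 𝒜) (ξ : κ → CharacterModule N.carrier) : IsHom (toCofree deg N ξ) := by
  intro g b hb k s
  change ξ k (cmp N.gr (deg k) (s • b)) = ξ k (cmp N.gr (deg k) (cmp 𝒜 (deg k - g) s • b))
  rw [cmp_smul_mem (𝒜 := 𝒜) N.gr _ hb, cmp_smul_mem (𝒜 := 𝒜) N.gr _ hb, cmp_of_mem 𝒜 (cmp_mem 𝒜 _ s)]

theorem isStarInj_cofree : IsStarInj 𝒜 (cofree 𝒜 deg).gr := by
  intro A B f hf hinj h hh
  let ξ : κ → CharacterModule A.carrier := fun k => AddMonoidHom.mk' (fun a => (h a).1 k 1) fun a a' => by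
    rw [map_add]; rfl
  choose ξ' hξ' using fun k => CharacterModule.dual_surjective_of_injective f hinj (ξ k)
  refine ⟨toCofree deg B ξ', isHom_toCofree deg B ξ', LinearMap.ext fun a => Subtype.ext (funext fun k =>
    AddMonoidHom.ext fun s => ?_)⟩
  change ξ' k (cmp B.gr (deg k) (s • f a)) = (h a).1 k s
  rw [← map_smul, ← map_cmp hf]
  refine (DFunLike.congr_fun (hξ' k) _).trans ?_
  change (h (cmp A.gr (deg k) (s • a))).1 k 1 = (h a).1 k s
  have e1 : ∀ b : A.carrier, (h (cmp A.gr (deg k) b)).1 k 1 = (h b).1 k 1 := by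
    intro b
    induction b using gr_induction A.gr with
    | h0 => rw [map_zero]
    | hh g b hb =>
      by_cases e : g = deg k
      · subst e; rw [cmp_of_mem _ hb]
      · have hm : (h b).1 k 1 = (h b).1 k (cmp 𝒜 (deg k - g) 1) := hh g b hb k 1
        rw [cmp_of_mem_ne _ hb e, map_zero, hm, cmp_of_mem_ne 𝒜 SetLike.GradedOne.one_mem
          (fun e' => e (sub_eq_zero.1 e'.symm).symm), map_zero]
        rfl
    | hadd x y hx hy =>
      rw [map_add, map_add, map_add]
      exact congrArg₂ (· + ·) hx hy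
  rw [e1, map_smul]
  change (h a).1 k (s • (1 : R)) = _
  rw [smul_eq_mul, mul_one]

end Cofree

variable (Y : GMod.{u} 𝒜)

/-- the cofree module on the characters of `Y` -/
noncomputable abbrev injOf : GMod.{u} 𝒜 := cofree 𝒜 (κ := ι × CharacterModule Y.carrier) Prod.fst

/-- the canonical embedding -/
noncomputable def toInjOf : Y.carrier →ₗ[R] (injOf Y).carrier := toCofree Prod.fst Y Prod.snd

theorem isHom_toInjOf : IsHom (toInjOf Y) := isHom_toCofree _ _ _

theorem toInjOf_injective : Function.Injective (toInjOf Y) := by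
  rw [← LinearMap.ker_eq_bot]
  refine (Submodule.eq_bot_iff _).2 fun y hy => eq_zero_of_cmp Y.gr fun c => ?_
  refine CharacterModule.eq_zero_of_character_apply fun χ => ?_
  have h : (toInjOf Y y).1 (c, χ) 1 = 0 := by
    rw [show toInjOf Y y = 0 from hy]
    rfl
  rw [toInjOf, toCofree_apply, one_smul] at h
  exact h

/-- the successive cokernels -/
noncomputable def syz : ℕ → GMod.{u} 𝒜
  | 0 => Y
  | n + 1 => quot (injOf (syz n)) (LinearMap.range (toInjOf (syz n))) (isHomogeneous_range (isHom_toInjOf _))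

variable {M : Type u} [AddCommGroup M] [Module R M] {τ : Type u} [SetLike τ M] [AddSubgroupClass τ M] (ℳ : ι → τ)
  [Decomposition ℳ] [SetLike.GradedSMul 𝒜 ℳ]

variable (𝒜) in
/-- a *injective resolution -/
noncomputable def starInjRes : StarInjRes 𝒜 ℳ where
  X n := injOf (syz (gmod 𝒜 ℳ) n)
  d n := toInjOf (syz (gmod 𝒜 ℳ) (n + 1)) ∘ₗ Submodule.mkQ (LinearMap.range (toInjOf (syz (gmod 𝒜 ℳ) n)))
  ε := toInjOf (gmod 𝒜 ℳ)
  d_grHom n := IsHom.comp (isHom_toInjOf (syz (gmod 𝒜 ℳ) (n + 1))) (isHom_mkQ (injOf (syz (gmod 𝒜 ℳ) n)) _ (isHomogeneous_range (isHom_toInjOf _)))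
  ε_grHom := isHom_toInjOf (gmod 𝒜 ℳ)
  ε_injective := toInjOf_injective (gmod 𝒜 ℳ)
  exact_zero := (LinearMap.ker_comp_of_ker_eq_bot _ (LinearMap.ker_eq_bot.2 (toInjOf_injective _))).trans
    (Submodule.ker_mkQ _)
  exact_succ n := ((LinearMap.ker_comp_of_ker_eq_bot _ (LinearMap.ker_eq_bot.2 (toInjOf_injective _))).trans
    (Submodule.ker_mkQ _)).trans (LinearMap.range_comp_of_range_eq_top _ (Submodule.range_mkQ _)).symm
  starInj _ := isStarInj_cofree _

end GrothLib.GrLC
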