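import Groth.Agent.Lib.GrLC.Compare
import Groth.Agent.Lib.LC.Shift
import Groth.Agent.Lib.LC.Zero
import Mathlib.Algebra.Category.ModuleCat.Projective
import Mathlib.Algebra.Homology.DerivedCategory.Ext.EnoughProjectives
import Mathlib.Algebra.Homology.ShortComplex.ModuleCat
import Mathlib.RingTheory.Noetherian.Basic

/-!
# *injective modules and ungraded `Ext`, local cohomology
-/

universe u

open DirectSum CategoryTheory CategoryTheory.Abelian

namespace GrothLib.GrLC

open _root_.GrLC (GMod IsGrHom IsStarInj StarInjRes gam)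

variable {ι : Type} [AddCommGroup ι] [DecidableEq ι] {R : Type u} [CommRing R] {σ : Type u} [SetLike σ R]
  [AddSubgroupClass σ R] {𝒜 : ι → σ} [GradedRing 𝒜]

theorem isStarInj_shift {I : GMod.{u} 𝒜} (hI : IsStarInj 𝒜 I.gr) (d : ι) : IsStarInj 𝒜 (shift I d).gr := by
  intro A B f hf hinj g hg
  obtain ⟨h, hh, e⟩ := hI (shift A (-d)) (shift B (-d)) f (fun t m hm => hf (t + -d) m hm) hinj g
    (fun t m hm => by
      have h : g m ∈ I.gr (t + -d + d) := hg (t + -d) m hm
      rwa [neg_add_cancel_right] at h)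
  refine ⟨h, fun t m hm => ?_, e⟩
  change h m ∈ I.gr (t + d)
  refine hh (t + d) m ?_
  change m ∈ B.gr (t + d + -d)
  rwa [add_neg_cancel_right]

/-- homogeneous generators -/
theorem exists_homogeneous_generators (X : GMod.{u} 𝒜) [Module.Finite R X.carrier] :
    ∃ (κ : Type u) (_ : Fintype κ) (deg : κ → ι) (gen : κ → X.carrier),
      (∀ a, gen a ∈ X.gr (deg a)) ∧ Submodule.span R (Set.range gen) = ⊤ := by
  classical
  obtain ⟨T, hT⟩ := (Module.Finite.fg_top : (⊤ : Submodule R X.carrier).FG)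
  choose S hS using fun t : X.carrier => exists_sum_cmp X.gr t
  refine ⟨(t : T) × ULift.{u} (S t.1), inferInstance, fun p => p.2.down.1,
    fun p => cmp X.gr p.2.down.1 p.1.1, fun p => cmp_mem X.gr _ _, ?_⟩
  rw [eq_top_iff, ← hT, Submodule.span_le]
  intro t ht
  rw [SetLike.mem_coe, hS t]
  exact Submodule.sum_mem _ fun g hg => Submodule.subset_span ⟨⟨⟨t, ht⟩, ⟨⟨g, hg⟩⟩⟩, rfl⟩

section Hom

variable (X Y : GMod.{u} 𝒜) (f : X.carrier →ₗ[R] Y.carrier)

/-- the degree `d` component of a linear map -/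
noncomputable def homCmpAdd (d : ι) : X.carrier →+ Y.carrier :=
  (DirectSum.toAddMonoid fun g => ((cmp Y.gr (g + d)).comp f.toAddMonoidHom).comp (X.gr g).subtype).comp
    (DirectSum.decomposeAddEquiv X.gr).toAddMonoidHom

theorem homCmpAdd_of_mem {d g : ι} {x : X.carrier} (hx : x ∈ X.gr g) :
    homCmpAdd X Y f d x = cmp Y.gr (g + d) (f x) := by
  change DirectSum.toAddMonoid _ (DirectSum.decompose X.gr x) = _
  rw [DirectSum.decompose_of_mem X.gr hx, DirectSum.toAddMonoid_of]
  rfl

/-- the degree `d` component of a linear map -/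
noncomputable def homCmp (d : ι) : X.carrier →ₗ[R] Y.carrier where
  toFun := homCmpAdd X Y f d
  map_add' := map_add _
  map_smul' r x := by
    rw [RingHom.id_apply]
    induction x using gr_induction X.gr with
    | h0 => simp
    | hadd a b ha hb => simp only [smul_add, map_add, ha, hb]
    | hh g x hx =>
      induction r using gr_induction 𝒜 with
      | h0 => simp
      | hadd a b ha hb => simp only [add_smul, map_add, ha, hb]
      | hh i r hr =>
        rw [homCmpAdd_of_mem X Y f (smul_mem' X.gr hr hx), homCmpAdd_of_mem X Y f hx, map_smul,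
          cmp_smul_of_mem Y.gr hr, add_assoc, add_sub_cancel_left]

theorem isHom_homCmp (d : ι) : IsHom (X := X) (Y := shift Y d) (homCmp X Y f d) := fun g x hx => by
  change homCmpAdd X Y f d x ∈ Y.gr (g + d)
  rw [homCmpAdd_of_mem X Y f hx]
  exact cmp_mem _ _ _

theorem exists_sum_homCmp [Module.Finite R X.carrier] : ∃ D : Finset ι, f = ∑ d ∈ D, homCmp X Y f d := by
  classical
  obtain ⟨κ, _, deg, gen, hgen, hspan⟩ := exists_homogeneous_generators X
  choose S hS using fun a => exists_sum_cmp Y.gr (f (gen a))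
  refine ⟨Finset.univ.biUnion fun a => (S a).image (· - deg a), LinearMap.ext_on_range hspan fun a => ?_⟩
  rw [LinearMap.sum_apply]
  have key : ∀ d, homCmp X Y f d (gen a) = cmp Y.gr (deg a + d) (f (gen a)) := fun d =>
    homCmpAdd_of_mem X Y f (hgen a)
  simp only [key]
  refine Eq.trans ?_ (Finset.sum_subset (s₁ := (S a).image (· - deg a))
    (Finset.subset_biUnion_of_mem (fun a => (S a).image (· - deg a)) (Finset.mem_univ a)) fun d _ hd => ?_)
  · rw [Finset.sum_image fun a _ b _ h => sub_left_injective h]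
    simp only [add_sub_cancel]
    exact hS a
  · rw [eq_cmp_of_proj Y (deg a + d) (f (gen a)) (fun h => cmp_mem Y.gr h _) (hS a), if_neg]
    exact fun h => hd (Finset.mem_image.2 ⟨_, h, add_sub_cancel_left _ _⟩)

theorem exists_extend_of_finite {Z I : GMod.{u} 𝒜} (hI : IsStarInj 𝒜 I.gr) [Module.Finite R X.carrier]
    (j : X.carrier →ₗ[R] Z.carrier) (hj : IsHom j) (hinj : Function.Injective j)
    (φ : X.carrier →ₗ[R] I.carrier) : ∃ ψ : Z.carrier →ₗ[R] I.carrier, ψ ∘ₗ j = φ := by
  obtain ⟨D, hD⟩ := exists_sum_homCmp X I φ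
  choose h e using fun d => (show ∃ h : Z.carrier →ₗ[R] I.carrier, h ∘ₗ j = homCmp X I φ d from
    let ⟨h, _, e⟩ := isStarInj_shift hI d X Z j hj hinj (homCmp X I φ d) (isHom_homCmp X I φ d)
    ⟨h, e⟩)
  refine ⟨∑ d ∈ D, h d, ?_⟩
  rw [hD]
  refine LinearMap.ext fun x => ?_
  rw [LinearMap.comp_apply, LinearMap.sum_apply, LinearMap.sum_apply]
  exact Finset.sum_congr rfl fun d _ => LinearMap.congr_fun (e d) x

end Hom

variable [IsNoetherianRing R]

theorem subsingleton_ext {I : GMod.{u} 𝒜} (hI : IsStarInj 𝒜 I.gr) : ∀ (n : ℕ) (X : GMod.{u} 𝒜),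
    Module.Finite R X.carrier →
      Subsingleton (Ext.{u} (ModuleCat.of R X.carrier) (ModuleCat.of R I.carrier) (n + 1)) := by
  intro n
  induction n with
  | zero => ?_
  | succ n ih => ?_
  all_goals
    intro X hX
    obtain ⟨κ, _, deg, gen, hgen, hspan⟩ := exists_homogeneous_generators X
    let F : GMod.{u} 𝒜 := pi fun a : κ => shift (gmod 𝒜 𝒜) (-deg a)
    let π : F.carrier →ₗ[R] X.carrier := (Fintype.linearCombination R gen : (κ → R) →ₗ[R] X.carrier)
    have hπ : IsHom π := fun g (v : κ → R) hv => by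
      change Fintype.linearCombination R gen v ∈ X.gr g
      rw [Fintype.linearCombination_apply]
      refine sum_mem fun a _ => ?_
      have := smul_mem' X.gr (show v a ∈ 𝒜 (g + -deg a) from hv a trivial) (hgen a)
      rwa [neg_add_cancel_right] at this
    have hsurj : Function.Surjective π := by
      change Function.Surjective (Fintype.linearCombination R gen : (κ → R) →ₗ[R] X.carrier)
      rw [← LinearMap.range_eq_top, Fintype.range_linearCombination, hspan]
    let K : GMod.{u} 𝒜 := sub F (LinearMap.ker π) (isHomogeneous_ker hπ)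
    have hFn : IsNoetherian R F.carrier := (inferInstance : IsNoetherian R (κ → R))
    have hK : Module.Finite R K.carrier := (inferInstance : Module.Finite R (LinearMap.ker π))
    have hproj : Module.Projective R F.carrier := (inferInstance : Module.Projective R (κ → R))
    have hP : Projective (ModuleCat.of R F.carrier) :=
      (IsProjective.iff_projective (R := R) F.carrier).1 hproj
    let S : ShortComplex (ModuleCat.{u} R) :=
      .mk (ModuleCat.ofHom (X := K.carrier) (Y := F.carrier) (LinearMap.ker π).subtype) (ModuleCat.ofHom π)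
        (ModuleCat.hom_ext (LinearMap.ext fun x : LinearMap.ker π => x.2))
    have hS : S.ShortExact :=
      { exact := (ShortComplex.ShortExact.moduleCat_exact_iff_function_exact S).2 (LinearMap.exact_subtype_ker_map π)
        mono_f := (ModuleCat.mono_iff_injective _).2 (Submodule.subtype_injective _)
        epi_g := (ModuleCat.epi_iff_surjective _).2 hsurj }
  · refine subsingleton_of_forall_eq 0 fun e => ?_
    obtain ⟨x₁, rfl⟩ := Ext.contravariant_sequence_exact₃ hS _ e
      (@Ext.eq_zero_of_projective _ _ _ _ _ _ _ hP _) (n₀ := 0) rfl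
    obtain ⟨φ, rfl⟩ := (Ext.mk₀_bijective _ _).2 x₁
    obtain ⟨ψ, hψ⟩ := exists_extend_of_finite K hI (Z := F) (LinearMap.ker π).subtype (isHom_subtype F _ _)
      (Submodule.subtype_injective _) φ.hom
    have : φ = S.f ≫ ModuleCat.ofHom ψ := ModuleCat.hom_ext hψ.symm
    rw [this, ← Ext.mk₀_comp_mk₀, ← Ext.comp_assoc_of_second_deg_zero, hS.extClass_comp, Ext.zero_comp]
  · refine subsingleton_of_forall_eq 0 fun e => ?_
    obtain ⟨x₁, rfl⟩ := Ext.contravariant_sequence_exact₃ hS _ e
      (@Ext.eq_zero_of_projective _ _ _ _ _ _ _ hP _) (n₀ := n + 1) (by omega)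
    exact (congrArg (fun y => hS.extClass.comp y _) (@Subsingleton.elim _ (ih K hK) x₁ 0)).trans
      (Ext.comp_zero _ _ _ _ _)

/-- A *injective module is acyclic for local cohomology. -/
theorem subsingleton_H {I : GMod.{u} 𝒜} (hI : IsStarInj 𝒜 I.gr) (a : HomogeneousIdeal 𝒜) (i : ℕ) :
    Subsingleton ((localCohomology a.toIdeal (i + 1)).obj (ModuleCat.of R I.carrier)) := by
  refine subsingleton_of_forall_eq 0 fun x => ?_
  obtain ⟨n, e, rfl⟩ := GrothLib.LC.exists_toH _ x
  let P : Submodule R (gmod 𝒜 𝒜).carrier := (a.toIdeal ^ n : Ideal R)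
  have hP : P.IsHomogeneous (gmod 𝒜 𝒜).gr := fun g r hr => by
    have e := cmp_eq_proj (gmod 𝒜 𝒜) (g := g) (cmp (M := R) 𝒜 g) (fun y hy => cmp_of_mem 𝒜 hy)
      (fun h hne y hy => cmp_of_mem_ne 𝒜 hy hne) r
    exact (congrArg (· ∈ (a.toIdeal ^ n : Submodule R R)) e).mpr (pow_isHomogeneous a n g hr)
  have hfin : Module.Finite R (quot (gmod 𝒜 𝒜) P hP).carrier :=
    (inferInstance : Module.Finite R (R ⧸ a.toIdeal ^ n))
  have h := subsingleton_ext hI i (quot (gmod 𝒜 𝒜) P hP) hfin
  exact (congrArg (GrothLib.LC.toH _ _ n _) (@Subsingleton.elim _ h e 0)).trans (map_zero _)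

section Compare

variable {M : Type u} [AddCommGroup M] [Module R M] {τ : Type u} [SetLike τ M] [AddSubgroupClass τ M] {ℳ : ι → τ}
  [Decomposition ℳ] [SetLike.GradedSMul 𝒜 ℳ] (E : StarInjRes 𝒜 ℳ) (a : HomogeneousIdeal 𝒜)

/-- the short exact sequences of cocycles -/
noncomputable def zSeq (j : ℕ) : ShortComplex (ModuleCat.{u} R) :=
  .mk (ModuleCat.ofHom (X := (Zmod E j).carrier) (Y := (E.X j).carrier) (LinearMap.ker (E.d j)).subtype)
    (ModuleCat.ofHom (toZ E j))
    (ModuleCat.hom_ext (LinearMap.ext fun z : LinearMap.ker (E.d j) => Subtype.ext z.2))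

omit [IsNoetherianRing R] in
theorem zSeq_shortExact (j : ℕ) : (zSeq E j).ShortExact where
  exact := (ShortComplex.ShortExact.moduleCat_exact_iff_function_exact (zSeq E j)).2 fun x =>
    ⟨fun (h : toZ E j x = 0) => ⟨(⟨x, congrArg Subtype.val h⟩ : LinearMap.ker (E.d j)), rfl⟩,
      by rintro ⟨z, rfl⟩; exact Subtype.ext z.2⟩
  mono_f := (ModuleCat.mono_iff_injective _).2 (Submodule.subtype_injective _)
  epi_g := (ModuleCat.epi_iff_surjective _).2 fun z => by
    obtain ⟨x, hx⟩ := (le_of_eq (E.exact_succ j)) z.2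
    exact ⟨x, Subtype.ext hx⟩

theorem nonempty_EH_zero :
    Nonempty (E.H a 0 ≃ₗ[R] (localCohomology a.toIdeal 0).obj (ModuleCat.of R (Zmod E 0).carrier)) := by
  let f : E.cocyc a 0 →ₗ[R] gam a.toIdeal (Zmod E 0).carrier :=
    ((Submodule.inclusion (inf_le_right : E.cocyc a 0 ≤ LinearMap.ker (E.d 0))) :
      E.cocyc a 0 →ₗ[R] (Zmod E 0).carrier).codRestrict _ fun z => (mem_gam_sub _ _ _ _).2 z.2.1
  have hf : Function.Bijective f :=
    ⟨fun z z' h => Subtype.ext
      (congrArg (fun v : gam a.toIdeal (Zmod E 0).carrier => (LinearMap.ker (E.d 0)).subtype v.1) h),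
      fun v => ⟨⟨(LinearMap.ker (E.d 0)).subtype v.1, (mem_gam_sub _ _ _ _).1 v.2, v.1.2⟩, rfl⟩⟩
  refine ⟨(Submodule.quotEquivOfEqBot _ ?_).trans ((LinearEquiv.ofBijective f hf).trans
    (GrothLib.LC.torsionEquiv a.toIdeal (ModuleCat.of R (Zmod E 0).carrier)))⟩
  exact (Submodule.eq_bot_iff _).2 fun z hz => Subtype.ext ((Submodule.mem_bot R).1 hz)

theorem nonempty_EH_succ (j : ℕ) :
    Nonempty (E.H a (j + 1) ≃ₗ[R] (localCohomology a.toIdeal 1).obj (ModuleCat.of R (Zmod E j).carrier)) := by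
  let f : E.cocyc a (j + 1) →ₗ[R] DRing.torsionSub a.toIdeal (zSeq E j).X₃ :=
    ((Submodule.inclusion (inf_le_right : E.cocyc a (j + 1) ≤ LinearMap.ker (E.d (j + 1)))) :
      E.cocyc a (j + 1) →ₗ[R] (Zmod E (j + 1)).carrier).codRestrict _ fun z =>
        (mem_gam_sub (X := E.X (j + 1)) (LinearMap.ker (E.d (j + 1))) (isHomogeneous_ker (E.d_grHom (j + 1)))
          a.toIdeal _).2 z.2.1
  have hf : Function.Surjective f := fun v =>
    ⟨⟨(LinearMap.ker (E.d (j + 1))).subtype v.1,
      (mem_gam_sub (X := E.X (j + 1)) (LinearMap.ker (E.d (j + 1))) (isHomogeneous_ker (E.d_grHom (j + 1)))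
        a.toIdeal _).1 v.2, v.1.2⟩, rfl⟩
  let g : E.cocyc a (j + 1) →ₗ[R] (localCohomology a.toIdeal 1).obj (ModuleCat.of R (Zmod E j).carrier) :=
    GrothLib.LC.torsionδ a.toIdeal (zSeq_shortExact E j) ∘ₗ f
  have hacyc : ∀ i, Subsingleton ((localCohomology a.toIdeal (i + 1)).obj (zSeq E j).X₂) :=
    subsingleton_H (E.starInj j) a
  have hg : Function.Surjective g :=
    (GrothLib.LC.torsionδ_surjective a.toIdeal (zSeq_shortExact E j) hacyc).comp hf
  refine ⟨(Submodule.quotEquivOfEq _ (LinearMap.ker g) ?_).trans (g.quotKerEquivOfSurjective hg)⟩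
  ext z
  rw [LinearMap.mem_ker]
  refine Iff.trans ?_ (GrothLib.LC.mem_ker_torsionδ a.toIdeal (zSeq_shortExact E j) (f z)).symm
  constructor
  · rintro ⟨b, hb, e⟩
    exact ⟨b, hb, Subtype.ext e⟩
  · rintro ⟨b, hb, e⟩
    exact ⟨b, hb, congrArg Subtype.val e⟩

theorem nonempty_shift_Z : ∀ j m : ℕ,
    Nonempty ((localCohomology a.toIdeal (m + 1)).obj (ModuleCat.of R (Zmod E j).carrier) ≃ₗ[R]
      (localCohomology a.toIdeal (m + 1 + j)).obj (ModuleCat.of R (Zmod E 0).carrier))
  | 0, m => ⟨LinearEquiv.refl R _⟩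
  | j + 1, m => by
    obtain ⟨e⟩ := nonempty_shift_Z j (m + 1)
    rw [show m + 1 + (j + 1) = m + 1 + 1 + j by omega]
    exact ⟨(GrothLib.LC.shiftEquiv a.toIdeal (zSeq_shortExact E j) (subsingleton_H (E.starInj j) a) m).trans e⟩

/-- Graded local cohomology with the grading forgotten is local cohomology. -/
theorem nonempty_EH_equiv (i : ℕ) :
    Nonempty (E.H a i ≃ₗ[R] (localCohomology a.toIdeal i).obj (ModuleCat.of R M)) := by
  have e0 : (localCohomology a.toIdeal i).obj (ModuleCat.of R (Zmod E 0).carrier) ≃ₗ[R]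
      (localCohomology a.toIdeal i).obj (ModuleCat.of R M) :=
    ((localCohomology a.toIdeal i).mapIso
      ((LinearEquiv.ofBijective (M := M) (toZ₀ E) (toZ₀_bijective E)).toModuleIso)).toLinearEquiv.symm
  cases i with
  | zero => exact (nonempty_EH_zero E a).map (·.trans e0)
  | succ j =>
    obtain ⟨e₁⟩ := nonempty_EH_succ E a j
    obtain ⟨e₂⟩ := nonempty_shift_Z E a j 0
    rw [show 0 + 1 + j = j + 1 by omega] at e₂
    exact ⟨(e₁.trans e₂).trans e0⟩

end Compare

end GrothLib.GrLC
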