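import Groth.Agent.Lib.GrLC.RegApp
import Groth.Agent.Lib.GrLC.ExtVanish

/-!
# Nonnegatively graded rings generated in degree one
-/

universe u

open DirectSum

namespace GrothLib.GrLC

open _root_.GrLC (GMod IsGrHom StarInjRes endDeg)

variable {R : Type u} [CommRing R] {σ : Type u} [SetLike σ R] [AddSubgroupClass σ R] {𝒜 : ℤ → σ}
  [GradedRing 𝒜]

theorem exists_deg_one_list [IsNoetherianRing R] {a : HomogeneousIdeal 𝒜}
    (hhom : a.toIdeal = Ideal.span (𝒜 1 : Set R)) :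
    ∃ l : List (HElt 𝒜), (∀ y ∈ l, y.deg = 1) ∧ (hspan l).toIdeal = a.toIdeal := by
  classical
  obtain ⟨T, hT⟩ := (IsNoetherian.noetherian a.toIdeal : a.toIdeal.FG)
  have hsub : (T : Set R) ⊆ (Ideal.span (𝒜 1 : Set R) : Ideal R) := fun t ht =>
    hhom ▸ hT ▸ Ideal.subset_span ht
  choose f hf1 hf2 using fun t : T => Submodule.mem_span_finite_of_mem_span (hsub t.2)
  let L : List (HElt 𝒜) :=
    (Finset.univ.biUnion fun t : T => (f t).attach.image fun r =>
      (⟨r.1, 1, hf1 t r.2⟩ : HElt 𝒜)).toList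
  refine ⟨L, fun y hy => ?_, le_antisymm (Ideal.span_le.2 ?_) ?_⟩
  · simp only [L, Finset.mem_toList, Finset.mem_biUnion, Finset.mem_image] at hy
    obtain ⟨t, -, r, -, rfl⟩ := hy
    rfl
  · rintro r ⟨y, hy, rfl⟩
    simp only [L, Finset.mem_toList, Finset.mem_biUnion, Finset.mem_image] at hy
    obtain ⟨t, -, r, -, rfl⟩ := hy
    rw [hhom]
    exact Ideal.subset_span (hf1 t r.2)
  · rw [← hT]
    refine Ideal.span_le.2 fun t ht => ?_
    refine Submodule.span_mono (fun r hr => ?_) (hf2 ⟨t, ht⟩)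
    refine ⟨⟨r, 1, hf1 ⟨t, ht⟩ hr⟩, ?_, rfl⟩
    simp only [L, Finset.mem_toList, Finset.mem_biUnion, Finset.mem_image]
    exact ⟨⟨t, ht⟩, Finset.mem_univ _, ⟨r, hr⟩, Finset.mem_attach _ _, rfl⟩

theorem exists_lower_bound (hpos : ∀ n : ℤ, n < 0 → ∀ r ∈ 𝒜 n, r = 0) (X : GMod.{u} 𝒜) [Module.Finite R X.carrier] :
    ∃ b : ℤ, ∀ g, g < b → ∀ m ∈ X.gr g, m = 0 := by
  classical
  obtain ⟨κ, _, deg, gen, hgen, hspan⟩ := exists_homogeneous_generators X
  obtain ⟨b, hb⟩ := (Finset.univ.image deg).bddBelow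
  refine ⟨b, fun g hg m hm => ?_⟩
  obtain ⟨c, hc⟩ := Submodule.mem_span_range_iff_exists_fun R |>.1 (hspan ▸ Submodule.mem_top : m ∈ Submodule.span R (Set.range gen))
  rw [← cmp_of_mem _ hm, ← hc, map_sum]
  refine Finset.sum_eq_zero fun i _ => ?_
  rw [cmp_smul_mem (𝒜 := 𝒜) X.gr (c i) (hgen i), hpos _ ?_ _ (cmp_mem 𝒜 _ _), zero_smul]
  have := hb (Finset.mem_coe.2 (Finset.mem_image_of_mem deg (Finset.mem_univ i)))
  omega

theorem exists_piece_decomp {l : List (HElt 𝒜)} (he : ∀ y ∈ l, y.deg = 1) (X : GMod.{u} 𝒜) {g : ℤ} {m : X.carrier}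
    (hm : m ∈ X.gr g) (h : m ∈ (hspan l).toIdeal • (⊤ : Submodule R X.carrier)) :
    m ∈ Submodule.span R (X.gr (g - 1) : Set X.carrier) := by
  have key : ∀ x ∈ (hspan l).toIdeal • (⊤ : Submodule R X.carrier),
      cmp X.gr g x ∈ Submodule.span R (X.gr (g - 1) : Set X.carrier) := by
    intro x hx
    rw [toIdeal_hspan, Submodule.span_smul_eq, Submodule.set_smul_eq_iSup] at hx
    induction hx using Submodule.iSup_induction' with
    | mem r x hx =>
      by_cases hr : r ∈ {r | ∃ y ∈ l, y.val = r}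
      · simp only [hr, iSup_pos] at hx
        obtain ⟨z, -, rfl⟩ := hx
        obtain ⟨y, hy, rfl⟩ := hr
        change cmp X.gr g (y.val • z) ∈ _
        rw [cmp_smul_of_mem X.gr y.mem, he y hy]
        exact Submodule.smul_mem _ _ (Submodule.subset_span (cmp_mem _ _ _))
      · simp only [hr, iSup_neg, not_false_eq_true, Submodule.mem_bot] at hx
        rw [hx, map_zero]; exact zero_mem _
    | zero => rw [map_zero]; exact zero_mem _
    | add x y _ _ hx hy => rw [map_add]; exact add_mem hx hy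
  rw [← cmp_of_mem _ hm]
  exact key m h

theorem mem_span_low (hpos : ∀ n : ℤ, n < 0 → ∀ r ∈ 𝒜 n, r = 0) {l : List (HElt 𝒜)} (he : ∀ y ∈ l, y.deg = 1)
    (X : GMod.{u} 𝒜) [Module.Finite R X.carrier] (P : ℤ → Prop)
    (h : ∀ g, ¬ P g → ∀ (i : ℕ) (j : ℤ), g = j + i → Van l X i j) :
    Submodule.span R (⋃ (g : ℤ) (_ : P g), (X.gr g : Set X.carrier)) = ⊤ := by
  obtain ⟨b, hb⟩ := exists_lower_bound hpos X
  set N := Submodule.span R (⋃ (g : ℤ) (_ : P g), (X.gr g : Set X.carrier)) with hN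
  have hall : ∀ (t : ℕ) (g : ℤ), g < b + t → ∀ m ∈ X.gr g, m ∈ N := by
    intro t
    induction t with
    | zero => intro g hg m hm; rw [hb g (by omega) m hm]; exact zero_mem _
    | succ t ih =>
      intro g hg m hm
      by_cases hP : P g
      · exact Submodule.subset_span (Set.mem_iUnion₂.2 ⟨g, hP, hm⟩)
      · have h1 := mem_smul_top_of_van he (hspan l).toIdeal (fun y hy => Ideal.subset_span ⟨y, hy, rfl⟩) (g := g - 1)
          (by rw [sub_add_cancel]; exact h g hP 0 g (by simp))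
          (fun j _ => h g hP (1 + j) _ (by rw [nsmul_eq_mul, mul_one]; push_cast; ring))
          (m := m) (by rwa [sub_add_cancel])
        exact Submodule.span_le.2 (fun x hx => ih (g - 1) (by omega) x hx) (exists_piece_decomp he X hm h1)
  refine eq_top_iff.2 fun m _ => ?_
  obtain ⟨S, hS⟩ := exists_sum_cmp X.gr m
  rw [hS]
  refine Submodule.sum_mem _ fun g _ => ?_
  exact hall (g - b + 1).toNat g (by omega) _ (cmp_mem _ g m)

end GrothLib.GrLC
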