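import Groth.Agent.Lib.GrLC.Step
import Groth.Agent.Lib.GrLC.Pos

/-!
# Graded local cohomology of finite modules vanishes in high degree
-/

universe u

open DirectSum

namespace GrothLib.GrLC

open _root_.GrLC (GMod IsGrHom)

variable {R : Type u} [CommRing R] {σ : Type u} [SetLike σ R] [AddSubgroupClass σ R] {𝒜 : ℤ → σ} [GradedRing 𝒜]

/-- If all pieces from `b` on vanish then so do those of the terms of the Čech complex, for elements of
nonnegative degree. -/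
theorem cech_gr_eq_zero {X : GMod.{u} 𝒜} {b : ℤ} (h : ∀ g, b ≤ g → ∀ m ∈ X.gr g, m = 0) :
    ∀ (l : List (HElt 𝒜)), (∀ y ∈ l, 0 ≤ y.deg) → ∀ (n : ℕ) (g : ℤ), b ≤ g →
      ∀ z ∈ ((cech X l).X n).gr g, z = 0
  | [], _, 0, g, hg, z, hz => h g hg z hz
  | [], _, n + 1, _, _, z, _ => singleX_succ_eq_zero X n z
  | x :: l, hl, 0, g, hg, z, hz => cech_gr_eq_zero h l (fun y hy => hl y (List.mem_cons_of_mem _ hy)) 0 g hg z hz
  | x :: l, hl, n + 1, g, hg, z, hz => by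
    refine Prod.ext (cech_gr_eq_zero h l (fun y hy => hl y (List.mem_cons_of_mem _ hy)) (n + 1) g hg z.1 hz.1) ?_
    obtain ⟨k, m, hm, e⟩ := hz.2
    rw [← e]
    have : m = 0 := cech_gr_eq_zero h l (fun y hy => hl y (List.mem_cons_of_mem _ hy)) n _
      (hg.trans (le_add_of_nonneg_right (nsmul_nonneg (hl x (List.mem_cons_self ..)) k))) m hm
    rw [this]
    exact fr_zero x k

theorem van_of_gr_eq_zero {X : GMod.{u} 𝒜} {b : ℤ} (h : ∀ g, b ≤ g → ∀ m ∈ X.gr g, m = 0) {l : List (HElt 𝒜)}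
    (hl : ∀ y ∈ l, 0 ≤ y.deg) (i : ℕ) {g : ℤ} (hg : b ≤ g) : Van l X i g := fun z _ hz => by
  rw [cech_gr_eq_zero h l hl i g hg z hz]
  exact zero_mem _

theorem exists_upper_bound (X : GMod.{u} 𝒜) [Module.Finite R X.carrier]
    (h : ∀ n : ℤ, 0 < n → ∀ r ∈ 𝒜 n, ∀ m : X.carrier, r • m = 0) :
    ∃ b : ℤ, ∀ g, b ≤ g → ∀ m ∈ X.gr g, m = 0 := by
  classical
  obtain ⟨κ, _, deg, gen, hgen, hspan⟩ := exists_homogeneous_generators X
  obtain ⟨b, hb⟩ := (Finset.univ.image deg).bddAbove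
  refine ⟨b + 1, fun g hg m hm => ?_⟩
  obtain ⟨c, hc⟩ := Submodule.mem_span_range_iff_exists_fun R |>.1
    (hspan ▸ Submodule.mem_top : m ∈ Submodule.span R (Set.range gen))
  rw [← cmp_of_mem _ hm, ← hc, map_sum]
  refine Finset.sum_eq_zero fun i _ => ?_
  rw [cmp_smul_mem (𝒜 := 𝒜) X.gr (c i) (hgen i)]
  refine h _ ?_ _ (cmp_mem 𝒜 _ _) _
  have := hb (Finset.mem_coe.2 (Finset.mem_image_of_mem deg (Finset.mem_univ i)))
  omega

theorem exists_high_van [IsNoetherianRing R] {l : List (HElt 𝒜)} (hl : ∀ y ∈ l, 0 ≤ y.deg)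
    (hgen : ∀ n : ℤ, 0 < n → ∀ r ∈ 𝒜 n, r ∈ Ideal.span {r | ∃ y ∈ l, 0 < y.deg ∧ y.val = r}) :
    ∀ (X : GMod.{u} 𝒜), Module.Finite R X.carrier → ∃ b : ℤ, ∀ (i : ℕ) (g : ℤ), b ≤ g → Van l X i g := by
  suffices H : ∀ J : Ideal R, ∀ (X : GMod.{u} 𝒜), Module.Finite R X.carrier →
      (∀ r ∈ J, ∀ m : X.carrier, r • m = 0) → ∃ b : ℤ, ∀ (i : ℕ) (g : ℤ), b ≤ g → Van l X i g from
    fun X hX => H ⊥ X hX fun r hr m => by rw [(Submodule.mem_bot R).1 hr, zero_smul]
  intro J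
  induction J using WellFoundedGT.induction with
  | _ J ih =>
    intro X hX hJ
    by_cases hall : ∀ y ∈ l, 0 < y.deg → y.val ∈ J
    · obtain ⟨b, hb⟩ := exists_upper_bound X fun n hn r hr m => hJ r (Ideal.span_le.2
        (by rintro _ ⟨y, hy, hpos, rfl⟩; exact hall y hy hpos) (hgen n hn r hr)) m
      exact ⟨b, fun i g hg => van_of_gr_eq_zero hb hl i hg⟩
    · push_neg at hall
      obtain ⟨x, hx, hxpos, hxJ⟩ := hall
      have hlt : J < J ⊔ Ideal.span {x.val} :=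
        left_lt_sup.2 fun h => hxJ (h (Ideal.mem_span_singleton_self _))
      let T : GMod.{u} 𝒜 := sub (shift X (-x.deg)) (LinearMap.ker (mulShift X x))
        (isHomogeneous_ker (isHom_mulShift X x))
      let Q : GMod.{u} 𝒜 := quot X (LinearMap.range (mulShift X x)) (isHomogeneous_range (isHom_mulShift X x))
      have hNX : IsNoetherian R X.carrier := isNoetherian_of_isNoetherianRing_of_finite R X.carrier
      have hS : IsNoetherian R (shift X (-x.deg)).carrier := hNX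
      obtain ⟨bT, hT⟩ := ih _ hlt T (inferInstance : Module.Finite R (LinearMap.ker (mulShift X x))) (by
        intro r hr v
        obtain ⟨a, ha, c, hc, rfl⟩ := Submodule.mem_sup.1 hr
        obtain ⟨c, rfl⟩ := Ideal.mem_span_singleton'.1 hc
        revert v
        show ∀ v : LinearMap.ker (mulShift X x), (a + c * x.val) • v = 0
        intro v
        refine Subtype.ext ?_
        have hv : x.val • ((LinearMap.ker (mulShift X x)).subtype v : X.carrier) = 0 := v.2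
        show (a + c * x.val) • ((LinearMap.ker (mulShift X x)).subtype v : X.carrier) = 0
        refine (add_smul a (c * x.val) _).trans ?_
        have ha' : a • ((LinearMap.ker (mulShift X x)).subtype v : X.carrier) = 0 := hJ a ha _
        have hb' : (c * x.val) • ((LinearMap.ker (mulShift X x)).subtype v : X.carrier) = 0 := by
          rw [mul_smul, hv, smul_zero]
        exact (congrArg₂ (· + ·) ha' hb').trans (add_zero _))
      obtain ⟨bQ, hQ⟩ := ih _ hlt Q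
        (Module.Finite.of_surjective (Submodule.mkQ _) (Submodule.mkQ_surjective _)) (by
        intro r hr v
        obtain ⟨a, ha, c, hc, rfl⟩ := Submodule.mem_sup.1 hr
        obtain ⟨c, rfl⟩ := Ideal.mem_span_singleton'.1 hc
        obtain ⟨m, rfl⟩ := Submodule.mkQ_surjective _ v
        refine (map_smul (Submodule.mkQ (LinearMap.range (mulShift X x))) (a + c * x.val) m).symm.trans
          ((Submodule.Quotient.mk_eq_zero _).2 ⟨c • m, ?_⟩)
        change x.val • c • m = (a + c * x.val) • m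
        rw [add_smul, hJ a ha, zero_add, smul_comm, mul_smul])
      refine ⟨max bT bQ, fun i g hg => van_of_inj_step hx fun k w hw hwg hφ => ?_⟩
      have hg' : max bT bQ ≤ g + (k + 1) • x.deg :=
        hg.trans (le_add_of_nonneg_right (nsmul_nonneg hxpos.le _))
      refine (ses_ker (X := X) (x := x) l).mem_bdy_of_image_mem (hT i _ (le_trans (le_max_left _ _) hg')) hw hwg ?_
      have hcut := ses_cut (X := X) (N := Q) (x := x) (Submodule.mkQ _) (isHom_mkQ X _ _) (Submodule.mkQ_surjective _)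
        (fun v => (Submodule.Quotient.mk_eq_zero _).trans ⟨fun h => h, fun h => h⟩) l
      rcases i with _ | i
      · refine (Submodule.mem_bot R).2 (hcut.inj 0 ?_)
        rw [map_zero, cechMap_comp]
        exact (Submodule.mem_bot R).1 hφ
      · refine hcut.mem_bdy_of_map_mem (hQ i _ (le_trans (le_max_right _ _) hg')) (Mor.hom _ _ _ w hwg) ?_
        rw [cechMap_comp]
        exact hφ

theorem exists_pos_list [IsNoetherianRing R] (hpos : ∀ n : ℤ, n < 0 → ∀ r ∈ 𝒜 n, r = 0) (a : HomogeneousIdeal 𝒜)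
    (ha : ∀ n : ℤ, 0 < n → ∀ r ∈ 𝒜 n, r ∈ a.toIdeal) :
    ∃ l : List (HElt 𝒜), (∀ y ∈ l, 0 ≤ y.deg) ∧ (hspan l).toIdeal = a.toIdeal ∧
      ∀ n : ℤ, 0 < n → ∀ r ∈ 𝒜 n, r ∈ Ideal.span {r | ∃ y ∈ l, 0 < y.deg ∧ y.val = r} := by
  classical
  let P : HomogeneousIdeal 𝒜 := ⟨Ideal.span {r | ∃ n : ℤ, 0 < n ∧ r ∈ 𝒜 n},
    Ideal.homogeneous_span _ _ fun r hr => by obtain ⟨n, -, hr⟩ := hr; exact ⟨n, hr⟩⟩
  have hzero : ∀ p ∈ P.toIdeal, cmp 𝒜 0 p = 0 := by
    intro p hp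
    induction hp using Submodule.span_induction with
    | mem r hr => obtain ⟨n, hn, hr⟩ := hr; exact cmp_of_mem_ne 𝒜 hr hn.ne'
    | zero => exact map_zero _
    | add _ _ _ _ hx hy => rw [map_add, hx, hy, add_zero]
    | smul c p _ hp =>
      induction c using gr_induction 𝒜 with
      | h0 => rw [zero_smul, map_zero]
      | hh j c hc =>
        rw [cmp_smul_of_mem 𝒜 hc p 0]
        rcases lt_trichotomy j 0 with hj | rfl | hj
        · rw [hpos j hj c hc, zero_smul]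
        · rw [sub_zero, hp, smul_zero]
        · rw [hpos _ (show (0 : ℤ) - j < 0 by omega) _ (cmp_mem 𝒜 _ p), smul_zero]
      | hadd u v hu hv => rw [add_smul, map_add, hu, hv, add_zero]
  obtain ⟨L, hL⟩ := exists_hspan P
  obtain ⟨La, hLa⟩ := exists_hspan a
  let L' := L.filter fun y => decide (0 < y.deg)
  let La' := La.filter fun y => decide (0 ≤ y.deg)
  have hP : P.toIdeal ≤ Ideal.span {r | ∃ y ∈ L', 0 < y.deg ∧ y.val = r} := by
    rw [← hL]
    refine Ideal.span_le.2 ?_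
    rintro r ⟨y, hy, rfl⟩
    by_cases hd : 0 < y.deg
    · exact Ideal.subset_span ⟨y, List.mem_filter.2 ⟨hy, decide_eq_true hd⟩, hd, rfl⟩
    · rcases (not_lt.1 hd).lt_or_eq with h | h
      · rw [hpos _ h _ y.mem]; exact zero_mem _
      · have h0 := hzero y.val (hL ▸ Ideal.subset_span ⟨y, hy, rfl⟩)
        rw [cmp_of_mem 𝒜 (h ▸ y.mem)] at h0
        rw [h0]; exact zero_mem _
  refine ⟨L' ++ La', fun y hy => ?_, le_antisymm (Ideal.span_le.2 ?_) ?_, fun n hn r hr =>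
    Ideal.span_mono ?_ (hP (Ideal.subset_span ⟨n, hn, hr⟩))⟩
  · rcases List.mem_append.1 hy with h | h
    · exact (of_decide_eq_true (List.mem_filter.1 h).2).le
    · exact of_decide_eq_true (p := 0 ≤ y.deg) (List.mem_filter.1 h).2
  · rintro r ⟨y, hy, rfl⟩
    rcases List.mem_append.1 hy with h | h
    · exact ha _ (of_decide_eq_true (List.mem_filter.1 h).2) _ y.mem
    · exact hLa ▸ Ideal.subset_span ⟨y, (List.mem_filter.1 h).1, rfl⟩
  · rw [← hLa]
    refine Ideal.span_le.2 ?_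
    rintro r ⟨y, hy, rfl⟩
    by_cases hd : 0 ≤ y.deg
    · exact Ideal.subset_span ⟨y, List.mem_append.2 (Or.inr (List.mem_filter.2 ⟨hy, decide_eq_true hd⟩)), rfl⟩
    · rw [hpos _ (not_le.1 hd) _ y.mem]; exact zero_mem _
  · rintro r ⟨y, hy, hd, rfl⟩
    exact ⟨y, List.mem_append.2 (Or.inl hy), hd, rfl⟩

theorem exists_high_Hcomp [IsNoetherianRing R] (hpos : ∀ n : ℤ, n < 0 → ∀ r ∈ 𝒜 n, r = 0) (a : HomogeneousIdeal 𝒜)
    (ha : ∀ n : ℤ, 0 < n → ∀ r ∈ 𝒜 n, r ∈ a.toIdeal) {M : Type u} [AddCommGroup M] [Module R M] [Module.Finite R M]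
    {τ : Type u} [SetLike τ M] [AddSubgroupClass τ M] {ℳ : ℤ → τ} [Decomposition ℳ] [SetLike.GradedSMul 𝒜 ℳ]
    (E : _root_.GrLC.StarInjRes 𝒜 ℳ) : ∃ b : ℤ, ∀ (i : ℕ) (g : ℤ), b ≤ g → E.Hcomp a i g = ⊥ := by
  obtain ⟨l, hl, hspan, hgen⟩ := exists_pos_list hpos a ha
  obtain ⟨b, hb⟩ := exists_high_van hl hgen (gmod 𝒜 ℳ) ‹Module.Finite R M›
  exact ⟨b, fun i g hg => (Hcomp_eq_bot_iff_van E hspan i g).2 (hb i g hg)⟩

theorem pos_mem_of_isStarLocal (hpos : ∀ n : ℤ, n < 0 → ∀ r ∈ 𝒜 n, r = 0) {m : HomogeneousIdeal 𝒜}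
    (hm : _root_.GrLC.IsStarLocal 𝒜 m) : ∀ n : ℤ, 0 < n → ∀ r ∈ 𝒜 n, r ∈ m.toIdeal := by
  classical
  intro n hn r hr
  by_contra hrm
  let P : HomogeneousIdeal 𝒜 := ⟨Ideal.span {r}, Ideal.homogeneous_span _ _
    fun x hx => by rw [Set.mem_singleton_iff.1 hx]; exact ⟨n, hr⟩⟩
  have hlt : m < m ⊔ P := left_lt_sup.2 fun h => hrm (h (Ideal.mem_span_singleton_self r))
  have htop : (1 : R) ∈ (m ⊔ P).toIdeal := by rw [hm.1.2 _ hlt]; exact Submodule.mem_top
  rw [HomogeneousIdeal.toIdeal_sup, Submodule.mem_sup] at htop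
  obtain ⟨u, hu, v, hv, e⟩ := htop
  obtain ⟨c, rfl⟩ := Ideal.mem_span_singleton'.1 hv
  have h1 := congrArg (cmp 𝒜 0) e
  rw [map_add, cmp_of_mem 𝒜 (SetLike.GradedOne.one_mem : (1 : R) ∈ 𝒜 0), mul_comm c r, ← smul_eq_mul (a := r),
    cmp_smul_of_mem 𝒜 hr, hpos _ (show (0 : ℤ) - n < 0 by omega) _ (cmp_mem 𝒜 _ c), smul_zero, add_zero] at h1
  refine hm.1.1 (HomogeneousIdeal.toIdeal_injective ?_)
  rw [HomogeneousIdeal.toIdeal_top, Ideal.eq_top_iff_one, ← h1]
  exact m.isHomogeneous 0 hu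

end GrothLib.GrLC
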