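import Groth.Agent.Lib.GrLC.High
import Mathlib.RingTheory.Artinian.Module

/-!
# Pieces of Čech cohomology as modules over the degree-zero subring
-/

universe u

open DirectSum

namespace GrothLib.GrLC

open _root_.GrLC (GMod IsGrHom deg0 comp StarInjRes)

variable {ι : Type} [AddCommGroup ι] [DecidableEq ι] {R : Type u} [CommRing R] {σ : Type u} [SetLike σ R]
  [AddSubgroupClass σ R] {𝒜 : ι → σ} [GradedRing 𝒜]

/-- A piece of a Noetherian graded module is Noetherian over the degree-zero subring. -/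
theorem isNoetherian_comp {M : Type u} [AddCommGroup M] [Module R M] {τ : Type u} [SetLike τ M]
    [AddSubgroupClass τ M] (ℳ : ι → τ) [Decomposition ℳ] [SetLike.GradedSMul 𝒜 ℳ] [IsNoetherian R M] (g : ι) :
    IsNoetherian (deg0 𝒜) (comp 𝒜 ℳ g) := by
  let Φ : Submodule (deg0 𝒜) (comp 𝒜 ℳ g) → Submodule R M := fun V =>
    Submodule.span R ((V.map (comp 𝒜 ℳ g).subtype : Submodule (deg0 𝒜) M) : Set M)
  have hΦ : ∀ V, ∀ x ∈ Φ V, ∀ c : R, cmp ℳ g (c • x) ∈ V.map (comp 𝒜 ℳ g).subtype := by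
    intro V x hx
    induction hx using Submodule.span_induction with
    | mem y hy =>
      intro c
      obtain ⟨v, hv, rfl⟩ := hy
      change cmp ℳ g (c • (v : M)) ∈ _
      rw [cmp_smul_mem (𝒜 := 𝒜) ℳ c (v.2 : (v : M) ∈ ℳ g), sub_self]
      exact Submodule.smul_mem _ (⟨_, cmp_mem 𝒜 0 c⟩ : deg0 𝒜) ⟨v, hv, rfl⟩
    | zero => intro c; rw [smul_zero, map_zero]; exact zero_mem _
    | add a b _ _ ha hb => intro c; rw [smul_add, map_add]; exact add_mem (ha c) (hb c)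
    | smul c a _ ha => intro e; rw [smul_smul]; exact ha (e * c)
  have hle : ∀ V W, Φ V ≤ Φ W → V ≤ W := fun V W h v hv => by
    have h1 := hΦ W (v : M) (h (Submodule.subset_span ⟨v, hv, rfl⟩)) 1
    rw [one_smul, cmp_of_mem ℳ (v.2 : (v : M) ∈ ℳ g)] at h1
    obtain ⟨w, hw, hwv⟩ := h1
    rwa [Subtype.ext hwv] at hw
  have hmono : ∀ V W, V ≤ W → Φ V ≤ Φ W := fun V W h => Submodule.span_mono (Set.image_mono h)
  rw [isNoetherian_iff]
  exact Subrelation.wf (r := InvImage (· > ·) Φ)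
    (fun {V W} h => lt_of_le_not_ge (hmono W V h.le) fun h' => h.not_ge (hle V W h'))
    (InvImage.wf Φ wellFounded_gt)

section HP

variable (C : GCx.{u} 𝒜)

/-- cocycles of a degree, over the degree-zero subring -/
abbrev ZP (n : ℕ) (g : ι) : Submodule (deg0 𝒜) (C.X n).carrier :=
  comp 𝒜 (C.X n).gr g ⊓ (C.cyc n).restrictScalars (deg0 𝒜)

/-- cohomology in a degree, over the degree-zero subring -/
abbrev HP (n : ℕ) (g : ι) : Type u :=
  ↥(ZP C n g) ⧸ ((C.bdy n).restrictScalars (deg0 𝒜)).comap (ZP C n g).subtype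

theorem HP_mk_eq_zero {n : ℕ} {g : ι} (z : ZP C n g) :
    (Submodule.Quotient.mk z : HP C n g) = 0 ↔ (z : (C.X n).carrier) ∈ C.bdy n :=
  Submodule.Quotient.mk_eq_zero _

theorem subsingleton_HP {n : ℕ} {g : ι} (h : C.Vanish n g) : Subsingleton (HP C n g) :=
  subsingleton_of_forall_eq 0 fun q => by
    obtain ⟨z, rfl⟩ := Submodule.Quotient.mk_surjective _ q
    exact (HP_mk_eq_zero C z).2 (h z.1 z.2.2 z.2.1)

/-- the piece of cohomology -/
theorem nonempty_HP_equiv_comp (n : ℕ) (g : ι) :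
    Nonempty (HP C n g ≃ₗ[deg0 𝒜] comp 𝒜 (C.H n).gr g) := by
  let f : ZP C n g →ₗ[deg0 𝒜] comp 𝒜 (C.H n).gr g :=
    { toFun := fun z => ⟨Submodule.mkQ ((C.bdy n).comap (C.cyc n).subtype) ⟨z.1, z.2.2⟩, ⟨z.1, z.2.2⟩, z.2.1, rfl⟩
      map_add' := fun z w => Subtype.ext rfl
      map_smul' := fun c z => Subtype.ext rfl }
  have hker : ((C.bdy n).restrictScalars (deg0 𝒜)).comap (ZP C n g).subtype = LinearMap.ker f := by
    ext z
    rw [LinearMap.mem_ker, ← Subtype.coe_inj]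
    exact (Submodule.Quotient.mk_eq_zero ((C.bdy n).comap (C.cyc n).subtype) (x := ⟨z.1, z.2.2⟩)).symm
  have hf : Function.Surjective f := by
    rintro ⟨q, ⟨z, hzc⟩, hzg, rfl⟩
    exact ⟨⟨z, hzg, hzc⟩, rfl⟩
  exact ⟨(Submodule.quotEquivOfEq _ _ hker).trans (f.quotKerEquivOfSurjective hf)⟩

variable {C} {D : GCx.{u} 𝒜}

/-- functoriality -/
noncomputable def Mor.HPmap (φ : Mor C D) (n : ℕ) (g : ι) : HP C n g →ₗ[deg0 𝒜] HP D n g :=
  Submodule.mapQ _ _ (((φ.f n).restrictScalars (deg0 𝒜)).restrict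
      (fun z hz => ⟨φ.hom n g z hz.1, Mor.map_cyc_le φ n ⟨z, hz.2, rfl⟩⟩))
    (fun _ hz => Mor.map_bdy_le φ n ⟨_, hz, rfl⟩)

theorem Mor.HPmap_mk (φ : Mor C D) {n : ℕ} {g : ι} (z : ZP C n g) :
    φ.HPmap n g (Submodule.Quotient.mk z) =
      Submodule.Quotient.mk ⟨φ.f n z.1, φ.hom n g _ z.2.1, Mor.map_cyc_le φ n ⟨_, z.2.2, rfl⟩⟩ := rfl

end HP

namespace SES

variable {A B C : GCx.{u} 𝒜} {φ : Mor A B} {ψ : Mor B C} (S : SES φ ψ)

include S

theorem HP_exact (n : ℕ) (g : ι) : LinearMap.range (φ.HPmap n g) = LinearMap.ker (ψ.HPmap n g) := by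
  refine le_antisymm ?_ fun q hq => ?_
  · rintro _ ⟨q, rfl⟩
    obtain ⟨z, rfl⟩ := Submodule.Quotient.mk_surjective _ q
    rw [LinearMap.mem_ker, Mor.HPmap_mk, Mor.HPmap_mk, HP_mk_eq_zero]
    change ψ.f n (φ.f n z.1) ∈ C.bdy n
    rw [S.psi_phi]
    exact zero_mem _
  · obtain ⟨⟨z, hzg, hzc⟩, rfl⟩ := Submodule.Quotient.mk_surjective _ q
    rw [LinearMap.mem_ker, Mor.HPmap_mk, HP_mk_eq_zero] at hq
    obtain ⟨b₀, hb₀, e⟩ := S.bdy_le_map n hq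
    have hb₀' : cmp (B.X n).gr g b₀ ∈ B.bdy n := B.isHomogeneous_bdy n g hb₀
    obtain ⟨a, ha, ea⟩ := S.exists_pre n (b := z - cmp (B.X n).gr g b₀)
      (sub_mem hzg (cmp_mem _ g b₀)) (by rw [map_sub, (ψ.hom n).cmp, e, cmp_of_mem _ (ψ.hom n g z hzg), sub_self])
    have hac : a ∈ A.cyc n := by
      apply S.inj (n + 1)
      rw [map_zero, ← φ.comm, ea, map_sub, show B.d n z = 0 from hzc,
        show B.d n (cmp (B.X n).gr g b₀) = 0 from B.bdy_le_cyc n hb₀', sub_zero]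
    refine ⟨Submodule.Quotient.mk ⟨a, ha, hac⟩, (Submodule.Quotient.eq _).2 ?_⟩
    change φ.f n a - z ∈ B.bdy n
    rw [ea, sub_sub_cancel_left]
    exact neg_mem hb₀'

theorem HP_exact_left (n : ℕ) (g : ι) : ∃ δ : HP C n g →ₗ[deg0 𝒜] HP A (n + 1) g,
    LinearMap.range δ = LinearMap.ker (φ.HPmap (n + 1) g) := by
  let G : Submodule (deg0 𝒜) ((B.X n).carrier × (A.X (n + 1)).carrier) :=
    ((comp 𝒜 (B.X n).gr g).prod (comp 𝒜 (A.X (n + 1)).gr g)) ⊓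
      LinearMap.ker (((φ.f (n + 1)).restrictScalars (deg0 𝒜)) ∘ₗ LinearMap.snd (deg0 𝒜) _ _ -
        ((B.d n).restrictScalars (deg0 𝒜)) ∘ₗ LinearMap.fst (deg0 𝒜) _ _)
  have hG : ∀ x : G, φ.f (n + 1) x.1.2 = B.d n x.1.1 := fun x => sub_eq_zero.1 (LinearMap.mem_ker.1 x.2.2)
  let p₁ : G →ₗ[deg0 𝒜] HP C n g := Submodule.mkQ _ ∘ₗ
    (((ψ.f n).restrictScalars (deg0 𝒜)) ∘ₗ LinearMap.fst (deg0 𝒜) _ _ ∘ₗ G.subtype).codRestrict (ZP C n g) (fun x =>
      ⟨ψ.hom n g _ x.2.1.1, LinearMap.mem_ker.2 (by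
        change C.d n (ψ.f n x.1.1) = 0
        rw [ψ.comm, ← hG x, S.psi_phi])⟩)
  let p₂ : G →ₗ[deg0 𝒜] HP A (n + 1) g := Submodule.mkQ _ ∘ₗ
    (LinearMap.snd (deg0 𝒜) _ _ ∘ₗ G.subtype).codRestrict (ZP A (n + 1) g) (fun x => ⟨x.2.1.2, LinearMap.mem_ker.2 (by
      change A.d (n + 1) x.1.2 = 0
      apply S.inj (n + 1 + 1)
      rw [map_zero, ← φ.comm, hG x, B.d_d])⟩)
  have hp₁ : Function.Surjective p₁ := by
    intro q
    obtain ⟨⟨z, hzg, hzc⟩, rfl⟩ := Submodule.Quotient.mk_surjective _ q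
    obtain ⟨b, hb, rfl⟩ := S.exists_lift n hzg
    obtain ⟨w, hw, e⟩ := S.exists_pre (n + 1) (B.d_hom n g b hb) (by rw [← ψ.comm]; exact hzc)
    exact ⟨⟨(b, w), ⟨hb, hw⟩, sub_eq_zero.2 e⟩, rfl⟩
  have hker : LinearMap.ker p₁ ≤ LinearMap.ker p₂ := by
    rintro ⟨⟨b, w⟩, ⟨hb, hw⟩, hbw⟩ hx
    have hbw' : φ.f (n + 1) w = B.d n b := sub_eq_zero.1 hbw
    obtain ⟨b₀, hb₀, e₀⟩ := S.bdy_le_map n ((HP_mk_eq_zero C _).1 hx)
    obtain ⟨a, ha⟩ := (S.exact n (b - b₀)).1 (by rw [map_sub, e₀, sub_eq_zero]; rfl)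
    refine (HP_mk_eq_zero A _).2 ⟨a, S.inj (n + 1) ?_⟩
    change φ.f (n + 1) (A.d n a) = φ.f (n + 1) w
    rw [← φ.comm, ha, map_sub, show B.d n b₀ = 0 from B.bdy_le_cyc n hb₀, sub_zero, hbw']
  refine ⟨(LinearMap.ker p₁).liftQ p₂ hker ∘ₗ (p₁.quotKerEquivOfSurjective hp₁).symm.toLinearMap, ?_⟩
  have hrange : LinearMap.range ((LinearMap.ker p₁).liftQ p₂ hker ∘ₗ
      (p₁.quotKerEquivOfSurjective hp₁).symm.toLinearMap) = LinearMap.range p₂ := by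
    rw [LinearMap.range_comp_of_range_eq_top _ (LinearEquiv.range _), Submodule.range_liftQ]
  rw [hrange]
  refine le_antisymm ?_ fun q hq => ?_
  · rintro _ ⟨x, rfl⟩
    exact (HP_mk_eq_zero B _).2 ⟨x.1.1, (hG x).symm⟩
  · obtain ⟨⟨w, hwg, hwc⟩, rfl⟩ := Submodule.Quotient.mk_surjective _ q
    rw [LinearMap.mem_ker, Mor.HPmap_mk, HP_mk_eq_zero] at hq
    obtain ⟨b, hb⟩ := hq
    refine ⟨⟨(cmp (B.X n).gr g b, w), ⟨cmp_mem (B.X n).gr g b, hwg⟩, sub_eq_zero.2 ?_⟩, rfl⟩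
    change φ.f (n + 1) w = B.d n (cmp (B.X n).gr g b)
    rw [(B.d_hom n).cmp, hb, cmp_of_mem _ (φ.hom (n + 1) g w hwg)]

end SES

theorem exists_HP_shift (l : List (HElt 𝒜)) (X : GMod.{u} 𝒜) (d : ι) (n : ℕ) (g : ι) :
    ∃ e : HP (cech (shift X d) l) n g ≃ₗ[deg0 𝒜] HP (cech X l) n (g + d),
      ∀ z, ∃ h, e (Submodule.Quotient.mk z) = Submodule.Quotient.mk ⟨(cechShift X d l).f n z.1, h⟩ := by
  let ν : ((cech (shift X d) l).X n).carrier →ₗ[R] ((cech X l).X n).carrier := (cechShift X d l).f n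
  have hν : Function.Bijective ν := cechShift_bijective X d l n
  have hg : ∀ z, z ∈ ((cech (shift X d) l).X n).gr g ↔ ν z ∈ ((cech X l).X n).gr (g + d) := fun z => by
    refine ⟨fun hz => (cechShift X d l).hom n g z hz, fun hz => ?_⟩
    have h : z = cmp ((cech (shift X d) l).X n).gr g z := hν.1 (by
      refine Eq.trans ?_ (((cechShift X d l).hom n).cmp g z).symm
      exact Eq.symm (cmp_of_mem (((cech X l).shiftBy d).X n).gr hz))
    rw [h]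
    exact cmp_mem _ g z
  have hc : ∀ z, z ∈ (cech (shift X d) l).cyc n ↔ ν z ∈ (cech X l).cyc n := fun z => by
    refine ⟨fun hz => Mor.map_cyc_le (cechShift X d l) n ⟨z, hz, rfl⟩, fun hz => ?_⟩
    refine LinearMap.mem_ker.2 ((cechShift_bijective X d l (n + 1)).1 ?_)
    rw [map_zero, ← (cechShift X d l).comm]
    exact hz
  have hb : ∀ z, z ∈ (cech (shift X d) l).bdy n ↔ ν z ∈ (cech X l).bdy n := fun z => by
    constructor
    · intro hz
      have h := Mor.map_bdy_le (cechShift X d l) n ⟨z, hz, rfl⟩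
      cases n <;> exact h
    · cases n with
      | zero => exact fun hz => (Submodule.mem_bot R).2 (hν.1 (((Submodule.mem_bot R).1 hz).trans (map_zero ν).symm))
      | succ n =>
        rintro ⟨y, hy⟩
        obtain ⟨y', rfl⟩ := (cechShift_bijective X d l n).2 y
        exact ⟨y', hν.1 (((cechShift X d l).comm n y').symm.trans hy)⟩
  let f : ZP (cech (shift X d) l) n g →ₗ[deg0 𝒜] HP (cech X l) n (g + d) := Submodule.mkQ _ ∘ₗ
    ((ν.restrictScalars (deg0 𝒜)) ∘ₗ (ZP (cech (shift X d) l) n g).subtype).codRestrict (ZP (cech X l) n (g + d))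
      (fun z => ⟨(hg _).1 z.2.1, (hc _).1 z.2.2⟩)
  have hker : (((cech (shift X d) l).bdy n).restrictScalars (deg0 𝒜)).comap (ZP (cech (shift X d) l) n g).subtype =
      LinearMap.ker f := by
    ext z
    refine (hb _).trans ?_
    rw [LinearMap.mem_ker]
    exact Iff.symm (Submodule.Quotient.mk_eq_zero (((cech X l).bdy n).restrictScalars (deg0 𝒜) |>.comap (ZP (cech X l) n (g + d)).subtype))
  have hf : Function.Surjective f := by
    intro q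
    obtain ⟨⟨z, hzg, hzc⟩, rfl⟩ := Submodule.Quotient.mk_surjective _ q
    obtain ⟨w, rfl⟩ := hν.2 z
    exact ⟨⟨w, (hg w).2 hzg, (hc w).2 hzc⟩, rfl⟩
  exact ⟨(Submodule.quotEquivOfEq _ _ hker).trans (f.quotKerEquivOfSurjective hf),
    fun z => ⟨⟨(hg _).1 z.2.1, (hc _).1 z.2.2⟩, rfl⟩⟩

variable [IsNoetherianRing R] {M : Type u} [AddCommGroup M] [Module R M] {τ : Type u} [SetLike τ M]
  [AddSubgroupClass τ M] {ℳ : ι → τ} [Decomposition ℳ] [SetLike.GradedSMul 𝒜 ℳ] (E : StarInjRes 𝒜 ℳ)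
  {a : HomogeneousIdeal 𝒜} {l : List (HElt 𝒜)}

theorem nonempty_HP_equiv_Hcomp (hl : (hspan l).toIdeal = a.toIdeal) (i : ℕ) (g : ι) :
    Nonempty (HP (cech (gmod 𝒜 ℳ) l) i g ≃ₗ[deg0 𝒜] E.Hcomp a i g) := by
  obtain ⟨e, he⟩ := iso_cech E hl i
  obtain ⟨e₁⟩ := nonempty_HP_equiv_comp (cech (gmod 𝒜 ℳ) l) i g
  let f : E.Hcomp a i g →ₗ[deg0 𝒜] comp 𝒜 ((cech (gmod 𝒜 ℳ) l).H i).gr g :=
    ((e.toLinearMap.restrictScalars (deg0 𝒜)) ∘ₗ (E.Hcomp a i g).subtype).codRestrict _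
      fun y => he g _ ((EH_gr_iff E a i g _).1 y.2)
  have hf : Function.Bijective f := by
    refine ⟨fun y y' h => Subtype.ext (e.injective (congrArg Subtype.val h)), fun q => ?_⟩
    exact ⟨⟨e.symm q.1, (EH_gr_iff E a i g _).2 (IsHom.symm he g _ q.2)⟩, Subtype.ext (e.apply_symm_apply _)⟩
  exact ⟨e₁.trans (LinearEquiv.ofBijective f hf).symm⟩

end GrothLib.GrLC
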