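import Groth.Agent.Lib.LC.FlatBC
import Groth.Agent.Lib.LC.Basic
import Groth.Agent.Lib.InjMod.Essential

/-!
# Canonical modules at a maximal ideal
-/

universe u

open CategoryTheory
open scoped TensorProduct

namespace GrothLib.GrLC

noncomputable section

variable {R : Type u} [CommRing R] (m : Ideal R) [m.IsMaximal]

local notation "A" => Localization.AtPrime m

omit [m.IsMaximal] in
/-- An injective module over a flat algebra is injective over the base. -/
theorem injective_restrict {A' : Type u} [CommRing A'] [Algebra R A'] [Module.Flat R A'] {E : Type u}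
    [AddCommGroup E] [Module A' E] [Module R E] [IsScalarTower R A' E] (hE : Module.Injective A' E) :
    Module.Injective R E := by
  refine ⟨fun X Y _ _ _ _ f hf g => ?_⟩
  obtain ⟨h, hh⟩ := hE.out (f.baseChange A') (Module.Flat.lTensor_preserves_injective_linearMap (M := A') f hf)
    (g.liftBaseChange A')
  refine ⟨(h.restrictScalars R) ∘ₗ TensorProduct.mk R A' Y 1, fun x => ?_⟩
  have := hh ((1 : A') ⊗ₜ[R] x)
  rw [LinearMap.baseChange_tmul, LinearMap.liftBaseChange_tmul, one_smul] at this
  exact this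

/-- The hull of the residue field of the local ring is a hull of the residue field of the maximal ideal. -/
theorem exists_hull_restrict {E₀ : Type u} [AddCommGroup E₀] [Module A E₀] [Module R E₀] [IsScalarTower R A E₀]
    {f : IsLocalRing.ResidueField A →ₗ[A] E₀} (hf : InjHull.IsInjectiveHull f) :
    ∃ g : R ⧸ m →ₗ[R] E₀, InjHull.IsInjectiveHull g := by
  let π : R →ₗ[R] IsLocalRing.ResidueField A :=
    (IsScalarTower.toAlgHom R A (IsLocalRing.ResidueField A)).toLinearMap ∘ₗ Algebra.linearMap R A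
  have hsurj : Function.Surjective π := fun z => by
    obtain ⟨x, hx⟩ := (IsLocalization.AtPrime.equivQuotMaximalIdeal m A).surjective z
    obtain ⟨x, rfl⟩ := Ideal.Quotient.mk_surjective x
    exact ⟨x, hx⟩
  have hker : LinearMap.ker π = m := by
    ext x
    rw [LinearMap.mem_ker]
    change Ideal.Quotient.mk _ (algebraMap R A x) = 0 ↔ _
    rw [Ideal.Quotient.eq_zero_iff_mem, IsLocalization.AtPrime.to_map_mem_maximal_iff A m]
  let q : R ⧸ m →ₗ[R] IsLocalRing.ResidueField A := (m : Submodule R R).liftQ π hker.ge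
  have hq : Function.Injective q := LinearMap.ker_eq_bot.1 (Submodule.ker_liftQ_eq_bot' _ _ hker.symm)
  refine ⟨f.restrictScalars R ∘ₗ q, ⟨⟨hf.injective.comp hq, fun N hN => ?_⟩, injective_restrict hf.isInjective⟩⟩
  obtain ⟨x, hx, hx0⟩ := (Submodule.ne_bot_iff _).1 hN
  obtain ⟨y, ⟨hy, ⟨z, rfl⟩⟩, hy0⟩ := (Submodule.ne_bot_iff _).1
    (hf.essential (Submodule.span A {x}) fun h => hx0 (Submodule.span_singleton_eq_bot.1 h))
  obtain ⟨a, ha⟩ := Submodule.mem_span_singleton.1 hy
  obtain ⟨⟨r, s⟩, rfl⟩ := IsLocalization.mk'_surjective m.primeCompl a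
  refine (Submodule.ne_bot_iff _).2 ⟨r • x, ⟨N.smul_mem r hx, ?_⟩, fun h => hy0 ?_⟩
  · obtain ⟨w, hw⟩ := hsurj ((s : R) • z)
    refine ⟨Submodule.Quotient.mk w, ?_⟩
    change f (π w) = r • x
    rw [hw, ← algebraMap_smul A (s : R) z, map_smul, ← ha, smul_smul, IsLocalization.mk'_spec', algebraMap_smul]
  · have : algebraMap R A (s : R) • f z = 0 := by
      rw [← ha, smul_smul, IsLocalization.mk'_spec', algebraMap_smul, h]
    exact (IsUnit.smul_eq_zero (IsLocalization.map_units A s)).1 this

omit [m.IsMaximal] in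
/-- A torsion module does not change under localisation. -/
theorem bijective_one_tmul [m.IsMaximal] {H : Type u} [AddCommGroup H] [Module R H] (hH : LocCoh.IsPowerTorsion m H) :
    Function.Bijective fun h : H => (1 : A) ⊗ₜ[R] h := by
  have hu : ∀ s : m.primeCompl, IsUnit (algebraMap R (Module.End R H) s) := fun s => by
    rw [Module.End.isUnit_iff]
    have key : ∀ h : H, ∃ a : R, a • ((s : R) • h) = h := fun h => by
      obtain ⟨n, hn⟩ := hH h
      obtain ⟨a, ha⟩ : ∃ a : R, 1 - a * (s : R) ∈ m ^ n := by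
        obtain ⟨c, i, hi, hci⟩ := (‹m.IsMaximal›).exists_inv s.2
        refine ⟨(∑ j ∈ Finset.range n, i ^ j) * c, ?_⟩
        have hg := geom_sum_mul i n
        rw [show 1 - (∑ j ∈ Finset.range n, i ^ j) * c * (s : R) = i ^ n by linear_combination hg - (∑ j ∈ Finset.range n, i ^ j) * hci]
        exact Ideal.pow_mem_pow hi n
      refine ⟨a, ?_⟩
      have := hn _ ha
      rw [sub_smul, one_smul, sub_eq_zero, mul_smul] at this
      exact this.symm
    refine ⟨fun x y h => ?_, fun y => ?_⟩
    · obtain ⟨a, ha⟩ := key (x - y)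
      have h0 : (s : R) • (x - y) = 0 := by rw [smul_sub]; exact sub_eq_zero.2 h
      rw [h0, smul_zero] at ha
      exact sub_eq_zero.1 ha.symm
    · obtain ⟨a, ha⟩ := key y
      exact ⟨a • y, (smul_comm (s : R) a y).trans ha⟩
  haveI : IsLocalizedModule m.primeCompl (LinearMap.id : H →ₗ[R] H) :=
    { map_units := hu, surj := fun y => ⟨⟨y, 1⟩, one_smul _ y⟩, exists_of_eq := fun h => ⟨1, congrArg _ h⟩ }
  haveI : IsLocalizedModule m.primeCompl (TensorProduct.mk R A H 1) :=
    (isLocalizedModule_iff_isBaseChange m.primeCompl A _).2 (TensorProduct.isBaseChange R H A)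
  let e := IsLocalizedModule.linearEquiv m.primeCompl (LinearMap.id : H →ₗ[R] H) (TensorProduct.mk R A H 1)
  convert e.bijective using 1
  funext h
  exact (IsLocalizedModule.linearEquiv_apply m.primeCompl (LinearMap.id : H →ₗ[R] H) (TensorProduct.mk R A H 1) h).symm

variable [IsNoetherianRing R]

/-- A canonical module localises to a canonical module. -/
theorem nonempty_dual_localization {n : ℕ} {E : Type u} [AddCommGroup E] [Module R E] {e : R ⧸ m →ₗ[R] E}
    (he : InjHull.IsInjectiveHull e) {C : Type u} [AddCommGroup C] [Module R C]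
    (φ : (C →ₗ[R] E) ≃ₗ[R] LocCoh.H m n R) {E₀ : Type u} [AddCommGroup E₀] [Module A E₀]
    {f : IsLocalRing.ResidueField A →ₗ[A] E₀} (hf : InjHull.IsInjectiveHull f) :
    Nonempty ((LocalizedModule m.primeCompl C →ₗ[A] E₀) ≃ₗ[A] LocCoh.H (IsLocalRing.maximalIdeal A) n A) := by
  letI : Module R E₀ := Module.compHom E₀ (algebraMap R A)
  haveI : IsScalarTower R A E₀ := IsScalarTower.of_algebraMap_smul fun _ _ => rfl
  obtain ⟨g, hg⟩ := exists_hull_restrict m hf
  obtain ⟨ι, -⟩ := GrothLib.InjMod.hull_unique hg he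
  let Cl := LocalizedModule m.primeCompl C
  let mk : C →ₗ[R] Cl := LocalizedModule.mkLinearMap m.primeCompl C
  have hunit : ∀ x : m.primeCompl, IsUnit (algebraMap R (Module.End R E₀) x) := fun x => by
    rw [Module.End.isUnit_iff]
    obtain ⟨u, hu⟩ := IsLocalization.map_units A x
    refine ⟨fun a b h => ?_, fun b => ⟨(↑u⁻¹ : A) • b, ?_⟩⟩
    · simp only [Module.algebraMap_end_apply, ← algebraMap_smul A (x : R), ← hu] at h
      exact (IsUnit.smul_left_cancel u.isUnit).1 h
    · simp only [Module.algebraMap_end_apply, ← algebraMap_smul A (x : R), ← hu, smul_smul, Units.mul_inv, one_smul]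
  let pre : (Cl →ₗ[A] E₀) →ₗ[R] (C →ₗ[R] E₀) :=
    { toFun := fun h => h.restrictScalars R ∘ₗ mk, map_add' := fun _ _ => rfl, map_smul' := fun _ _ => rfl }
  have hpre : Function.Bijective pre := by
    refine ⟨fun h h' hh => ?_, fun h => ?_⟩
    · refine LinearMap.restrictScalars_injective R (LinearMap.ext fun y => ?_)
      obtain ⟨⟨c, x⟩, rfl⟩ := IsLocalizedModule.mk'_surjective m.primeCompl mk y
      refine ((Module.End.isUnit_iff _).1 (hunit x)).1 ?_
      change (x : R) • (h.restrictScalars R) (IsLocalizedModule.mk' mk c x) =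
        (x : R) • (h'.restrictScalars R) (IsLocalizedModule.mk' mk c x)
      rw [← map_smul, ← map_smul, show (x : R) • IsLocalizedModule.mk' mk c x = mk c from IsLocalizedModule.mk'_cancel' mk c x]
      exact LinearMap.congr_fun hh c
    · refine ⟨(IsLocalizedModule.lift m.primeCompl mk h hunit).extendScalarsOfIsLocalization m.primeCompl A, ?_⟩
      exact IsLocalizedModule.lift_comp m.primeCompl mk h hunit
  haveI : IsLocalizedModule m.primeCompl (LinearMap.id : E₀ →ₗ[R] E₀) :=
    { map_units := hunit, surj := fun y => ⟨⟨y, 1⟩, one_smul _ y⟩, exists_of_eq := fun h => ⟨1, congrArg _ h⟩ }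
  obtain ⟨bc⟩ := GrothLib.LC.nonempty_baseChange_equiv (R' := A) (I := m) n R
  rw [Localization.AtPrime.map_eq_maximalIdeal] at bc
  let toA := TensorProduct.AlgebraTensorModule.rid R A A
  let H' := (localCohomology (IsLocalRing.maximalIdeal A) n).mapIso toA.toModuleIso
  let β : LocCoh.H m n R ≃ₗ[R] A ⊗[R] LocCoh.H m n R :=
    LinearEquiv.ofBijective (TensorProduct.mk R A _ 1)
      (bijective_one_tmul m (GrothLib.LC.isPowerTorsion m n (ModuleCat.of R R)))
  letI : Module R (LocCoh.H (IsLocalRing.maximalIdeal A) n A) := Module.compHom _ (algebraMap R A)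
  haveI : IsScalarTower R A (LocCoh.H (IsLocalRing.maximalIdeal A) n A) := IsScalarTower.of_algebraMap_smul fun _ _ => rfl
  let Φ : (Cl →ₗ[A] E₀) ≃ₗ[R] LocCoh.H (IsLocalRing.maximalIdeal A) n A :=
    LinearEquiv.ofBijective pre hpre ≪≫ₗ LinearEquiv.congrRight ι ≪≫ₗ φ ≪≫ₗ β ≪≫ₗ
      (bc ≪≫ₗ H'.toLinearEquiv).restrictScalars R
  exact ⟨Φ.extendScalarsOfIsLocalization m.primeCompl A⟩

end

end GrothLib.GrLC
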