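import Groth.Agent.Lib.GrLC.HullQuot
import Groth.Agent.Lib.GrLC.ExtVanish
import Groth.Prelude.Def_Wider
import Mathlib.RingTheory.Filtration
import Mathlib.Algebra.Module.Injective

/-!
# The *injective envelope at a graded maximal ideal is an injective hull
-/

universe u

open DirectSum

namespace GrothLib.GrLC

open _root_.GrLC (GMod IsGrHom IsStarInj IsStarEss IsStarInjHull quotGr)

variable {ι : Type} [AddCommGroup ι] [DecidableEq ι] {R : Type u} [CommRing R] {σ : Type u} [SetLike σ R]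
  [AddSubgroupClass σ R] {𝒜 : ι → σ} [GradedRing 𝒜]

theorem isHomogeneous_range_quot {p : HomogeneousIdeal 𝒜} {X : GMod.{u} 𝒜} {e : (R ⧸ p.toIdeal) →ₗ[R] X.carrier}
    (he : IsGrHom (quotGr 𝒜 p) X.gr e) : (LinearMap.range e).IsHomogeneous X.gr := by
  rintro g _ ⟨x, rfl⟩
  obtain ⟨r, rfl⟩ := Ideal.Quotient.mk_surjective x
  change cmp X.gr g (e (Ideal.Quotient.mk _ r)) ∈ LinearMap.range e
  induction r using gr_induction 𝒜 with
  | h0 => rw [map_zero, map_zero, map_zero]; exact zero_mem _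
  | hh i r hr =>
    have h : e (Ideal.Quotient.mk _ r) ∈ X.gr i := he i _ ⟨r, hr, rfl⟩
    by_cases hi : i = g
    · subst hi; rw [cmp_of_mem _ h]; exact ⟨_, rfl⟩
    · rw [cmp_of_mem_ne _ h hi]; exact zero_mem _
  | hadd a b ha hb => rw [map_add, map_add, map_add]; exact add_mem ha hb

theorem exists_on_range {A B C : Type u} [AddCommGroup A] [Module R A] [AddCommGroup B] [Module R B] [AddCommGroup C]
    [Module R C] (G : A →ₗ[R] B) (F : A →ₗ[R] C) (h : LinearMap.ker G ≤ LinearMap.ker F) :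
    ∃ φ : LinearMap.range G →ₗ[R] C, ∀ a, φ ⟨G a, a, rfl⟩ = F a :=
  ⟨(LinearMap.ker G).liftQ F h ∘ₗ G.quotKerEquivRange.symm.toLinearMap, fun a => by
    rw [LinearMap.comp_apply, LinearEquiv.coe_coe]
    erw [LinearMap.quotKerEquivRange_symm_apply_image]
    rfl⟩

variable [IsNoetherianRing R]

/-- A map from an ideal containing a power of a graded maximal ideal extends to the ring. -/
theorem exists_extend_of_pow_le {X : GMod.{u} 𝒜} (hX : IsStarInj 𝒜 X.gr) (m : HomogeneousIdeal 𝒜)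
    [m.toIdeal.IsMaximal] (k : ℕ) : ∀ (K : Ideal R), m.toIdeal ^ k ≤ K → ∀ φ : K →ₗ[R] X.carrier,
      ∃ g : R →ₗ[R] X.carrier, ∀ (x : R) (hx : x ∈ K), g x = φ ⟨x, hx⟩ := by
  classical
  intro K
  induction K using WellFoundedGT.induction with
  | _ K ih =>
    intro hk φ
    by_cases hK : K = ⊤
    · subst hK
      exact ⟨φ ∘ₗ (Submodule.topEquiv : (⊤ : Ideal R) ≃ₗ[R] R).symm.toLinearMap, fun x hx => rfl⟩
    have hex : ∃ j, m.toIdeal ^ j ≤ K := ⟨k, hk⟩
    have h0 : Nat.find hex ≠ 0 := fun h => hK (eq_top_iff.2 (by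
      have := Nat.find_spec hex
      rwa [h, pow_zero, Ideal.one_eq_top] at this))
    obtain ⟨j, hj⟩ := Nat.exists_eq_succ_of_ne_zero h0
    obtain ⟨a, ha, haK⟩ := SetLike.not_le_iff_exists.1 (Nat.find_min hex (show j < Nat.find hex by omega))
    have hmem : ∀ r ∈ m.toIdeal, r * a ∈ K := fun r hr => by
      refine Nat.find_spec hex ?_
      rw [hj, pow_succ, mul_comm r a]
      exact Ideal.mul_mem_mul ha hr
    have hcol : ∀ r : R, r * a ∈ K → r ∈ m.toIdeal := fun r hr => by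
      by_contra hrm
      obtain ⟨s, t, ht, hst⟩ := Ideal.IsMaximal.exists_inv (I := m.toIdeal) inferInstance hrm
      refine haK ?_
      have : a = s * (r * a) + t * a := by rw [← mul_assoc, ← add_mul, hst, one_mul]
      rw [this]
      exact add_mem (K.mul_mem_left s hr) (hmem t ht)
    let A₀ : GMod.{u} 𝒜 := gmod 𝒜 𝒜
    let P : Submodule R A₀.carrier := m.toIdeal
    have hM : P.IsHomogeneous A₀.gr := fun g r hr => by
      have e := cmp_eq_proj A₀ (g := g) (cmp (M := R) 𝒜 g) (fun y hy => cmp_of_mem 𝒜 hy)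
        (fun h hne y hy => cmp_of_mem_ne 𝒜 hy hne) r
      exact (congrArg (· ∈ (m.toIdeal : Submodule R R)) e).mpr (m.isHomogeneous g hr)
    let ψ : m.toIdeal →ₗ[R] X.carrier :=
      φ ∘ₗ ((LinearMap.toSpanSingleton R R a).comp m.toIdeal.subtype).codRestrict K fun r => hmem r.1 r.2
    have hfin : Module.Finite R (sub A₀ P hM).carrier := (inferInstance : Module.Finite R m.toIdeal)
    obtain ⟨Ψ, hΨ⟩ := exists_extend_of_finite (sub A₀ P hM) hX (Z := A₀) m.toIdeal.subtype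
      (isHom_subtype A₀ P hM) (Submodule.injective_subtype _) ψ
    let e : X.carrier := Ψ (1 : R)
    have he : ∀ r (hr : r ∈ m.toIdeal), r • e = φ ⟨r * a, hmem r hr⟩ := fun r hr => by
      refine (map_smul Ψ r (1 : R)).symm.trans ?_
      rw [show r • (1 : R) = r from mul_one r]
      exact (LinearMap.congr_fun hΨ ⟨r, hr⟩)
    let G : (K × R) →ₗ[R] R := LinearMap.coprod K.subtype (LinearMap.toSpanSingleton R R a)
    let F : (K × R) →ₗ[R] X.carrier := LinearMap.coprod φ (LinearMap.toSpanSingleton R X.carrier e)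
    obtain ⟨φ', hφ'⟩ := exists_on_range G F (by
      rintro ⟨⟨x, hx⟩, r⟩ h
      have h1 : x + r * a = 0 := h
      have hr : r * a ∈ K := by rw [eq_neg_of_add_eq_zero_right h1]; exact neg_mem hx
      change φ ⟨x, hx⟩ + r • e = 0
      rw [he r (hcol r hr), ← map_add]
      exact (congrArg φ (Subtype.ext h1)).trans (map_zero φ))
    have hle : K ≤ LinearMap.range G := fun x hx => ⟨(⟨x, hx⟩, 0), by
      change x + (0 : R) * a = x
      rw [zero_mul, add_zero]⟩
    have hlt : K < LinearMap.range G := lt_of_le_not_ge hle fun h => haK (h ⟨(0, 1), by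
      change (0 : R) + 1 * a = a
      rw [one_mul, zero_add]⟩)
    obtain ⟨g, hg⟩ := ih _ hlt (hk.trans hle) φ'
    refine ⟨g, fun x hx => ?_⟩
    have hx' : G (⟨x, hx⟩, 0) = x := by
      change x + (0 : R) * a = x
      rw [zero_mul, add_zero]
    rw [hg x (hle hx), show (⟨x, hle hx⟩ : LinearMap.range G) = ⟨G (⟨x, hx⟩, 0), _, rfl⟩ from Subtype.ext hx'.symm,
      hφ']
    change φ ⟨x, hx⟩ + (0 : R) • e = φ ⟨x, hx⟩
    rw [zero_smul, add_zero]

theorem injective_of_gam_eq_top {X : GMod.{u} 𝒜} (hX : IsStarInj 𝒜 X.gr) (m : HomogeneousIdeal 𝒜)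
    [m.toIdeal.IsMaximal] (ht : _root_.GrLC.gam m.toIdeal X.carrier = ⊤) : Module.Injective R X.carrier := by
  refine Module.Baer.injective fun J φ => ?_
  have hJ : ∃ s, ∀ r ∈ m.toIdeal ^ s, ∀ x : J, r • φ x = 0 := by
    classical
    obtain ⟨T, hT⟩ := (Module.Finite.fg_top : (⊤ : Submodule R J).FG)
    choose n hn using fun x : J => show φ x ∈ _root_.GrLC.gam m.toIdeal X.carrier from ht ▸ Submodule.mem_top
    refine ⟨T.sup n, fun r hr x => ?_⟩
    induction (show x ∈ Submodule.span R (T : Set J) from hT ▸ Submodule.mem_top) using Submodule.span_induction with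
    | mem y hy => exact hn y r (Ideal.pow_le_pow_right (Finset.le_sup (Finset.mem_coe.1 hy)) hr)
    | zero => rw [map_zero, smul_zero]
    | add a b _ _ ha hb => rw [map_add, smul_add, ha, hb, add_zero]
    | smul c a _ ha => rw [map_smul, smul_comm, ha, smul_zero]
  obtain ⟨s, hs⟩ := hJ
  obtain ⟨k, hk⟩ := Ideal.exists_pow_inf_eq_pow_smul m.toIdeal (J : Submodule R R)
  have hzero : ∀ x (hx : x ∈ J), x ∈ m.toIdeal ^ (k + s) → φ ⟨x, hx⟩ = 0 := by
    intro x hx hxm
    have h1 : x ∈ m.toIdeal ^ s • (J : Submodule R R) := by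
      have h2 : x ∈ (m.toIdeal ^ (k + s) • ⊤ ⊓ J : Submodule R R) := ⟨by rwa [smul_eq_mul, Ideal.mul_top], hx⟩
      rw [hk (k + s) (Nat.le_add_right k s), Nat.add_sub_cancel_left] at h2
      exact Submodule.smul_mono le_rfl inf_le_right h2
    suffices ∃ h : x ∈ J, φ ⟨x, h⟩ = 0 from this.2
    refine Submodule.smul_induction_on h1 (fun r hr y hy => ⟨J.smul_mem r hy, ?_⟩) ?_
    · exact (map_smul φ r ⟨y, hy⟩).trans (hs r hr _)
    · rintro a b ⟨ha, ha0⟩ ⟨hb, hb0⟩
      exact ⟨add_mem ha hb, (map_add φ ⟨a, ha⟩ ⟨b, hb⟩).trans (by rw [ha0, hb0, add_zero])⟩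
  let N : Ideal R := m.toIdeal ^ (k + s)
  let G : (J × N) →ₗ[R] R := LinearMap.coprod J.subtype N.subtype
  obtain ⟨φ', hφ'⟩ := exists_on_range G (φ ∘ₗ LinearMap.fst R J N) (by
    rintro ⟨⟨x, hx⟩, ⟨y, hy⟩⟩ h
    have h1 : x + y = 0 := h
    refine hzero x hx ?_
    rw [eq_neg_of_add_eq_zero_left h1]
    exact neg_mem hy)
  obtain ⟨g, hg⟩ := exists_extend_of_pow_le hX m (k + s) (LinearMap.range G)
    (fun y hy => ⟨(0, ⟨y, hy⟩), zero_add y⟩) φ'
  refine ⟨g, fun x hx => ?_⟩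
  have hx' : G (⟨x, hx⟩, 0) = x := add_zero x
  rw [hg x ⟨_, hx'⟩, show (⟨x, ⟨_, hx'⟩⟩ : LinearMap.range G) = ⟨G (⟨x, hx⟩, 0), _, rfl⟩ from Subtype.ext hx'.symm, hφ']
  rfl

theorem isInjectiveHull_of_starInjHull {m : HomogeneousIdeal 𝒜} [m.toIdeal.IsMaximal] {X : GMod.{u} 𝒜}
    {e : (R ⧸ m.toIdeal) →ₗ[R] X.carrier} (he : IsStarInjHull 𝒜 (quotGr 𝒜 m) X.gr e) :
    InjHull.IsInjectiveHull e :=
  ⟨⟨he.injective, IsStarEss_isEssential he.toIsStarEss (isHomogeneous_range_quot he.grHom)⟩,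
    injective_of_gam_eq_top he.starInj m (gam_eq_top he.toIsStarEss)⟩

end GrothLib.GrLC
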