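import Groth.Agent.Lib.GrLC.InjDimGraded
import Groth.Agent.Lib.GrLC.CanonLoc
import Groth.Agent.Lib.GrLC.MaxHull
import Groth.Agent.Lib.Gor.Hull
import Groth.Agent.Lib.Gor.Localization
import Groth.Agent.Lib.CanonMod.CM
import Groth.Agent.Lib.CanonMod.Unique

/-!
# Gorenstein graded rings over a field and their canonical modules
-/

universe u

open CategoryTheory CategoryTheory.Abelian

namespace GrothLib.GrLC

open _root_.GrLC (GMod)

noncomputable section

variable {R : Type u} [CommRing R] [IsNoetherianRing R] {σ : Type u} [SetLike σ R] [AddSubgroupClass σ R] {𝒜 : ℤ → σ}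
  [GradedRing 𝒜]

omit [IsNoetherianRing R] in
theorem pos_of_bot {𝒜 : ℤ → AddSubgroup R} (hpos : ∀ n : ℤ, n < 0 → 𝒜 n = ⊥) :
    ∀ n : ℤ, n < 0 → ∀ r ∈ 𝒜 n, r = 0 :=
  fun n hn r hr => by rwa [hpos n hn, AddSubgroup.mem_bot] at hr

variable (hpos : ∀ n : ℤ, n < 0 → ∀ r ∈ 𝒜 n, r = 0) (h0 : IsField (_root_.GrLC.deg0 𝒜))
  {m : HomogeneousIdeal 𝒜} (hm : _root_.GrLC.IsStarLocal 𝒜 m)
  (hirr : ∀ n : ℤ, 0 < n → ∀ r ∈ 𝒜 n, r ∈ m.toIdeal)

omit [IsNoetherianRing R] in
theorem irr_of_span (hmsp : m.toIdeal = Ideal.span (⋃ n ∈ Set.Ioi (0 : ℤ), (𝒜 n : Set R))) :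
    ∀ n : ℤ, 0 < n → ∀ r ∈ 𝒜 n, r ∈ m.toIdeal :=
  fun n hn _ hr => hmsp.ge (Ideal.subset_span (Set.mem_iUnion₂.2 ⟨n, hn, hr⟩))

include hpos h0 hm hirr in
/-- A positively graded ring over a field is Gorenstein when it is so at the irrelevant ideal. -/
theorem isGorensteinRing_of_irrelevant [m.toIdeal.IsMaximal]
    (h : LocCoh.IsGorensteinLocalRing (Localization.AtPrime m.toIdeal)) : LocCoh.IsGorensteinRing R := by
  obtain ⟨N, hN⟩ := h.exists_hasInjectiveDimensionLT
  have hN' := hasInjectiveDimensionLT_of_iso (GrothLib.Gor.localizedModuleSelfIso m.toIdeal.primeCompl).symm N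
  have hR : HasInjectiveDimensionLT (ModuleCat.of R R) (N + 2) :=
    @hasInjectiveDimensionLT_graded R _ _ (ModuleCat.of R R) _ _ σ _ _ 𝒜 _ hpos h0 m hm hirr (gmod 𝒜 𝒜).gr
      (gmod 𝒜 𝒜).dec (gmod 𝒜 𝒜).gsmul
      fun i hi => subsingleton_ext_residue m.toIdeal (ModuleCat.of R R) hN' hi
  exact { isGorensteinLocalRing_localization := fun p _ =>
    GrothLib.Gor.isGorensteinLocalRing_localization p hR }

variable {n : ℕ} (hn : ringKrullDim R = n)

include hpos hm hn in
theorem ringKrullDim_localization [m.toIdeal.IsMaximal] :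
    ringKrullDim (Localization.AtPrime m.toIdeal) = n := by
  rw [IsLocalization.AtPrime.ringKrullDim_eq_height m.toIdeal, ← ringKrullDim_eq_height hpos hm, hn]

variable {E' : Type u} [AddCommGroup E'] [Module R E'] {𝓔 : ℤ → AddSubgroup E'} [DirectSum.Decomposition 𝓔]
  [SetLike.GradedSMul 𝒜 𝓔] {e : (R ⧸ m.toIdeal) →ₗ[R] E'}
  (he : _root_.GrLC.IsStarInjHull 𝒜 (_root_.GrLC.quotGr 𝒜 m) 𝓔 e)
  {I : _root_.GrLC.StarInjRes 𝒜 𝒜}
  {C : Type u} [AddCommGroup C] [Module R C] {𝒞 : ℤ → AddSubgroup C} [DirectSum.Decomposition 𝒞]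
  [SetLike.GradedSMul 𝒜 𝒞] (hC : _root_.GrLC.IsStarCanonical 𝒜 𝒞 𝓔 m n I)

include he hC in
/-- The localisation of a *canonical module is a canonical module. -/
theorem exists_local_canonical [m.toIdeal.IsMaximal] :
    ∃ (E₀ : Type u) (_ : AddCommGroup E₀) (_ : Module (Localization.AtPrime m.toIdeal) E₀)
      (f : IsLocalRing.ResidueField (Localization.AtPrime m.toIdeal) →ₗ[Localization.AtPrime m.toIdeal] E₀),
      InjHull.IsInjectiveHull f ∧
      Nonempty ((LocalizedModule m.toIdeal.primeCompl C →ₗ[Localization.AtPrime m.toIdeal] E₀) ≃ₗ[Localization.AtPrime m.toIdeal]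
        LocCoh.H (IsLocalRing.maximalIdeal (Localization.AtPrime m.toIdeal)) n (Localization.AtPrime m.toIdeal)) := by
  obtain ⟨Q, _, _, i, hQ, hi⟩ := GrothLib.InjMod.exists_embedding_injective
    (R := Localization.AtPrime m.toIdeal) (IsLocalRing.ResidueField (Localization.AtPrime m.toIdeal))
  obtain ⟨E₀, f, -, hf⟩ := GrothLib.InjMod.exists_hull_of_embedding hQ i hi
  obtain ⟨-, φ, -⟩ := hC
  obtain ⟨ψ⟩ := nonempty_EH_equiv I m n
  exact ⟨E₀, inferInstance, inferInstance, f, hf,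
    nonempty_dual_localization m.toIdeal (isInjectiveHull_of_starInjHull (X := _root_.GrLC.GMod.of 𝒜 E' 𝓔) he) (φ ≪≫ₗ ψ) hf⟩

variable [LocCoh.IsCohenMacaulayRing R]

include hpos hm hn he hC in
theorem exists_local_canonical_cm [m.toIdeal.IsMaximal] :
    LocCoh.IsCohenMacaulayModule (Localization.AtPrime m.toIdeal) (LocalizedModule m.toIdeal.primeCompl C) ∧
      HasInjectiveDimensionLT (ModuleCat.of (Localization.AtPrime m.toIdeal) (LocalizedModule m.toIdeal.primeCompl C))
        (n + 1) := by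
  haveI : Module.Finite R C := hC.1
  haveI := LocCoh.IsCohenMacaulayRing.isCohenMacaulayLocalRing_localization (R := R) m.toIdeal
  obtain ⟨E₀, _, _, f, hf, ⟨eK⟩⟩ := exists_local_canonical he hC
  exact ⟨(GrothLib.CanonMod.isCohenMacaulayModule (ringKrullDim_localization hpos hm hn) hf eK).1,
    GrothLib.CanonMod.hasInjectiveDimensionLT (ringKrullDim_localization hpos hm hn) hf eK⟩

include hpos h0 hm hirr hn he hC in
/-- The canonical module has finite injective dimension. -/
theorem exists_hasInjectiveDimensionLT_canonical [m.toIdeal.IsMaximal] :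
    ∃ N : ℕ, HasInjectiveDimensionLT (ModuleCat.of R C) N := by
  haveI : Module.Finite R C := hC.1
  haveI := (exists_local_canonical_cm hpos hm hn he hC).2
  have hloc : HasInjectiveDimensionLT ((ModuleCat.of R C).localizedModule m.toIdeal.primeCompl) (n + 1) :=
    hasInjectiveDimensionLT_of_iso (X := ModuleCat.of _ (LocalizedModule m.toIdeal.primeCompl C))
      (Shrink.linearEquiv (Localization m.toIdeal.primeCompl) (LocalizedModule m.toIdeal.primeCompl C)).symm.toModuleIso
      (n + 1)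
  exact ⟨_, hasInjectiveDimensionLT_graded (ModuleCat.of R C) hpos h0 hm hirr (ℳ := 𝒞)
    fun i hi => subsingleton_ext_residue m.toIdeal (ModuleCat.of R C) hloc hi⟩

include hpos h0 hirr in
omit [IsNoetherianRing R] [LocCoh.IsCohenMacaulayRing R] in
/-- A finite graded module free of rank one at the irrelevant ideal is a shift of the ring. -/
theorem exists_shift_equiv [m.toIdeal.IsMaximal] [Module.Finite R C]
    (φ : LocalizedModule m.toIdeal.primeCompl C ≃ₗ[Localization.AtPrime m.toIdeal] Localization.AtPrime m.toIdeal) :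
    ∃ (a : ℤ) (f : R →ₗ[R] C), Function.Bijective f ∧ _root_.GrLC.IsGrHomDeg 𝒜 𝒞 f a := by
  classical
  let mk := LocalizedModule.mkLinearMap m.toIdeal.primeCompl C
  obtain ⟨κ, _, deg, gen, hgen, hspan⟩ : ∃ (κ : Type u) (_ : Fintype κ) (deg : κ → ℤ) (gen : κ → C),
      (∀ a, gen a ∈ 𝒞 (deg a)) ∧ Submodule.span R (Set.range gen) = ⊤ := by
    obtain ⟨κ, i, deg, gen, hgen, hspan⟩ :=
      @exists_homogeneous_generators ℤ _ _ R _ _ _ _ 𝒜 _ (_root_.GrLC.GMod.of 𝒜 C 𝒞) ‹Module.Finite R C›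
    exact ⟨κ, i, deg, gen, hgen, hspan⟩
  have hlin : ∀ (r : R) (y : C), φ (mk (r • y)) = algebraMap R (Localization.AtPrime m.toIdeal) r * φ (mk y) :=
    fun r y => by
      rw [map_smul, ← algebraMap_smul (Localization.AtPrime m.toIdeal) r (mk y), map_smul, smul_eq_mul]
  obtain ⟨a, ha⟩ : ∃ a, IsUnit (φ (mk (gen a))) := by
    by_contra h
    push_neg at h
    have hall : ∀ x : C, φ (mk x) ∈ IsLocalRing.maximalIdeal (Localization.AtPrime m.toIdeal) := fun x => by
      obtain ⟨c, hc⟩ := (Submodule.mem_span_range_iff_exists_fun R).1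
        (hspan.ge (Submodule.mem_top : x ∈ (⊤ : Submodule R C)))
      rw [← hc, map_sum, map_sum]
      refine sum_mem fun b _ => ?_
      rw [hlin]
      exact Ideal.mul_mem_left _ _ ((IsLocalRing.mem_maximalIdeal _).2 (h b))
    obtain ⟨y, hy⟩ := φ.surjective 1
    obtain ⟨⟨x, s⟩, rfl⟩ := IsLocalizedModule.mk'_surjective m.toIdeal.primeCompl mk y
    refine (IsLocalRing.maximalIdeal.isMaximal (Localization.AtPrime m.toIdeal)).ne_top ((Ideal.eq_top_iff_one _).2 ?_)
    have h2 : φ (mk x) = algebraMap R (Localization.AtPrime m.toIdeal) (s : R) * 1 := by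
      rw [← hy, ← smul_eq_mul, ← map_smul, algebraMap_smul]
      exact congrArg φ (IsLocalizedModule.mk'_cancel' mk x s).symm
    have := hall x
    rw [h2, mul_one] at this
    exact absurd (IsLocalization.map_units (Localization.AtPrime m.toIdeal) s) ((IsLocalRing.mem_maximalIdeal _).1 this)
  obtain ⟨u, hu⟩ := ha
  let x := gen a
  have hx : x ∈ 𝒞 (deg a) := hgen a
  refine ⟨deg a, LinearMap.toSpanSingleton R C x, ⟨fun r r' h => ?_, fun z => ?_⟩, fun g r hr => ?_⟩
  · have h' : (r - r') • x = 0 := by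
      rw [sub_smul, sub_eq_zero]
      simpa [LinearMap.toSpanSingleton_apply] using h
    have h1 : algebraMap R (Localization.AtPrime m.toIdeal) (r - r') * φ (mk x) = 0 := by
      rw [← hlin, h', map_zero, map_zero]
    rw [show φ (mk x) = (u : Localization.AtPrime m.toIdeal) from hu.symm, Units.mul_left_eq_zero,
      IsLocalization.map_eq_zero_iff m.toIdeal.primeCompl] at h1
    obtain ⟨s, hs⟩ := h1
    exact sub_eq_zero.1 ((Submodule.mem_bot R).1 (mem_of_smul_mem hpos
      (isUnit_cmp_zero hpos h0 hirr s.2) (gmod 𝒜 𝒜) isHomogeneous_bot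
      ((Submodule.mem_bot R).2 hs)))
  · have hW : (Submodule.span R {x}).IsHomogeneous 𝒞 := fun g y hy => by
      obtain ⟨r, rfl⟩ := Submodule.mem_span_singleton.1 hy
      change cmp 𝒞 g (r • x) ∈ _
      rw [cmp_smul_mem (𝒜 := 𝒜) 𝒞 r hx]
      exact Submodule.smul_mem _ _ (Submodule.mem_span_singleton_self x)
    obtain ⟨⟨c, s⟩, hcs⟩ := IsLocalization.mk'_surjective m.toIdeal.primeCompl (φ (mk z) * ↑u⁻¹)
    change IsLocalization.mk' (Localization.AtPrime m.toIdeal) c s = _ at hcs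
    have h1 : mk ((s : R) • z) = mk (c • x) := φ.injective (by
      rw [hlin, hlin, show φ (mk x) = (u : Localization.AtPrime m.toIdeal) from hu.symm,
        ← IsLocalization.mk'_spec' (Localization.AtPrime m.toIdeal) c s, hcs, mul_assoc, mul_assoc, Units.inv_mul,
        mul_one])
    obtain ⟨t, ht⟩ := IsLocalizedModule.exists_of_eq (S := m.toIdeal.primeCompl) (f := mk) h1
    have hmem : ((t : R) * (s : R)) • z ∈ Submodule.span R {x} := by
      rw [mul_smul]
      change t • ((s : R) • z) ∈ _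
      rw [ht, Submonoid.smul_def]
      exact Submodule.smul_mem _ _ (Submodule.smul_mem _ _ (Submodule.mem_span_singleton_self x))
    obtain ⟨r, hr⟩ := Submodule.mem_span_singleton.1 (mem_of_smul_mem hpos
      (isUnit_cmp_zero hpos h0 hirr (m.toIdeal.primeCompl.mul_mem t.2 s.2))
      (gmod 𝒜 𝒞) (W := Submodule.span R {x}) (fun g y hy =>
        (congrArg (· ∈ Submodule.span R {x}) (cmp_eq_proj (gmod 𝒜 𝒞) (g := g) (cmp (M := C) 𝒞 g)
          (fun w hw => cmp_of_mem 𝒞 hw) (fun i hne w hw => cmp_of_mem_ne 𝒞 hw hne) y)).mpr (hW g hy)) hmem)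
    exact ⟨r, hr⟩
  · exact smul_mem' (𝒜 := 𝒜) 𝒞 hr hx

end

end GrothLib.GrLC
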