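import Groth.Agent.Lib.GrLC.Step

/-!
# Vanishing of the whole graded local cohomology
-/

universe u

open DirectSum

namespace GrothLib.GrLC

open _root_.GrLC (GMod IsGrHom StarInjRes gam)

variable {ι : Type} [AddCommGroup ι] [DecidableEq ι] {R : Type u} [CommRing R] [IsNoetherianRing R] {σ : Type u}
  [SetLike σ R] [AddSubgroupClass σ R] {𝒜 : ι → σ} [GradedRing 𝒜]

theorem subsingleton_EH_of_van {M : Type u} [AddCommGroup M] [Module R M] {τ : Type u} [SetLike τ M]
    [AddSubgroupClass τ M] {ℳ : ι → τ} [Decomposition ℳ] [SetLike.GradedSMul 𝒜 ℳ] (E : StarInjRes 𝒜 ℳ)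
    {a : HomogeneousIdeal 𝒜} {l : List (HElt 𝒜)} (hl : (hspan l).toIdeal = a.toIdeal) (i : ℕ)
    (h : ∀ g, Van l (gmod 𝒜 ℳ) i g) : Subsingleton (E.H a i) := by
  obtain ⟨e, -⟩ := iso_cech E hl i
  have hac := ((cech (gmod 𝒜 ℳ) l).acyclic_iff i).2 h
  have hzero : ∀ q, e q = 0 := fun q => by
    obtain ⟨⟨z, hz⟩, hq⟩ := Submodule.mkQ_surjective _ (e q)
    rw [← hq]
    exact (Submodule.Quotient.mk_eq_zero _).2 (hac hz)
  exact subsingleton_of_forall_eq 0 fun q => e.injective ((hzero q).trans (map_zero e).symm)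

/-- Multiplication by an element of the list being bijective, everything vanishes. -/
theorem van_of_bijective {l : List (HElt 𝒜)} {X : GMod.{u} 𝒜} {x : HElt 𝒜} (hx : x ∈ l)
    (hbij : Function.Bijective fun m : X.carrier => x.val • m) (n : ℕ) (g : ι) : Van l X n g := by
  refine van_of_inj_step hx fun k w _ _ hφ => ?_
  have hb := cechMap_bijective (X := shift X (-x.deg)) (Y := X) (mulShift X x) (isHom_mulShift X x) hbij l
  rcases n with _ | n
  · refine (Submodule.mem_bot R).2 ((hb 0).1 ?_)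
    rw [map_zero]
    exact (Submodule.mem_bot R).1 hφ
  · obtain ⟨b, hb'⟩ := hφ
    obtain ⟨b', rfl⟩ := (hb n).2 b
    refine ⟨b', (hb (n + 1)).1 ?_⟩
    rw [← (cechMap (mulShift X x) (isHom_mulShift X x) l).comm]
    exact hb'

end GrothLib.GrLC
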