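import Groth.Agent.Lib.GrLC.High
import Mathlib.RingTheory.GradedAlgebra.Radical
import Mathlib.RingTheory.Ideal.KrullsHeightTheorem

/-!
# Height of a prime and of its homogeneous core; dimension of a *local ring
-/

universe u

open DirectSum

namespace GrothLib.GrLC

variable {R : Type u} [CommRing R] {σ : Type u} [SetLike σ R] [AddSubgroupClass σ R] {𝒜 : ℤ → σ} [GradedRing 𝒜]

/-- components outside `[u, v]` lie in `I` -/
def Win (𝒜 : ℤ → σ) [GradedRing 𝒜] (I : Ideal R) (u v : ℤ) (b : R) : Prop :=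
  ∀ g, (g < u ∨ v < g) → cmp 𝒜 g b ∈ I

theorem exists_win (I : Ideal R) (b : R) : ∃ u v : ℤ, u ≤ v ∧ Win 𝒜 I u v b := by
  classical
  let S := insert (0 : ℤ) (decompose 𝒜 b).support
  have hS : S.Nonempty := ⟨0, Finset.mem_insert_self _ _⟩
  refine ⟨S.min' hS, S.max' hS, S.min'_le_max' hS, fun g hg => ?_⟩
  have : g ∉ (decompose 𝒜 b).support := fun hmem => by
    rcases hg with hg | hg
    · exact absurd (S.min'_le g (Finset.mem_insert_of_mem hmem)) (by omega)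
    · exact absurd (S.le_max' g (Finset.mem_insert_of_mem hmem)) (by omega)
  rw [cmp_apply, DFinsupp.notMem_support_iff.1 this, ZeroMemClass.coe_zero]
  exact zero_mem _

theorem mem_of_win {I : Ideal R} {u v : ℤ} {b : R} (h : Win 𝒜 I u v b)
    (h' : ∀ g, u ≤ g → g ≤ v → cmp 𝒜 g b ∈ I) : b ∈ I := by
  obtain ⟨S, hS⟩ := exists_sum_cmp 𝒜 b
  rw [hS]
  refine sum_mem fun g _ => ?_
  by_cases h1 : g < u ∨ v < g
  · exact h g h1
  · exact h' g (by omega) (by omega)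

/-- No prime lies strictly between a prime and its homogeneous core. -/
theorem eq_core_or_eq {P Q : Ideal R} [P.IsPrime] [hQ : Q.IsPrime] (h1 : (P.homogeneousCore 𝒜).toIdeal ≤ Q)
    (h2 : Q ≤ P) : Q = (P.homogeneousCore 𝒜).toIdeal ∨ Q = P := by
  classical
  set I := (P.homogeneousCore 𝒜).toIdeal with hI
  have hIp : I.IsPrime := Ideal.IsPrime.homogeneousCore (𝒜 := 𝒜) (inferInstance : P.IsPrime)
  have hIP : I ≤ P := Ideal.toIdeal_homogeneousCore_le 𝒜 P
  have hIh : I.IsHomogeneous 𝒜 := HomogeneousIdeal.isHomogeneous _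
  have hcore : ∀ g : ℤ, ∀ x ∈ 𝒜 g, x ∈ P → x ∈ I := fun g x hx hxP =>
    Ideal.mem_homogeneousCore_of_homogeneous_of_mem ⟨g, hx⟩ hxP
  have hex : ∀ b, b ∉ I → ∃ (u : ℤ) (n : ℕ), Win 𝒜 I u (u + n) b := fun b _ => by
    obtain ⟨u, v, huv, h⟩ := exists_win (𝒜 := 𝒜) I b
    exact ⟨u, (v - u).toNat, by rwa [Int.toNat_of_nonneg (by omega), add_sub_cancel]⟩
  rw [or_iff_not_imp_left]
  intro hne
  obtain ⟨a₀, ha₀, ha₀I⟩ := SetLike.not_le_iff_exists.1 fun h => hne (le_antisymm h h1)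
  have hPex : ∃ n : ℕ, ∃ b ∈ P, b ∉ I ∧ ∃ u, Win 𝒜 I u (u + n) b := by
    obtain ⟨u, n, h⟩ := hex a₀ ha₀I
    exact ⟨n, a₀, h2 ha₀, ha₀I, u, h⟩
  obtain ⟨c, hcP, hcI, p, hcw⟩ := Nat.find_spec hPex
  set w := Nat.find hPex with hwdef
  have hmin : ∀ b ∈ P, ∀ u v : ℤ, v - u < w → Win 𝒜 I u v b → b ∈ I := by
    intro b hb u v hlt hW
    by_contra hbI
    by_cases huv : u ≤ v
    · refine Nat.find_min hPex (m := (v - u).toNat) (by omega) ⟨b, hb, hbI, u, ?_⟩
      rwa [Int.toNat_of_nonneg (by omega), add_sub_cancel]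
    · exact hbI (mem_of_win (𝒜 := 𝒜) hW fun g hg hg' => absurd (hg.trans hg') huv)
  set t : ℤ := p + w with htdef
  have hw : 0 < w := by
    by_contra h0
    have h0 : w = 0 := by omega
    have hd : c - cmp 𝒜 p c ∈ I := by
      refine mem_of_win (𝒜 := 𝒜) (u := p + 1) (v := p) (fun g _ => ?_) (fun g hg hg' => absurd hg' (by omega))
      rw [map_sub]
      by_cases hgp : g = p
      · rw [hgp, cmp_of_mem 𝒜 (cmp_mem 𝒜 p c), sub_self]; exact zero_mem _
      · rw [cmp_of_mem_ne 𝒜 (cmp_mem 𝒜 p c) (Ne.symm hgp), sub_zero]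
        exact hcw g (by omega)
    have hP' : cmp 𝒜 p c ∈ P := by
      have := sub_mem hcP (hIP hd)
      rwa [sub_sub_cancel] at this
    have := add_mem hd (hcore p _ (cmp_mem 𝒜 p c) hP')
    rw [sub_add_cancel] at this
    exact hcI this
  have hct : cmp 𝒜 t c ∉ I := by
    intro h
    refine hcI (hmin c hcP p (p + w - 1) (by omega) fun g hg => ?_)
    by_cases hgt : g = t
    · rw [hgt]; exact h
    · exact hcw g (by omega)
  have hdiv : ∀ n : ℕ, ∀ u v : ℤ, v - u < n → ∀ b ∈ P, Win 𝒜 I u v b → ∃ (E : ℤ) (s q : R),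
      s ∈ 𝒜 E ∧ s ∉ I ∧ s * b - q * c ∈ I ∧ Win 𝒜 I (u + E - p) (v + E - t) q := by
    intro n
    induction n with
    | zero =>
      intro u v h b hb hW
      exact ⟨0, 1, 0, SetLike.GradedOne.one_mem, fun h1 => hIp.ne_top ((Ideal.eq_top_iff_one _).2 h1),
        by rw [one_mul, zero_mul, sub_zero]; exact hmin b hb u v (by omega) hW,
        fun g _ => by rw [map_zero]; exact zero_mem _⟩
    | succ n ih =>
      intro u v h b hb hW
      by_cases hlt : v - u < w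
      · exact ⟨0, 1, 0, SetLike.GradedOne.one_mem, fun h1 => hIp.ne_top ((Ideal.eq_top_iff_one _).2 h1),
          by rw [one_mul, zero_mul, sub_zero]; exact hmin b hb u v hlt hW,
          fun g _ => by rw [map_zero]; exact zero_mem _⟩
      obtain ⟨E, s, q, hsE, hsI, hsq, hqW⟩ := ih (u + t) (v + t - 1) (by omega)
        (cmp 𝒜 t c * b - cmp 𝒜 v b * c) (sub_mem (P.mul_mem_left _ hb) (P.mul_mem_left _ hcP)) (fun g hg => by
          rw [map_sub, ← smul_eq_mul, ← smul_eq_mul, cmp_smul_of_mem 𝒜 (cmp_mem 𝒜 t c),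
            cmp_smul_of_mem 𝒜 (cmp_mem 𝒜 v b), smul_eq_mul, smul_eq_mul]
          by_cases hgt : g = v + t
          · rw [hgt, add_sub_cancel_right, add_sub_cancel_left, mul_comm, sub_self]
            exact zero_mem _
          · exact sub_mem (I.mul_mem_left _ (hW _ (by omega))) (I.mul_mem_left _ (hcw _ (by omega))))
      refine ⟨E + t, s * cmp 𝒜 t c, q + s * cmp 𝒜 v b, SetLike.mul_mem_graded hsE (cmp_mem 𝒜 t c),
        fun h => (hIp.mem_or_mem h).elim hsI hct, ?_, fun g hg => ?_⟩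
      · convert hsq using 1
        ring
      · rw [map_add]
        refine add_mem (hqW g (by omega)) ?_
        rw [cmp_of_mem_ne 𝒜 (SetLike.mul_mem_graded hsE (cmp_mem 𝒜 v b)) (by omega)]
        exact zero_mem _
  have hQex : ∃ n : ℕ, ∃ b ∈ Q, b ∉ I ∧ ∃ u, Win 𝒜 I u (u + n) b := by
    obtain ⟨u, n, h⟩ := hex a₀ ha₀I
    exact ⟨n, a₀, ha₀, ha₀I, u, h⟩
  obtain ⟨a, haQ, haI, u, haW⟩ := Nat.find_spec hQex
  have hhom : ∀ (E : ℤ) (s : R), s ∈ 𝒜 E → s ∉ I → s ∉ Q := fun E s hs hsI h => hsI (hcore E s hs (h2 h))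
  refine le_antisymm h2 fun b hb => ?_
  have hcQ : c ∈ Q := by
    by_contra hcQ
    obtain ⟨E, s, q, hs, hsI, hsq, hqW⟩ := hdiv (Nat.find hQex + 1) u (u + Nat.find hQex) (by omega) a (h2 haQ) haW
    have hq : q ∈ Q := by
      refine (hQ.mem_or_mem ?_).resolve_right hcQ
      have := sub_mem (Q.mul_mem_left s haQ) (h1 hsq)
      rwa [sub_sub_cancel] at this
    have hqI : q ∉ I := fun h => (hIp.mem_or_mem (show s * a ∈ I from by
      have := add_mem hsq (I.mul_mem_right c h)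
      rwa [sub_add_cancel] at this)).elim hsI haI
    have hle : u + E - p ≤ u + Nat.find hQex + E - t := by
      by_contra hgt
      exact hqI (mem_of_win (𝒜 := 𝒜) hqW fun g hg hg' => absurd (hg.trans hg') hgt)
    refine Nat.find_min hQex (m := ((u + Nat.find hQex + E - t) - (u + E - p)).toNat) (by omega)
      ⟨q, hq, hqI, u + E - p, ?_⟩
    rwa [Int.toNat_of_nonneg (by omega), add_sub_cancel]
  obtain ⟨u, v, -, hW⟩ := exists_win (𝒜 := 𝒜) I b
  obtain ⟨E, s, q, hs, hsI, hsq, -⟩ := hdiv ((v - u).toNat + 1) u v (by omega) b hb hW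
  refine (hQ.mem_or_mem ?_).resolve_left (hhom E s hs hsI)
  have := add_mem (h1 hsq) (Q.mul_mem_left q hcQ)
  rwa [sub_add_cancel] at this

theorem height_le_of_core_height_le [IsNoetherianRing R] : ∀ (n : ℕ) (P : Ideal R), P.IsPrime →
    (P.homogeneousCore 𝒜).toIdeal.height ≤ n → P.height ≤ (n + 1 : ℕ) := by
  intro n
  induction n using Nat.strong_induction_on with
  | _ n ih =>
    intro P hP hn
    rw [Ideal.height_le_iff]
    intro Q hQ hlt
    have hIp : (P.homogeneousCore 𝒜).toIdeal.IsPrime := Ideal.IsPrime.homogeneousCore (𝒜 := 𝒜) hP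
    rcases (Ideal.homogeneousCore_mono 𝒜 hlt.le).eq_or_lt with e | hlt'
    · rcases eq_core_or_eq (𝒜 := 𝒜) (P := P) (Q := Q) (e ▸ Ideal.toIdeal_homogeneousCore_le 𝒜 Q) hlt.le with h | h
      · rw [h]; exact hn.trans_lt (by exact_mod_cast n.lt_succ_self)
      · exact absurd h hlt.ne
    · have hJp : (Q.homogeneousCore 𝒜).toIdeal.IsPrime := Ideal.IsPrime.homogeneousCore (𝒜 := 𝒜) hQ
      have h1 : (Q.homogeneousCore 𝒜).toIdeal.height < (n : ℕ∞) :=
        lt_of_lt_of_le (Ideal.height_strict_mono_of_isPrime_of_isPrime hlt') hn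
      obtain ⟨j, hj⟩ := ENat.ne_top_iff_exists.1 h1.ne_top
      rw [← hj] at h1
      have hjn : j < n := by exact_mod_cast h1
      exact (ih j hjn Q hQ hj.ge).trans_lt (by exact_mod_cast Nat.succ_lt_succ hjn)

theorem isMaximal_of_isStarLocal (hpos : ∀ n : ℤ, n < 0 → ∀ r ∈ 𝒜 n, r = 0) {m : HomogeneousIdeal 𝒜}
    (hm : _root_.GrLC.IsStarLocal 𝒜 m) : m.toIdeal.IsMaximal := by
  classical
  have hne : m.toIdeal ≠ ⊤ := fun h => hm.1.1 (HomogeneousIdeal.toIdeal_injective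
    (h.trans HomogeneousIdeal.toIdeal_top.symm))
  have hrest : ∀ x : R, x - cmp 𝒜 0 x ∈ m.toIdeal := by
    intro x
    refine mem_of_win (𝒜 := 𝒜) (u := 1) (v := 0) (fun g _ => ?_) (fun g hg hg' => absurd hg' (by omega))
    rcases lt_trichotomy g 0 with h | rfl | h
    · rw [hpos g h _ (cmp_mem 𝒜 g _)]; exact zero_mem _
    · rw [map_sub, cmp_of_mem 𝒜 (cmp_mem 𝒜 0 x), sub_self]; exact zero_mem _
    · exact pos_mem_of_isStarLocal hpos hm g h _ (cmp_mem 𝒜 g _)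
  rw [Ideal.isMaximal_iff]
  refine ⟨fun h => hne ((Ideal.eq_top_iff_one _).2 h), fun J x hle hx hxJ => ?_⟩
  have hc : cmp 𝒜 0 x ∉ m.toIdeal := fun h => hx (by simpa using add_mem (hrest x) h)
  have hcJ : cmp 𝒜 0 x ∈ J := by simpa using sub_mem hxJ (hle (hrest x))
  let P : HomogeneousIdeal 𝒜 := ⟨Ideal.span {cmp 𝒜 0 x}, Ideal.homogeneous_span _ _
    fun y hy => by rw [Set.mem_singleton_iff.1 hy]; exact ⟨0, cmp_mem 𝒜 0 x⟩⟩
  have htop : (1 : R) ∈ (m ⊔ P).toIdeal := by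
    rw [hm.1.2 _ (left_lt_sup.2 fun h => hc (h (Ideal.mem_span_singleton_self _)))]
    exact Submodule.mem_top
  rw [HomogeneousIdeal.toIdeal_sup] at htop
  have hPJ : P.toIdeal ≤ J := Ideal.span_le.2 (Set.singleton_subset_iff.2 hcJ)
  exact sup_le hle hPJ htop

theorem le_of_isStarLocal [IsNoetherianRing R] {m : HomogeneousIdeal 𝒜} (hm : _root_.GrLC.IsStarLocal 𝒜 m)
    {J : HomogeneousIdeal 𝒜} (hJ : J ≠ ⊤) : J ≤ m := by
  obtain ⟨K, ⟨hJK, hK⟩, hmax⟩ := (InvImage.wf (fun K : HomogeneousIdeal 𝒜 => K.toIdeal)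
    (wellFounded_gt (α := Ideal R))).has_min {K | J ≤ K ∧ K ≠ ⊤} ⟨J, le_rfl, hJ⟩
  have : IsCoatom K := ⟨hK, fun L hL => by
    by_contra hLt
    exact hmax L ⟨hJK.trans hL.le, hLt⟩ hL⟩
  exact hm.2 K this ▸ hJK

/-- The dimension of a nonnegatively graded *local ring is the height of its *maximal ideal. -/
theorem ringKrullDim_eq_height [IsNoetherianRing R] (hpos : ∀ n : ℤ, n < 0 → ∀ r ∈ 𝒜 n, r = 0)
    {m : HomogeneousIdeal 𝒜} (hm : _root_.GrLC.IsStarLocal 𝒜 m) :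
    ringKrullDim R = (m.toIdeal.height : WithBot ℕ∞) := by
  have hmm := isMaximal_of_isStarLocal hpos hm
  refine le_antisymm (ringKrullDim_le_iff_height_le (R := R) _ |>.2 fun P hP => ?_)
    (Ideal.height_le_ringKrullDim_of_ne_top hmm.ne_top)
  have hIp : (P.homogeneousCore 𝒜).toIdeal.IsPrime := Ideal.IsPrime.homogeneousCore (𝒜 := 𝒜) hP
  refine WithBot.coe_le_coe.2 ?_
  have hle : P.homogeneousCore 𝒜 ≤ m := le_of_isStarLocal hm fun h => hIp.ne_top (by
    rw [h, HomogeneousIdeal.toIdeal_top])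
  rcases hle.eq_or_lt with e | hlt
  · rw [hmm.eq_of_le hP.ne_top (e ▸ Ideal.toIdeal_homogeneousCore_le 𝒜 P)]
  · have h1 := Ideal.height_strict_mono_of_isPrime_of_isPrime (show (P.homogeneousCore 𝒜).toIdeal < m.toIdeal from hlt)
    obtain ⟨j, hj⟩ := ENat.ne_top_iff_exists.1 h1.ne_top
    refine (height_le_of_core_height_le (𝒜 := 𝒜) j P hP hj.ge).trans ?_
    rw [← hj] at h1
    exact_mod_cast Order.add_one_le_of_lt h1

end GrothLib.GrLC
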