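import Groth.Agent.Lib.GrLC.Koszul

/-!
# Translation to `Hcomp` and `endDeg`
-/

universe u

open DirectSum

namespace GrothLib.GrLC

open _root_.GrLC (GMod IsGrHom StarInjRes endDeg)

variable {ι : Type} [AddCommGroup ι] [DecidableEq ι] {R : Type u} [CommRing R] {σ : Type u} [SetLike σ R]
  [AddSubgroupClass σ R] {𝒜 : ι → σ} [GradedRing 𝒜]
variable {M : Type u} [AddCommGroup M] [Module R M] {τ : Type u} [SetLike τ M] [AddSubgroupClass τ M] {ℳ : ι → τ}
  [Decomposition ℳ] [SetLike.GradedSMul 𝒜 ℳ] (E : StarInjRes 𝒜 ℳ) {a : HomogeneousIdeal 𝒜}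

theorem Hcomp_eq_bot_iff_Hgr (i : ℕ) (g : ι) : E.Hcomp a i g = ⊥ ↔ E.Hgr a i g = ⊥ := by
  rw [StarInjRes.Hgr, ← Submodule.toAddSubgroup_inj]
  simp

theorem Hgr_eq_bot_iff_van [IsNoetherianRing R] {l : List (HElt 𝒜)} (hl : (hspan l).toIdeal = a.toIdeal) (i : ℕ)
    (g : ι) : E.Hgr a i g = ⊥ ↔ Van l (gmod 𝒜 ℳ) i g := Hgr_eq_bot_iff_vanish E hl i g

theorem Hcomp_eq_bot_iff_van [IsNoetherianRing R] {l : List (HElt 𝒜)} (hl : (hspan l).toIdeal = a.toIdeal) (i : ℕ)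
    (g : ι) : E.Hcomp a i g = ⊥ ↔ Van l (gmod 𝒜 ℳ) i g :=
  (Hcomp_eq_bot_iff_Hgr E i g).trans (Hgr_eq_bot_iff_van E hl i g)

theorem endDeg_le_iff {M : Type*} [AddCommGroup M] (ℳ : ℤ → AddSubgroup M) (d : ℤ) :
    endDeg ℳ ≤ ((d : WithTop ℤ) : WithBot (WithTop ℤ)) ↔ ∀ n, d < n → ℳ n = ⊥ := by
  rw [endDeg]
  simp only [iSup_le_iff, WithBot.coe_le_coe, WithTop.coe_le_coe]
  exact forall_congr' fun n => ⟨fun h hn => by_contra fun h' => absurd (h h') (by omega),
    fun h h' => le_of_not_gt fun hn => h' (h hn)⟩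

theorem add_coe_le_iff (x : WithBot (WithTop ℤ)) (i d : ℤ) :
    x + ((i : WithTop ℤ) : WithBot (WithTop ℤ)) ≤ ((d : WithTop ℤ) : WithBot (WithTop ℤ)) ↔
      x ≤ (((d - i : ℤ) : WithTop ℤ) : WithBot (WithTop ℤ)) := by
  induction x using WithBot.recBotCoe with
  | bot => simp
  | coe y =>
    rw [← WithBot.coe_add, WithBot.coe_le_coe, WithBot.coe_le_coe]
    induction y using WithTop.recTopCoe with
    | top => simp
    | coe z => rw [← WithTop.coe_add, WithTop.coe_le_coe, WithTop.coe_le_coe]; omega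

theorem endDeg_add_le_iff {M : Type*} [AddCommGroup M] (ℳ : ℤ → AddSubgroup M) (i d : ℤ) :
    endDeg ℳ + ((i : WithTop ℤ) : WithBot (WithTop ℤ)) ≤ ((d : WithTop ℤ) : WithBot (WithTop ℤ)) ↔
      ∀ n, d - i < n → ℳ n = ⊥ :=
  (add_coe_le_iff _ _ _).trans (endDeg_le_iff ℳ (d - i))

theorem le_endDeg {M : Type*} [AddCommGroup M] (ℳ : ℤ → AddSubgroup M) {n : ℤ} (h : ℳ n ≠ ⊥) :
    ((n : WithTop ℤ) : WithBot (WithTop ℤ)) ≤ endDeg ℳ :=
  le_iSup₂ (f := fun (m : ℤ) (_ : ℳ m ≠ ⊥) => ((m : WithTop ℤ) : WithBot (WithTop ℤ))) n h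

/-- an element of `WithBot (WithTop ℤ)` is determined by the integers above it -/
theorem eq_of_forall_le_int {x y : WithBot (WithTop ℤ)}
    (h : ∀ d : ℤ, x ≤ ((d : WithTop ℤ) : WithBot (WithTop ℤ)) ↔ y ≤ ((d : WithTop ℤ) : WithBot (WithTop ℤ))) :
    x = y := by
  suffices ∀ x y : WithBot (WithTop ℤ), (∀ d : ℤ, y ≤ ((d : WithTop ℤ) : WithBot (WithTop ℤ)) →
      x ≤ ((d : WithTop ℤ) : WithBot (WithTop ℤ))) → x ≤ y from
    le_antisymm (this x y fun d => (h d).2) (this y x fun d => (h d).1)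
  intro x y hxy
  induction y using WithBot.recBotCoe with
  | bot =>
    induction x using WithBot.recBotCoe with
    | bot => exact le_rfl
    | coe x' =>
      induction x' using WithTop.recTopCoe with
      | top => exact absurd (WithBot.coe_le_coe.1 (hxy 0 bot_le)) (not_le.2 (WithTop.coe_lt_top _))
      | coe z =>
        have := hxy (z - 1) bot_le
        rw [WithBot.coe_le_coe, WithTop.coe_le_coe] at this
        omega
  | coe y' =>
    induction y' using WithTop.recTopCoe with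
    | top =>
      induction x using WithBot.recBotCoe with
      | bot => exact bot_le
      | coe x' => exact WithBot.coe_le_coe.2 le_top
    | coe z => exact hxy z le_rfl

end GrothLib.GrLC
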