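import Groth.Agent.Lib.GrLC.Step
import Groth.Agent.Lib.GrLC.Degree
import Mathlib.RingTheory.QuotSMulTop

/-!
# The top local cohomology of a quotient by a regular sequence
-/

universe u

open DirectSum RingTheory.Sequence

open scoped Pointwise

namespace GrothLib.GrLC

open _root_.GrLC (GMod IsGrHom)

variable {R : Type u} [CommRing R] [IsNoetherianRing R] {σ : Type u} [SetLike σ R] [AddSubgroupClass σ R]
  {𝒜 : ℤ → σ} [GradedRing 𝒜]

theorem van_cons_iff {l : List (HElt 𝒜)} {x : HElt 𝒜} (hx : x.val ∈ (hspan l).toIdeal) (X : GMod.{u} 𝒜) (i : ℕ)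
    (g : ℤ) : Van l X i g ↔ Van (x :: l) X i g :=
  van_congr_list (hspan_cons_eq hx).symm X i g

/-- Cohomology of the quotient by a regular element in the radical. -/
theorem regular_step {l : List (HElt 𝒜)} {X N : GMod.{u} 𝒜} {x : HElt 𝒜} (hx : x.val ∈ (hspan l).toIdeal)
    (hdeg : 0 ≤ x.deg) (hreg : IsSMulRegular X.carrier x.val) (p : X.carrier →ₗ[R] N.carrier) (hp : IsHom p)
    (hs : Function.Surjective p) (hexact : Function.Exact (mulShift X x) p) (n : ℕ)
    (hlow : ∀ i < n + 1, ∀ g, Van l X i g) :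
    (∀ i < n, ∀ g, Van l N i g) ∧
      ∀ d : ℤ, (∀ g, d < g → Van l N n g) ↔ ∀ g, d - x.deg < g → Van l X (n + 1) g := by
  have ht : ∀ y ∈ x :: l, ∀ m : X.carrier, x.val • m = 0 → ∃ k : ℕ, y.val ^ k • m = 0 := fun y _ m hm =>
    ⟨0, by rw [hreg (hm.trans (smul_zero _).symm), smul_zero]⟩
  simp only [van_cons_iff hx] at hlow ⊢
  refine ⟨fun i hi g => van_cut p hp hs hexact ht (hlow i (by omega) g) (hlow (i + 1) (by omega) _),
    fun d => ⟨fun h g hg => ?_, fun h g hg => ?_⟩⟩
  · refine van_uncut (List.mem_cons_self ..) p hp hs hexact ht fun k => h _ ?_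
    rw [nsmul_eq_mul]
    push_cast
    have : (0 : ℤ) ≤ (k : ℤ) * x.deg := mul_nonneg (Int.natCast_nonneg k) hdeg
    linarith
  · exact van_cut p hp hs hexact ht (hlow n (by omega) g) (h _ (by omega))

/-- Cohomology of the quotient by a regular sequence. -/
theorem regSeq_top {l : List (HElt 𝒜)} : ∀ (xs : List (HElt 𝒜)),
    (∀ x ∈ xs, x.val ∈ (hspan l).toIdeal ∧ 0 ≤ x.deg) →
    ∀ (X : GMod.{u} 𝒜), IsWeaklyRegular X.carrier (xs.map HElt.val) →
    ∀ (N : GMod.{u} 𝒜) (π : X.carrier →ₗ[R] N.carrier), IsHom π → Function.Surjective π →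
      LinearMap.ker π = Ideal.ofList (xs.map HElt.val) • (⊤ : Submodule R X.carrier) →
    ∀ n : ℕ, (∀ i < n + xs.length, ∀ g, Van l X i g) →
      (∀ i < n, ∀ g, Van l N i g) ∧ ∀ d : ℤ, (∀ g, d < g → Van l N n g) ↔
        ∀ g, d - (xs.map HElt.deg).sum < g → Van l X (n + xs.length) g := by
  intro xs
  induction xs with
  | nil =>
    intro _ X _ N π hπ hs hker n hlow
    rw [List.map_nil, Ideal.ofList_nil, Submodule.bot_smul] at hker
    have e : ∀ i g, Van l X i g ↔ Van l N i g := fun i g =>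
      van_congr_hom π hπ ⟨LinearMap.ker_eq_bot.1 hker, hs⟩ i g
    simp only [List.length_nil, add_zero, List.map_nil, List.sum_nil, sub_zero, e] at hlow ⊢
    exact ⟨hlow, fun _ => trivial⟩
  | cons x xs ih =>
    intro hxs X hreg N π hπ hs hker n hlow
    rw [List.map_cons] at hreg hker
    obtain ⟨hx, hreg'⟩ := (isWeaklyRegular_cons_iff X.carrier x.val (xs.map HElt.val)).1 hreg
    obtain ⟨hxl, hxd⟩ := hxs x (List.mem_cons_self ..)
    let X' : GMod.{u} 𝒜 := quot X (LinearMap.range (mulShift X x)) (isHomogeneous_range (isHom_mulShift X x))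
    let q : X.carrier →ₗ[R] X'.carrier := Submodule.mkQ _
    have hq : IsHom q := isHom_mkQ X _ (isHomogeneous_range (isHom_mulShift X x))
    have hle : LinearMap.range (mulShift X x) ≤ LinearMap.ker π := by
      rintro _ ⟨m, rfl⟩
      rw [hker]
      exact Submodule.smul_mem_smul (Ideal.subset_span (List.mem_cons_self ..)) Submodule.mem_top
    let π' : X'.carrier →ₗ[R] N.carrier := Submodule.liftQ _ π hle
    have hπ' : IsHom π' := by
      rintro g _ ⟨m, hm, rfl⟩
      exact hπ g m hm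
    have hs' : Function.Surjective π' := fun v => by
      obtain ⟨m, rfl⟩ := hs v
      exact ⟨q m, rfl⟩
    have hker' : LinearMap.ker π' = Ideal.ofList (xs.map HElt.val) • (⊤ : Submodule R X'.carrier) := by
      refine le_antisymm ?_ (Submodule.smul_le.2 fun r hr v _ => ?_)
      · intro v hv
        obtain ⟨m, rfl⟩ := Submodule.mkQ_surjective _ v
        have hm : m ∈ Ideal.ofList (x.val :: xs.map HElt.val) • (⊤ : Submodule R X.carrier) := by
          rw [← hker]; exact hv
        rw [Ideal.ofList_cons_smul, Submodule.mem_sup] at hm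
        obtain ⟨a, ha, b, hb, rfl⟩ := hm
        obtain ⟨a, -, rfl⟩ := ha
        change q (x.val • a + b) ∈ _
        rw [map_add, show q (x.val • a) = 0 from (Submodule.Quotient.mk_eq_zero _).2 ⟨a, rfl⟩, zero_add]
        have h2 := Submodule.mem_map_of_mem (f := q) hb
        rw [Submodule.map_smul''] at h2
        exact Submodule.smul_mono le_rfl le_top h2
      · obtain ⟨m, rfl⟩ := Submodule.mkQ_surjective _ v
        have h0 : r • m ∈ LinearMap.ker π := by
          rw [hker]
          refine Submodule.smul_mem_smul ?_ Submodule.mem_top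
          rw [Ideal.ofList_cons]; exact Submodule.mem_sup_right hr
        rw [LinearMap.mem_ker, map_smul]
        exact (map_smul π r m).symm.trans h0
    have hreg'' : IsWeaklyRegular X'.carrier (xs.map HElt.val) := by
      have e : x.val • (⊤ : Submodule R X.carrier) = LinearMap.range (mulShift X x) := by
        ext m
        constructor
        · rintro ⟨a, -, rfl⟩; exact ⟨a, rfl⟩
        · rintro ⟨a, rfl⟩; exact ⟨a, trivial, rfl⟩
      exact ((Submodule.quotEquivOfEq _ _ e).isWeaklyRegular_congr _).1 hreg'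
    have hlow' : ∀ i < n + xs.length + 1, ∀ g, Van l X i g := fun i hi => hlow i (by rw [List.length_cons]; omega)
    obtain ⟨h1, h2⟩ := regular_step (X := X) (N := X') hxl hxd hx q hq (Submodule.mkQ_surjective _)
      (fun v => (Submodule.Quotient.mk_eq_zero _).trans ⟨fun h => h, fun h => h⟩) (n + xs.length) hlow'
    obtain ⟨h3, h4⟩ := ih (fun z hz => hxs z (List.mem_cons_of_mem _ hz)) X' hreg'' N π' hπ' hs' hker' n h1
    refine ⟨h3, fun d => (h4 d).trans ((h2 _).trans ?_)⟩
    rw [List.length_cons, List.map_cons, List.sum_cons, ← add_assoc,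
      show d - (xs.map HElt.deg).sum - x.deg = d - (x.deg + (xs.map HElt.deg).sum) by ring]

variable {M N : Type u} [AddCommGroup M] [Module R M] [AddCommGroup N] [Module R N]
  {ℳ : ℤ → AddSubgroup M} [Decomposition ℳ] [SetLike.GradedSMul 𝒜 ℳ]
  {𝒩 : ℤ → AddSubgroup N} [Decomposition 𝒩] [SetLike.GradedSMul 𝒜 𝒩]

/-- The end of the top cohomology of a quotient by a regular sequence. -/
theorem endDeg_regSeq (E : _root_.GrLC.StarInjRes 𝒜 ℳ) (F : _root_.GrLC.StarInjRes 𝒜 𝒩) (a : HomogeneousIdeal 𝒜)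
    (xs : List (HElt 𝒜)) (hxs : ∀ x ∈ xs, x.val ∈ a.toIdeal ∧ 0 ≤ x.deg)
    (hreg : IsWeaklyRegular M (xs.map HElt.val)) (π : M →ₗ[R] N) (hπ : IsGrHom ℳ 𝒩 π)
    (hs : Function.Surjective π)
    (hker : LinearMap.ker π = Ideal.ofList (xs.map HElt.val) • (⊤ : Submodule R M)) (n : ℕ)
    (hlow : ∀ i < n + xs.length, ∀ g, E.Hcomp a i g = ⊥) :
    _root_.GrLC.endDeg (F.Hgr a n) = _root_.GrLC.endDeg (E.Hgr a (n + xs.length)) +
      ((((xs.map HElt.deg).sum : ℤ) : WithTop ℤ) : WithBot (WithTop ℤ)) := by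
  obtain ⟨l, hl⟩ := exists_hspan (a := a)
  refine eq_of_forall_le_int fun d => ?_
  rw [endDeg_le_iff, endDeg_add_le_iff]
  obtain ⟨-, h⟩ := regSeq_top (l := l) xs (fun x hx => ⟨hl ▸ (hxs x hx).1, (hxs x hx).2⟩) (gmod 𝒜 ℳ) hreg
    (gmod 𝒜 𝒩) π hπ hs hker n fun i hi g => (Hcomp_eq_bot_iff_van E hl i g).1 (hlow i hi g)
  refine Iff.trans ?_ ((h d).trans ?_)
  · exact forall_congr' fun g => imp_congr_right fun _ => Hgr_eq_bot_iff_van F hl n g
  · exact forall_congr' fun g => imp_congr_right fun _ => (Hgr_eq_bot_iff_van E hl _ g).symm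

end GrothLib.GrLC
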