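import Groth.Agent.Lib.GrLC.Degree
import Groth.Agent.Lib.GrLC.CoreHeight
import Groth.Agent.Lib.GrLC.ExtVanish
import Groth.Agent.Lib.LC.Vanish
import Mathlib.RingTheory.Artinian.Ring

/-!
# Graded local cohomology depends only on the radical; vanishing above the dimension
-/

universe u

open DirectSum

namespace GrothLib.GrLC

open _root_.GrLC (GMod StarInjRes gam deg0)

variable {ι : Type} [AddCommGroup ι] [DecidableEq ι] {R : Type u} [CommRing R] [IsNoetherianRing R] {σ : Type u}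
  [SetLike σ R] [AddSubgroupClass σ R] {𝒜 : ι → σ} [GradedRing 𝒜]

theorem gam_le_of_le_radical {a b : Ideal R} (h : a ≤ b.radical) (M : Type u) [AddCommGroup M] [Module R M] :
    gam b M ≤ gam a M := by
  obtain ⟨N, hN⟩ := Ideal.exists_pow_le_of_le_radical_of_fg h (IsNoetherian.noetherian a)
  rintro m ⟨n, hn⟩
  exact ⟨N * n, fun r hr => hn r (Ideal.pow_right_mono hN n (by rwa [← pow_mul]))⟩

theorem gam_congr_radical {a b : Ideal R} (h : a.radical = b.radical) (M : Type u) [AddCommGroup M] [Module R M] :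
    gam a M = gam b M :=
  le_antisymm (gam_le_of_le_radical (h ▸ Ideal.le_radical) M) (gam_le_of_le_radical (h.symm ▸ Ideal.le_radical) M)

theorem Hgr_eq_bot_congr_radical {M : Type u} [AddCommGroup M] [Module R M] {τ : Type u} [SetLike τ M]
    [AddSubgroupClass τ M] {ℳ : ι → τ} [Decomposition ℳ] [SetLike.GradedSMul 𝒜 ℳ] (E : StarInjRes 𝒜 ℳ)
    {a b : HomogeneousIdeal 𝒜} (h : a.toIdeal.radical = b.toIdeal.radical) (i : ℕ) (g : ι) :
    E.Hgr a i g = ⊥ ↔ E.Hgr b i g = ⊥ := by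
  have hcyc : ∀ j, E.cocyc a j = E.cocyc b j := fun j => by
    rw [StarInjRes.cocyc, StarInjRes.cocyc, gam_congr_radical h]
  have hbdy : ∀ j, E.cobdy a j = E.cobdy b j := fun
    | 0 => rfl
    | j + 1 => by rw [StarInjRes.cobdy, StarInjRes.cobdy, gam_congr_radical h]
  have key : ∀ c : HomogeneousIdeal 𝒜, E.Hgr c i g = ⊥ ↔
      ∀ z ∈ E.cocyc c i, z ∈ (E.X i).gr g → z ∈ E.cobdy c i := by
    intro c
    rw [AddSubgroup.eq_bot_iff_forall]
    refine ⟨fun h z hz hg => (Submodule.Quotient.mk_eq_zero ((E.cobdy c i).comap (E.cocyc c i).subtype)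
      (x := ⟨z, hz⟩)).1 (h _ ⟨⟨z, hz⟩, hg, rfl⟩), ?_⟩
    rintro h _ ⟨z, hg, rfl⟩
    exact (Submodule.Quotient.mk_eq_zero ((E.cobdy c i).comap (E.cocyc c i).subtype) (x := z)).2 (h z.1 z.2 hg)
  rw [key, key, hcyc, hbdy]

theorem van_congr_radical {l l' : List (HElt 𝒜)} (h : (hspan l).toIdeal.radical = (hspan l').toIdeal.radical)
    (X : GMod.{u} 𝒜) (i : ι) (n : ℕ) : Van l X n i ↔ Van l' X n i :=
  (((iso_gmod_gr X).van_iff n i).symm.trans
    (Hgr_eq_bot_iff_vanish (starInjRes 𝒜 X.gr) (a := hspan l) rfl n i).symm).trans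
    (((Hgr_eq_bot_congr_radical (starInjRes 𝒜 X.gr) h n i).trans
      (Hgr_eq_bot_iff_vanish (starInjRes 𝒜 X.gr) (a := hspan l') rfl n i)).trans ((iso_gmod_gr X).van_iff n i))

theorem Hcomp_eq_bot_of_supportDim_lt {M : Type u} [AddCommGroup M] [Module R M] {τ : Type u} [SetLike τ M]
    [AddSubgroupClass τ M] {ℳ : ι → τ} [Decomposition ℳ] [SetLike.GradedSMul 𝒜 ℳ] (E : StarInjRes 𝒜 ℳ)
    (a : HomogeneousIdeal 𝒜) {i : ℕ} (hi : Module.supportDim R M < (i : WithBot ℕ∞)) (g : ι) :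
    E.Hcomp a i g = ⊥ := by
  have := LC.subsingleton_of_supportDim_lt i R a.toIdeal M hi
  obtain ⟨e⟩ := nonempty_EH_equiv E a i
  have := e.toEquiv.subsingleton
  exact (Submodule.eq_bot_iff _).2 fun x _ => Subsingleton.elim (α := E.H a i) x 0

section Int

variable {𝒜 : ℤ → σ} [GradedRing 𝒜]

theorem radical_eq_of_isArtinian_deg0 [IsArtinianRing (deg0 𝒜)] (hpos : ∀ n : ℤ, n < 0 → ∀ r ∈ 𝒜 n, r = 0)
    {m : HomogeneousIdeal 𝒜} (hm : _root_.GrLC.IsStarLocal 𝒜 m) {a : HomogeneousIdeal 𝒜}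
    (ha : ∀ n : ℤ, 0 < n → ∀ r ∈ 𝒜 n, r ∈ a.toIdeal) (ham : a.toIdeal ≤ m.toIdeal) :
    a.toIdeal.radical = m.toIdeal.radical := by
  classical
  refine le_antisymm (Ideal.radical_mono ham) (Ideal.radical_le_radical_iff.2 fun x hx => ?_)
  rw [Ideal.radical_eq_sInf, Submodule.mem_sInf]
  rintro P ⟨haP, hP⟩
  have hIp : (Ideal.homogeneousCore 𝒜 P).toIdeal.IsPrime := Ideal.IsPrime.homogeneousCore (𝒜 := 𝒜) hP
  have hle : Ideal.homogeneousCore 𝒜 P ≤ m := le_of_isStarLocal hm fun h => hIp.ne_top (by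
    rw [h, HomogeneousIdeal.toIdeal_top])
  have : Ideal.IsMaximal (Ideal.comap (deg0 𝒜).subtype P) := IsArtinianRing.isMaximal_of_isPrime _
  have e : Ideal.comap (deg0 𝒜).subtype P = m.toIdeal.comap (deg0 𝒜).subtype := by
    refine this.eq_of_le (Ideal.IsPrime.ne_top (Ideal.IsPrime.comap _ (hK := (isMaximal_of_isStarLocal hpos hm).isPrime)))
      fun c hc => ?_
    exact hle (Ideal.mem_homogeneousCore_of_homogeneous_of_mem ⟨0, c.2⟩ hc)
  obtain ⟨S, hS⟩ := exists_sum_cmp 𝒜 x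
  rw [hS]
  refine sum_mem fun g _ => ?_
  rcases lt_trichotomy g 0 with h | rfl | h
  · rw [hpos g h _ (cmp_mem 𝒜 g x)]; exact zero_mem _
  · exact (e.ge (show (⟨cmp 𝒜 0 x, cmp_mem 𝒜 0 x⟩ : deg0 𝒜) ∈ m.toIdeal.comap (deg0 𝒜).subtype from
      m.isHomogeneous 0 hx) :)
  · exact haP (ha g h _ (cmp_mem 𝒜 g x))

end Int

end GrothLib.GrLC
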