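import Groth.Agent.Lib.GrLC.Exists
import Mathlib.Order.Zorn
import Mathlib.RingTheory.Noetherian.Basic
import Mathlib.RingTheory.Nilpotent.Lemmas

/-!
# *Essential extensions and *injective envelopes
-/

universe u

open DirectSum

namespace GrothLib.GrLC

open _root_.GrLC (GMod IsGrHom IsStarInj IsStarEss IsStarInjHull)

variable {ι : Type} [AddCommGroup ι] [DecidableEq ι] {R : Type u} [CommRing R] {σ : Type u} [SetLike σ R]
  [AddSubgroupClass σ R] {𝒜 : ι → σ} [GradedRing 𝒜]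

theorem isHomogeneous_span_singleton {X : GMod.{u} 𝒜} {g : ι} {x : X.carrier} (hx : x ∈ X.gr g) :
    (Submodule.span R {x}).IsHomogeneous X.gr := by
  intro h z hz
  obtain ⟨c, rfl⟩ := Submodule.mem_span_singleton.1 hz
  change cmp X.gr h (c • x) ∈ Submodule.span R {x}
  rw [cmp_smul_mem (𝒜 := 𝒜) X.gr c hx]
  exact Submodule.smul_mem _ _ (Submodule.mem_span_singleton_self x)

theorem exists_homogeneous_ne_zero {X : GMod.{u} 𝒜} {P : Submodule R X.carrier} (hP : P.IsHomogeneous X.gr)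
    (hne : P ≠ ⊥) : ∃ (g : ι) (x : X.carrier), x ∈ X.gr g ∧ x ∈ P ∧ x ≠ 0 := by
  obtain ⟨y, hy, hy0⟩ := P.ne_bot_iff.1 hne
  by_contra h
  push_neg at h
  exact hy0 (eq_zero_of_cmp X.gr fun g => h g _ (cmp_mem X.gr g y) (hP g hy))

variable {M : Type u} [AddCommGroup M] [Module R M] {τ : Type u} [SetLike τ M] [AddSubgroupClass τ M] {ℳ : ι → τ}

/-- A homogeneous scalar bringing a homogeneous element into the range. -/
theorem exists_smul_mem_range {X : GMod.{u} 𝒜} {f : M →ₗ[R] X.carrier} (hf : IsStarEss ℳ X.gr f)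
    (hrange : (LinearMap.range f).IsHomogeneous X.gr) {g : ι} {x : X.carrier} (hx : x ∈ X.gr g) (hx0 : x ≠ 0) :
    ∃ (i : ι) (r : R), r ∈ 𝒜 i ∧ r • x ∈ LinearMap.range f ∧ r • x ≠ 0 := by
  have h := hf.essential _ (isHomogeneous_span_singleton hx)
    (fun h => hx0 ((Submodule.eq_bot_iff _).1 h x (Submodule.mem_span_singleton_self x)))
  obtain ⟨z, hz, hz0⟩ := (Submodule.ne_bot_iff _).1 h
  obtain ⟨c, rfl⟩ := Submodule.mem_span_singleton.1 (Submodule.mem_inf.1 hz).1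
  by_contra hcon
  push_neg at hcon
  refine hz0 (eq_zero_of_cmp X.gr fun j => ?_)
  rw [cmp_smul_mem (𝒜 := 𝒜) X.gr c hx]
  refine hcon (j - g) _ (cmp_mem 𝒜 _ c) ?_
  rw [← cmp_smul_mem (𝒜 := 𝒜) X.gr c hx]
  exact hrange j (Submodule.mem_inf.1 hz).2

theorem exists_smul_sum_mem_range {X : GMod.{u} 𝒜} {f : M →ₗ[R] X.carrier} (hf : IsStarEss ℳ X.gr f)
    (hrange : (LinearMap.range f).IsHomogeneous X.gr) (S : Finset ι) :
    ∀ (d : ι) (y : ι → X.carrier), (∀ h, y h ∈ X.gr (d + h)) → ∑ h ∈ S, y h ≠ 0 →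
      ∃ (i : ι) (r : R), r ∈ 𝒜 i ∧ r • ∑ h ∈ S, y h ∈ LinearMap.range f ∧ r • ∑ h ∈ S, y h ≠ 0 := by
  classical
  induction S using Finset.induction_on with
  | empty => exact fun d y _ hne => absurd Finset.sum_empty hne
  | @insert g S hg ih =>
    intro d y hy hne
    rw [Finset.sum_insert hg] at hne ⊢
    by_cases h0 : y g = 0
    · rw [h0, zero_add] at hne ⊢
      exact ih d y hy hne
    obtain ⟨i, r, hr, hmem, hne'⟩ := exists_smul_mem_range hf hrange (hy g) h0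
    by_cases hrest : ∑ h ∈ S, r • y h = 0
    · refine ⟨i, r, hr, ?_, ?_⟩ <;> rw [smul_add, Finset.smul_sum, hrest, add_zero]
      exacts [hmem, hne']
    obtain ⟨j, s, hs, hsmem, hsne⟩ := ih (i + d) (fun h => r • y h)
      (fun h => by rw [add_assoc]; exact smul_mem' X.gr hr (hy h)) hrest
    refine ⟨j + i, s * r, SetLike.GradedMul.mul_mem hs hr, ?_, fun hzero => hsne ?_⟩
    · rw [mul_smul, smul_add, smul_add, Finset.smul_sum (r := r)]
      exact add_mem (Submodule.smul_mem _ s hmem) hsmem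
    · rw [mul_smul, smul_add, smul_add, Finset.smul_sum (r := r), add_eq_zero_iff_eq_neg'] at hzero
      have hdeg : s • r • y g ∈ X.gr (j + (i + (d + g))) := smul_mem' X.gr hs (smul_mem' X.gr hr (hy g))
      rw [hzero, ← cmp_of_mem X.gr (neg_mem hdeg), ← hzero, Finset.smul_sum, map_sum]
      refine Finset.sum_eq_zero fun h hh => cmp_of_mem_ne X.gr (smul_mem' X.gr hs (smul_mem' X.gr hr (hy h))) ?_
      intro e
      exact hg (add_left_cancel (add_left_cancel (add_left_cancel e)) ▸ hh)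

theorem IsStarEss_isEssential {X : GMod.{u} 𝒜} {f : M →ₗ[R] X.carrier} (hf : IsStarEss ℳ X.gr f)
    (hrange : (LinearMap.range f).IsHomogeneous X.gr) (N : Submodule R X.carrier) (hN : N ≠ ⊥) :
    N ⊓ LinearMap.range f ≠ ⊥ := by
  obtain ⟨x, hx, hx0⟩ := N.ne_bot_iff.1 hN
  obtain ⟨S, hS⟩ := exists_sum_cmp X.gr x
  obtain ⟨i, r, hr, hmem, hne⟩ := exists_smul_sum_mem_range hf hrange S 0 (fun h => cmp X.gr h x)
    (fun h => by rw [zero_add]; exact cmp_mem X.gr h x) (by rw [← hS]; exact hx0)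
  rw [← hS] at hmem hne
  exact (Submodule.ne_bot_iff _).2 ⟨r • x, ⟨N.smul_mem r hx, hmem⟩, hne⟩

/-- A homogeneous map which is injective on a *essential submodule is injective. -/
theorem injective_of_comp_injective {X Y : GMod.{u} 𝒜} {f : M →ₗ[R] X.carrier} (hf : IsStarEss ℳ X.gr f)
    {h : X.carrier →ₗ[R] Y.carrier} (hh : IsHom h) (hinj : Function.Injective (h ∘ₗ f)) : Function.Injective h := by
  rw [← LinearMap.ker_eq_bot]
  by_contra hne
  obtain ⟨z, ⟨hz, m, rfl⟩, hz0⟩ := (Submodule.ne_bot_iff _).1 (hf.essential _ (isHomogeneous_ker hh) hne)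
  have : m = 0 := hinj (by rw [map_zero]; exact hz)
  exact hz0 (by rw [this, map_zero])

/-- A retraction of a homogeneous injection with *essential image is bijective. -/
theorem surjective_of_retract {X Y : GMod.{u} 𝒜} {φ : X.carrier →ₗ[R] Y.carrier} {h : Y.carrier →ₗ[R] X.carrier}
    (hh : IsHom h) (hid : h ∘ₗ φ = LinearMap.id) {f : M →ₗ[R] Y.carrier} (hf : IsStarEss ℳ Y.gr f)
    (hinj : Function.Injective (h ∘ₗ f)) : Function.Surjective φ := fun y =>
  ⟨h y, injective_of_comp_injective hf hh hinj (LinearMap.congr_fun hid (h y))⟩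

theorem isHom_symm {X Y : GMod.{u} 𝒜} (e : X.carrier ≃ₗ[R] Y.carrier) (he : IsHom e.toLinearMap) :
    IsHom e.symm.toLinearMap := by
  intro g y hy
  have h : e.symm y = cmp X.gr g (e.symm y) := e.injective (by
    refine Eq.trans ?_ (he.cmp g (e.symm y)).symm
    rw [LinearEquiv.coe_coe, LinearEquiv.apply_symm_apply, cmp_of_mem Y.gr hy])
  change e.symm y ∈ X.gr g
  rw [h]
  exact cmp_mem X.gr g _

theorem isStarInj_shift' {X : GMod.{u} 𝒜} (hX : IsStarInj 𝒜 X.gr) (d : ι) : IsStarInj 𝒜 (shift X d).gr := by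
  intro A B f hf hinj g hg
  obtain ⟨h, hh, e⟩ := hX (shift A (-d)) (shift B (-d)) f (fun j m hm => hf _ m hm) hinj g (fun j m hm => by
    have h1 : g m ∈ X.gr (j + -d + d) := hg _ m hm
    rwa [neg_add_cancel_right] at h1)
  refine ⟨h, fun j m hm => hh (j + d) m ?_, e⟩
  change m ∈ B.gr (j + d + -d)
  rwa [add_neg_cancel_right]

theorem eq_zero_of_mem_smul_regular {X : GMod.{u} 𝒜} {f : M →ₗ[R] X.carrier} (hf : IsStarEss ℳ X.gr f)
    {g : ι} {r : R} (hr : r ∈ 𝒜 g) (hreg : IsSMulRegular M r) : IsSMulRegular X.carrier r := by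
  let μ : X.carrier →ₗ[R] X.carrier := r • LinearMap.id
  have hk : (LinearMap.ker μ).IsHomogeneous X.gr := fun j x hx => by
    change r • cmp X.gr j x = 0
    have h : cmp X.gr (j + g) (r • x) = r • cmp X.gr (j + g - g) x := cmp_smul_of_mem X.gr hr x _
    rw [add_sub_cancel_right, show r • x = 0 from hx, map_zero] at h
    exact h.symm
  intro x y hxy
  by_contra hne
  obtain ⟨z, ⟨hz, m, rfl⟩, hz0⟩ := (Submodule.ne_bot_iff _).1 (hf.essential _ hk
    ((Submodule.ne_bot_iff _).2 ⟨x - y, by change r • (x - y) = 0; rw [smul_sub, sub_eq_zero]; exact hxy,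
      sub_ne_zero.2 hne⟩))
  refine hz0 ?_
  have h1 : f (r • m) = 0 := by rw [map_smul]; exact hz
  rw [hreg (a₁ := m) (a₂ := 0) (show r • m = r • (0 : M) by
    rw [smul_zero]; exact hf.injective (h1.trans (map_zero f).symm)), map_zero]

theorem smul_bijective {X : GMod.{u} 𝒜} {f : M →ₗ[R] X.carrier} (hf : IsStarInjHull 𝒜 ℳ X.gr f)
    {g : ι} {r : R} (hr : r ∈ 𝒜 g) (hreg : IsSMulRegular M r) : Function.Bijective (fun x : X.carrier => r • x) := by
  have hinj := eq_zero_of_mem_smul_regular hf.toIsStarEss hr hreg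
  let μ : (shift X (-g)).carrier →ₗ[R] X.carrier := r • (LinearMap.id : X.carrier →ₗ[R] X.carrier)
  have hμ : IsHom (X := shift X (-g)) (Y := X) μ := fun j m hm => by
    have h1 : r • m ∈ X.gr (g + (j + -g)) := smul_mem' X.gr hr hm
    change r • m ∈ X.gr j
    rwa [add_left_comm, add_neg_cancel, add_zero] at h1
  obtain ⟨h, hh, hid⟩ := isStarInj_shift' hf.starInj (-g) (shift X (-g)) X μ hμ hinj LinearMap.id IsHom.id
  refine ⟨hinj, surjective_of_retract (X := shift X (-g)) (Y := X) hh hid hf.toIsStarEss ?_⟩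
  intro a b hab
  have key : ∀ c, f c = r • h (f c) := fun c => by
    have e1 : h (r • f c) = f c := LinearMap.congr_fun hid (f c)
    rw [map_smul] at e1
    exact e1.symm
  have hab' : h (f a) = h (f b) := hab
  exact hf.injective ((key a).trans ((congrArg (r • ·) hab').trans (key b).symm))

/-- The envelope is torsion for the elements which locally annihilate `M`. -/
theorem exists_pow_smul_eq_zero [IsNoetherianRing R] {X : GMod.{u} 𝒜} {f : M →ₗ[R] X.carrier}
    (hf : IsStarEss ℳ X.gr f) {g : ι} {r : R} (hr : r ∈ 𝒜 g) (hr0 : ∀ m : M, r • m = 0) {j : ι} {x : X.carrier}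
    (hx : x ∈ X.gr j) : ∃ n : ℕ, r ^ n • x = 0 := by
  let A : ℕ →o Ideal R := ⟨fun n => LinearMap.ker (LinearMap.toSpanSingleton R X.carrier (r ^ n • x)),
    monotone_nat_of_le_succ fun n c hc => by
      change c • r ^ (n + 1) • x = 0
      rw [pow_succ', mul_smul, smul_comm, show c • r ^ n • x = 0 from hc, smul_zero]⟩
  obtain ⟨n, hn⟩ := monotone_stabilizes_iff_noetherian.2 ‹IsNoetherianRing R› A
  refine ⟨n, by_contra fun hne => ?_⟩
  have hy : r ^ n • x ∈ X.gr (n • g + j) := smul_mem' X.gr (SetLike.pow_mem_graded n hr) hx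
  obtain ⟨z, ⟨hz, m, rfl⟩, hz0⟩ := (Submodule.ne_bot_iff _).1 (hf.essential _ (isHomogeneous_span_singleton hy)
    (fun h => hne ((Submodule.eq_bot_iff _).1 h _ (Submodule.mem_span_singleton_self _))))
  obtain ⟨c, hc⟩ := Submodule.mem_span_singleton.1 hz
  have hc1 : c ∈ A (n + 1) := by
    change c • r ^ (n + 1) • x = 0
    rw [pow_succ', mul_smul, smul_comm, hc, ← map_smul, hr0, map_zero]
  rw [← hn (n + 1) (Nat.le_succ n)] at hc1
  exact hz0 (hc.symm.trans hc1)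

/-- A maximal homogeneous submodule with trivial intersection makes the quotient *essential. -/
theorem exists_quot_ess (X : GMod.{u} 𝒜) (T : Submodule R X.carrier) :
    ∃ (N : GMod.{u} 𝒜) (q : X.carrier →ₗ[R] N.carrier), IsHom q ∧ (∀ x ∈ T, q x = 0 → x = 0) ∧
      ∀ Q : Submodule R N.carrier, Q.IsHomogeneous N.gr → Q ≠ ⊥ → Q ⊓ T.map q ≠ ⊥ := by
  let 𝒮 : Set (Submodule R X.carrier) := {P | P.IsHomogeneous X.gr ∧ P ⊓ T = ⊥}
  have hbot : (⊥ : Submodule R X.carrier) ∈ 𝒮 := by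
    refine ⟨fun g x hx => ?_, bot_inf_eq T⟩
    change cmp X.gr g x ∈ (⊥ : Submodule R X.carrier)
    rw [(Submodule.mem_bot R).1 hx, map_zero]
    exact zero_mem _
  obtain ⟨P, -, hP⟩ := zorn_le_nonempty₀ 𝒮 (fun c hc hch y hy => by
    refine ⟨sSup c, ⟨?_, ?_⟩, fun z hz => le_sSup hz⟩
    · intro g x hx
      obtain ⟨Q, hQ, hxQ⟩ := (Submodule.mem_sSup_of_directed ⟨y, hy⟩ hch.directedOn).1 hx
      exact le_sSup (a := Q) hQ ((hc hQ).1 g hxQ)
    · refine (Submodule.eq_bot_iff _).2 fun x hx => ?_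
      obtain ⟨Q, hQ, hxQ⟩ := (Submodule.mem_sSup_of_directed ⟨y, hy⟩ hch.directedOn).1 hx.1
      exact (Submodule.eq_bot_iff _).1 (hc hQ).2 x ⟨hxQ, hx.2⟩) ⊥ hbot
  obtain ⟨N, q, hq, hsurj, hker⟩ : ∃ (N : GMod.{u} 𝒜) (q : X.carrier →ₗ[R] N.carrier), IsHom q ∧
      Function.Surjective q ∧ LinearMap.ker q = P :=
    ⟨quot X P hP.prop.1, P.mkQ, isHom_mkQ X P hP.prop.1, Submodule.mkQ_surjective P, Submodule.ker_mkQ P⟩
  refine ⟨N, q, hq, fun x hx hx0 => (Submodule.eq_bot_iff _).1 hP.prop.2 x ⟨hker ▸ hx0, hx⟩, fun Q hQ hne => ?_⟩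
  by_contra hcon
  apply hne
  have hhom : (Q.comap q).IsHomogeneous X.gr := fun g x hx => by
    change q (cmp X.gr g x) ∈ Q
    rw [hq.cmp g x]
    exact hQ g hx
  have hle : P ≤ Q.comap q := fun x hx => by
    rw [← hker] at hx
    change q x ∈ Q
    rw [show q x = 0 from hx]
    exact zero_mem Q
  have hmem : Q.comap q ∈ 𝒮 := ⟨hhom, (Submodule.eq_bot_iff _).2 fun x hx =>
    (Submodule.eq_bot_iff _).1 hP.prop.2 x ⟨hker ▸ ((Submodule.eq_bot_iff _).1 hcon _
      ⟨hx.1, Submodule.mem_map_of_mem hx.2⟩), hx.2⟩⟩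
  refine (Submodule.eq_bot_iff _).2 fun z hz => ?_
  obtain ⟨x, rfl⟩ := hsurj z
  have : x ∈ P := hP.le_of_ge hmem hle hz
  rwa [← hker] at this

/-- *Injective = no proper *essential extension. -/
theorem isStarInj_of_no_ess {X : GMod.{u} 𝒜} (h : ∀ (N : GMod.{u} 𝒜) (f : X.carrier →ₗ[R] N.carrier),
    IsStarEss X.gr N.gr f → Function.Surjective f) : IsStarInj 𝒜 X.gr := by
  let ε := toInjOf X
  have hε : IsHom ε := isHom_toInjOf X
  obtain ⟨N, q, hq, hinf, hess⟩ := exists_quot_ess (injOf X) (LinearMap.range ε)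
  let φ : X.carrier →ₗ[R] N.carrier := q ∘ₗ ε
  have hφ : IsHom φ := IsHom.comp hq hε
  have hinj : Function.Injective φ := by
    rw [← LinearMap.ker_eq_bot]
    refine (Submodule.eq_bot_iff _).2 fun x hx => toInjOf_injective X ?_
    rw [map_zero]
    exact hinf _ ⟨x, rfl⟩ hx
  have hφess : IsStarEss X.gr N.gr φ := ⟨hinj, hφ, fun Q hQ hne => by
    rw [LinearMap.range_comp]
    exact hess Q hQ hne⟩
  let e := LinearEquiv.ofBijective φ ⟨hinj, h _ φ hφess⟩
  intro A B f hf hfinj g hg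
  obtain ⟨k, hk, ek⟩ := isStarInj_cofree (𝒜 := 𝒜) Prod.fst A B f hf hfinj (ε ∘ₗ g) (IsHom.comp hε hg)
  refine ⟨e.symm.toLinearMap ∘ₗ q ∘ₗ k, IsHom.comp (isHom_symm (X := X) (Y := N) e hφ)
    (IsHom.comp hq hk), LinearMap.ext fun a => ?_⟩
  change e.symm (q ((k ∘ₗ f) a)) = g a
  rw [ek]
  exact e.symm_apply_apply (g a)

theorem surjective_of_isStarInj_ess {X N : GMod.{u} 𝒜} (hX : IsStarInj 𝒜 X.gr) {f : X.carrier →ₗ[R] N.carrier}
    (hf : IsStarEss X.gr N.gr f) : Function.Surjective f := by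
  obtain ⟨h, hh, e⟩ := hX X N f hf.grHom hf.injective LinearMap.id IsHom.id
  refine surjective_of_retract hh e hf ?_
  rw [e]
  exact Function.injective_id

theorem exists_hull (X : GMod.{u} 𝒜) :
    ∃ (E : GMod.{u} 𝒜) (f : X.carrier →ₗ[R] E.carrier), IsStarInjHull 𝒜 X.gr E.gr f := by
  let I := injOf X
  let ε := toInjOf X
  have hε : IsHom ε := isHom_toInjOf X
  let 𝒮 : Set (Submodule R I.carrier) := {E | E.IsHomogeneous I.gr ∧ LinearMap.range ε ≤ E ∧
    ∀ P : Submodule R I.carrier, P.IsHomogeneous I.gr → P ≤ E → P ≠ ⊥ → P ⊓ LinearMap.range ε ≠ ⊥}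
  have hmem : LinearMap.range ε ∈ 𝒮 :=
    ⟨isHomogeneous_range hε, le_rfl, fun P _ hle hne => by rwa [inf_eq_left.2 hle]⟩
  obtain ⟨E, -, hE⟩ := zorn_le_nonempty₀ 𝒮 (fun c hc hch y hy => by
    refine ⟨sSup c, ⟨?_, (hc hy).2.1.trans (le_sSup hy), ?_⟩, fun z hz => le_sSup hz⟩
    · intro g x hx
      obtain ⟨Q, hQ, hxQ⟩ := (Submodule.mem_sSup_of_directed ⟨y, hy⟩ hch.directedOn).1 hx
      exact le_sSup (a := Q) hQ ((hc hQ).1 g hxQ)
    · intro P hP hle hne
      obtain ⟨g, x, hxg, hxP, hx0⟩ := exists_homogeneous_ne_zero hP hne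
      obtain ⟨Q, hQ, hxQ⟩ := (Submodule.mem_sSup_of_directed ⟨y, hy⟩ hch.directedOn).1 (hle hxP)
      refine fun h => (hc hQ).2.2 _ (isHomogeneous_span_singleton hxg)
        (Submodule.span_le.2 (Set.singleton_subset_iff.2 hxQ))
        (fun h' => hx0 ((Submodule.eq_bot_iff _).1 h' x (Submodule.mem_span_singleton_self x))) ?_
      exact eq_bot_iff.2 (h ▸ inf_le_inf_right _ (Submodule.span_le.2 (Set.singleton_subset_iff.2 hxP))))
    (LinearMap.range ε) hmem
  obtain ⟨hEh, hEle, hEess⟩ := hE.prop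
  obtain ⟨E', θ, hθ, hθinj, hθr⟩ : ∃ (E' : GMod.{u} 𝒜) (θ : E'.carrier →ₗ[R] I.carrier), IsHom θ ∧
      Function.Injective θ ∧ LinearMap.range θ = E :=
    ⟨sub I E hEh, E.subtype, isHom_subtype I E hEh, E.injective_subtype, E.range_subtype⟩
  have hrε : LinearMap.range ε ≤ LinearMap.range θ := hθr ▸ hEle
  choose fv hfv using fun x : X.carrier => hrε ⟨x, rfl⟩
  let f : X.carrier →ₗ[R] E'.carrier :=
    { toFun := fv
      map_add' := fun a b => hθinj (by rw [map_add, hfv, hfv, hfv, map_add])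
      map_smul' := fun c a => hθinj (by rw [RingHom.id_apply, map_smul, hfv, hfv, map_smul]) }
  have hf : IsHom f := fun g m hm => by
    have h : fv m = cmp E'.gr g (fv m) := hθinj (by rw [hθ.cmp, hfv, cmp_of_mem _ (hε g m hm)])
    change fv m ∈ E'.gr g
    rw [h]
    exact cmp_mem E'.gr g _
  have hess : IsStarEss X.gr E'.gr f := by
    refine ⟨fun a b hab => toInjOf_injective X ?_, hf, fun P hP hne => ?_⟩
    · rw [← hfv a, ← hfv b]
      exact congrArg θ hab
    have h1 : (P.map θ).IsHomogeneous I.gr := isHomogeneous_map hθ hP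
    obtain ⟨z, ⟨⟨w, hw, rfl⟩, m, hm⟩, hz0⟩ := (Submodule.ne_bot_iff _).1 (hEess _ h1
      (hθr ▸ LinearMap.map_le_range) (fun h => hne (Submodule.map_injective_of_injective hθinj
        (h.trans (Submodule.map_bot _).symm))))
    exact (Submodule.ne_bot_iff _).2 ⟨w, ⟨hw, m, hθinj ((hfv m).trans hm)⟩, fun h => hz0 (by rw [h, map_zero])⟩
  refine ⟨E', f, hess, isStarInj_of_no_ess fun N j hj => ?_⟩
  obtain ⟨k, hk, ek⟩ := isStarInj_cofree (𝒜 := 𝒜) Prod.fst E' N j hj.grHom hj.injective θ hθ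
  have hkinj : Function.Injective k := injective_of_comp_injective hj hk (by rw [ek]; exact hθinj)
  have hle : E ≤ LinearMap.range k := by
    rw [← hθr]
    rintro _ ⟨x, rfl⟩
    exact ⟨j x, LinearMap.congr_fun ek x⟩
  have hmem' : LinearMap.range k ∈ 𝒮 := by
    refine ⟨isHomogeneous_range hk, hEle.trans hle, fun P hP hPle hne => ?_⟩
    have h1 : (P.comap k).IsHomogeneous N.gr := fun g x hx => by
      change k (cmp N.gr g x) ∈ P
      rw [IsHom.cmp hk]
      exact hP g hx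
    obtain ⟨z, ⟨hz, w, hw⟩, hz0⟩ := (Submodule.ne_bot_iff _).1 (hj.essential _ h1 (fun h => hne
      ((Submodule.map_comap_eq_self hPle).symm.trans ((congrArg (Submodule.map k) h).trans (Submodule.map_bot _)))))
    have hkz : k z = θ w := by rw [← hw]; exact LinearMap.congr_fun ek w
    have hne' : P ⊓ E ≠ ⊥ := (Submodule.ne_bot_iff _).2 ⟨k z, ⟨hz, hθr ▸ ⟨w, hkz.symm⟩⟩,
      fun h => hz0 (hkinj (h.trans (map_zero k).symm))⟩
    intro hbot
    exact hEess (P ⊓ E) (fun g x hx => ⟨hP g hx.1, hEh g hx.2⟩) inf_le_right hne'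
      (eq_bot_iff.2 (hbot ▸ inf_le_inf_right _ inf_le_left))
  have heq : LinearMap.range k ≤ E := hE.le_of_ge hmem' hle
  intro n
  obtain ⟨x, hx⟩ : k n ∈ LinearMap.range θ := hθr ▸ heq ⟨n, rfl⟩
  exact ⟨x, hkinj ((LinearMap.congr_fun ek x).trans hx)⟩

end GrothLib.GrLC
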