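import Groth.Agent.Lib.GrLC.Cech

/-!
# Graded local cohomology from a *injective resolution is graded Čech cohomology
-/

universe u

open DirectSum

namespace GrothLib.GrLC

open _root_.GrLC (GMod IsGrHom IsStarInj StarInjRes gam)

variable {ι : Type} [AddCommGroup ι] [DecidableEq ι] {R : Type u} [CommRing R] {σ : Type u} [SetLike σ R]
  [AddSubgroupClass σ R] {𝒜 : ι → σ} [GradedRing 𝒜]

theorem mem_gam_sub {X : GMod.{u} 𝒜} (P : Submodule R X.carrier) (hP : P.IsHomogeneous X.gr) (a : Ideal R)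
    (v : (sub X P hP).carrier) : v ∈ gam a (sub X P hP).carrier ↔ P.subtype v ∈ gam a X.carrier := by
  refine ⟨map_gam P.subtype, ?_⟩
  rintro ⟨n, hn⟩
  exact ⟨n, fun r hr => P.subtype_injective ((map_smul P.subtype r v).trans (hn r hr))⟩

theorem mem_hspan_gam_iff {a : HomogeneousIdeal 𝒜} {l : List (HElt 𝒜)} (hl : (hspan l).toIdeal = a.toIdeal)
    {X : GMod.{u} 𝒜} (m : X.carrier) : inc0 X l m ∈ (cech X l).cyc 0 ↔ m ∈ gam a.toIdeal X.carrier := by
  rw [mem_cyc_zero, hl]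

variable {M : Type u} [AddCommGroup M] [Module R M] {τ : Type u} [SetLike τ M] [AddSubgroupClass τ M] {ℳ : ι → τ}
  [Decomposition ℳ] [SetLike.GradedSMul 𝒜 ℳ] (E : StarInjRes 𝒜 ℳ) (a : HomogeneousIdeal 𝒜)

theorem isHomogeneous_cocyc (i : ℕ) : (E.cocyc a i).IsHomogeneous (E.X i).gr :=
  isHomogeneous_inf (isHomogeneous_gam a) (isHomogeneous_ker (E.d_grHom i))

theorem isHomogeneous_cobdy : ∀ i, (E.cobdy a i).IsHomogeneous (E.X i).gr
  | 0 => isHomogeneous_bot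
  | n + 1 => isHomogeneous_map (E.d_grHom n) (isHomogeneous_gam a)

/-- graded local cohomology computed from `E`, bundled -/
noncomputable abbrev EH (i : ℕ) : GMod.{u} 𝒜 :=
  subquot (E.X i) (E.cocyc a i) (E.cobdy a i) (isHomogeneous_cocyc E a i) (isHomogeneous_cobdy E a i)

theorem EH_gr_iff (i : ℕ) (g : ι) (x : E.H a i) : x ∈ E.Hgr a i g ↔ x ∈ (EH E a i).gr g := by
  constructor
  · rintro ⟨z, hz, rfl⟩; exact ⟨z, hz, rfl⟩
  · rintro ⟨z, hz, rfl⟩; exact ⟨z, hz, rfl⟩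

theorem Hgr_isInternal (i : ℕ) : IsInternal (E.Hgr a i) := by
  have e : E.Hgr a i = fun g => ((EH E a i).gr g : AddSubgroup (E.H a i)) :=
    funext fun g => AddSubgroup.ext (EH_gr_iff E a i g)
  rw [e]
  exact DirectSum.Decomposition.isInternal (EH E a i).gr

/-- the cocycles of the resolution -/
noncomputable abbrev Zmod (j : ℕ) : GMod.{u} 𝒜 :=
  sub (E.X j) (LinearMap.ker (E.d j)) (isHomogeneous_ker (E.d_grHom j))

/-- the differential onto the cocycles -/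
noncomputable def toZ (j : ℕ) : (E.X j).carrier →ₗ[R] (Zmod E (j + 1)).carrier :=
  (E.d j).codRestrict (LinearMap.ker (E.d (j + 1))) fun x => by
    rw [E.exact_succ j]; exact LinearMap.mem_range_self _ x

theorem isHom_toZ (j : ℕ) : IsHom (toZ E j) := fun g x hx => E.d_grHom j g x hx

/-- the augmentation onto the cocycles -/
noncomputable def toZ₀ : (gmod 𝒜 ℳ).carrier →ₗ[R] (Zmod E 0).carrier :=
  E.ε.codRestrict (LinearMap.ker (E.d 0)) fun x => by rw [E.exact_zero]; exact LinearMap.mem_range_self _ x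

theorem isHom_toZ₀ : IsHom (toZ₀ E) := fun g x hx => E.ε_grHom g x hx

theorem toZ₀_bijective : Function.Bijective (toZ₀ E) :=
  ⟨fun _ _ h => E.ε_injective (congrArg Subtype.val h), fun z => by
    obtain ⟨m, hm⟩ := (le_of_eq E.exact_zero) z.2
    exact ⟨m, Subtype.ext hm⟩⟩

variable (l : List (HElt 𝒜))

theorem cech_ses (j : ℕ) :
    SES (cechMap (X := Zmod E j) (Y := E.X j) (LinearMap.ker (E.d j)).subtype (isHom_subtype (E.X j) _ (isHomogeneous_ker (E.d_grHom j))) l)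
      (cechMap (toZ E j) (isHom_toZ E j) l) :=
  cechMap_ses _ _ (Submodule.subtype_injective _)
    (fun z => by
      obtain ⟨x, hx⟩ := (le_of_eq (E.exact_succ j)) z.2
      exact ⟨x, Subtype.ext hx⟩)
    (fun x => ⟨fun (h : toZ E j x = 0) => ⟨(⟨x, congrArg Subtype.val h⟩ : LinearMap.ker (E.d j)), rfl⟩,
      by rintro ⟨z, rfl⟩; exact Subtype.ext z.2⟩) l

variable {a l} (hl : (hspan l).toIdeal = a.toIdeal)

include hl

theorem iso_EH_zero : Iso (EH E a 0) ((cech (Zmod E 0) l).H 0) := by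
  refine iso_of_rel _ _ _ _ _ _ _ _
    ((gam a.toIdeal (Zmod E 0).carrier).map ((LinearMap.ker (E.d 0)).subtype.prod (inc0 (Zmod E 0) l))) ?_ ?_ ?_
  · rintro z w ⟨v, hv, e⟩
    obtain ⟨rfl, rfl⟩ := Prod.ext_iff.1 e
    refine ⟨⟨(mem_gam_sub _ _ _ v).1 hv, v.2⟩, (mem_hspan_gam_iff (X := Zmod E _) hl v).2 hv, fun h => ?_, fun h => ?_⟩
    · have hv0 : v = 0 := Subtype.ext ((Submodule.mem_bot R).1 h)
      subst hv0
      exact (Submodule.mem_bot R).2 (map_zero _)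
    · have hv0 : v = 0 := (inc0_bijective (Zmod E 0) l).1 (((Submodule.mem_bot R).1 h).trans (map_zero _).symm)
      subst hv0
      exact zero_mem _
  · intro w hw
    obtain ⟨v, rfl⟩ := (inc0_bijective (Zmod E 0) l).2 w
    exact ⟨_, v, (mem_hspan_gam_iff hl v).1 hw, rfl⟩
  · intro g z hz hg
    let v : (Zmod E 0).carrier := (⟨z, hz.2⟩ : LinearMap.ker (E.d 0))
    exact ⟨inc0 _ l v, isHom_inc0 _ l g v hg, v, (mem_gam_sub _ _ _ v).2 hz.1, rfl⟩

theorem iso_EH_succ [IsNoetherianRing R] (j : ℕ) : Iso (EH E a (j + 1)) ((cech (Zmod E j) l).H 1) := by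
  refine Iso.trans ?_ ((cech_ses E l j).iso_connecting 0 (cech_acyclic (E.starInj j) l 0))
  refine iso_of_rel _ _ _ _ _ _ _ _
    ((gam a.toIdeal (Zmod E (j + 1)).carrier).map
      ((LinearMap.ker (E.d (j + 1))).subtype.prod (inc0 (Zmod E (j + 1)) l))) ?_ ?_ ?_
  · rintro z w ⟨v, hv, e⟩
    obtain ⟨rfl, rfl⟩ := Prod.ext_iff.1 e
    refine ⟨⟨(mem_gam_sub _ _ _ v).1 hv, v.2⟩, (mem_hspan_gam_iff (X := Zmod E _) hl v).2 hv, ?_, ?_⟩
    · rintro ⟨b, hb, e⟩
      refine ⟨inc0 _ l b, (mem_hspan_gam_iff hl b).2 hb, (cechMap_inc0 _ _ l b).trans ?_⟩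
      exact congrArg (inc0 _ l) (Subtype.ext e : toZ E j b = v)
    · rintro ⟨b', hb', e'⟩
      obtain ⟨b, rfl⟩ := (inc0_bijective (E.X j) l).2 b'
      refine ⟨b, (mem_hspan_gam_iff hl b).1 hb', ?_⟩
      exact congrArg Subtype.val ((inc0_bijective _ l).1 ((cechMap_inc0 _ _ l b).symm.trans e'))
  · intro w hw
    obtain ⟨v, rfl⟩ := (inc0_bijective (Zmod E (j + 1)) l).2 w
    exact ⟨_, v, (mem_hspan_gam_iff hl v).1 hw, rfl⟩
  · intro g z hz hg
    let v : (Zmod E (j + 1)).carrier := (⟨z, hz.2⟩ : LinearMap.ker (E.d (j + 1)))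
    exact ⟨inc0 _ l v, isHom_inc0 _ l g v hg, v, (mem_gam_sub _ _ _ v).2 hz.1, rfl⟩

omit hl in
theorem iso_shift_Z [IsNoetherianRing R] : ∀ j m : ℕ,
    Iso ((cech (Zmod E j) l).H (m + 1)) ((cech (Zmod E 0) l).H (m + 1 + j))
  | 0, m => Iso.refl _
  | j + 1, m => by
    have h := ((cech_ses E l j).iso_shift (m + 1) (cech_acyclic (E.starInj j) l m)
      (cech_acyclic (E.starInj j) l (m + 1))).trans (iso_shift_Z j (m + 1))
    rwa [show m + 1 + 1 + j = m + 1 + (j + 1) by omega] at h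

/-- Graded local cohomology from any *injective resolution is the graded Čech cohomology. -/
theorem iso_cech [IsNoetherianRing R] (i : ℕ) : Iso (EH E a i) ((cech (gmod 𝒜 ℳ) l).H i) := by
  have h0 := (cechMap (toZ₀ E) (isHom_toZ₀ E) l).iso_of_bijective
    (cechMap_bijective _ _ (toZ₀_bijective E) l) i
  refine Iso.trans ?_ h0.symm
  cases i with
  | zero => exact iso_EH_zero E hl
  | succ j =>
    have h := (iso_EH_succ E hl j).trans (iso_shift_Z E (l := l) j 0)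
    rwa [show 0 + 1 + j = j + 1 by omega] at h

omit hl in
/-- the pieces of the source notation vanish iff the bundled ones do -/
theorem Hgr_eq_bot_iff (i : ℕ) (g : ι) : E.Hgr a i g = ⊥ ↔ (EH E a i).gr g = ⊥ := by
  rw [AddSubgroup.eq_bot_iff_forall, AddSubgroup.eq_bot_iff_forall]
  exact ⟨fun h x hx => h x ((EH_gr_iff E a i g x).2 hx), fun h x hx => h x ((EH_gr_iff E a i g x).1 hx)⟩

theorem Hgr_eq_bot_iff_vanish [IsNoetherianRing R] (i : ℕ) (g : ι) :
    E.Hgr a i g = ⊥ ↔ (cech (gmod 𝒜 ℳ) l).Vanish i g := by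
  rw [Hgr_eq_bot_iff, (iso_cech E hl i).gr_eq_bot_iff, GCx.vanish_iff]

omit hl in
variable (a) in
theorem exists_hspan [IsNoetherianRing R] : ∃ l : List (HElt 𝒜), (hspan l).toIdeal = a.toIdeal := by
  classical
  obtain ⟨T, hT⟩ := (IsNoetherian.noetherian a.toIdeal : a.toIdeal.FG)
  choose S hS using fun t : R => exists_sum_cmp 𝒜 t
  let L : List (HElt 𝒜) :=
    (T.biUnion fun t => (S t).image fun i => (⟨cmp 𝒜 i t, i, cmp_mem 𝒜 i t⟩ : HElt 𝒜)).toList
  refine ⟨L, le_antisymm (Ideal.span_le.2 ?_) ?_⟩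
  · rintro r ⟨y, hy, rfl⟩
    simp only [L, Finset.mem_toList, Finset.mem_biUnion, Finset.mem_image] at hy
    obtain ⟨t, ht, i, -, rfl⟩ := hy
    exact a.isHomogeneous i (hT ▸ Ideal.subset_span ht)
  · rw [← hT]
    refine Ideal.span_le.2 fun t ht => ?_
    rw [SetLike.mem_coe, hS t]
    refine Ideal.sum_mem _ fun i hi => Ideal.subset_span ⟨⟨cmp 𝒜 i t, i, cmp_mem 𝒜 i t⟩, ?_, rfl⟩
    simp only [L, Finset.mem_toList, Finset.mem_biUnion, Finset.mem_image]
    exact ⟨t, ht, i, hi, rfl⟩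

end GrothLib.GrLC
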