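import Groth.Agent.Lib.GrLC.Compare
import Groth.Agent.Lib.GrLC.Exists

/-!
# Vanishing of graded Čech cohomology in a given degree: calculus
-/

universe u

open DirectSum

namespace GrothLib.GrLC

open _root_.GrLC (GMod IsGrHom IsStarInj StarInjRes gam)

variable {ι : Type} [AddCommGroup ι] [DecidableEq ι] {R : Type u} [CommRing R] {σ : Type u} [SetLike σ R]
  [AddSubgroupClass σ R] {𝒜 : ι → σ} [GradedRing 𝒜]

variable (l : List (HElt 𝒜))

/-- `H^i` of the Čech complex vanishes in degree `g` -/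
abbrev Van (X : GMod.{u} 𝒜) (i : ℕ) (g : ι) : Prop := (cech X l).Vanish i g

variable {l}

theorem van_congr_hom {X Y : GMod.{u} 𝒜} (f : X.carrier →ₗ[R] Y.carrier) (hf : IsHom f) (h : Function.Bijective f)
    (i : ℕ) (g : ι) : Van l X i g ↔ Van l Y i g := by
  rw [Van, Van, GCx.vanish_iff, GCx.vanish_iff]
  exact ((cechMap f hf l).iso_of_bijective (cechMap_bijective f hf h l) i).gr_eq_bot_iff g

theorem Iso.van_iff {X Y : GMod.{u} 𝒜} (h : Iso X Y) (i : ℕ) (g : ι) : Van l X i g ↔ Van l Y i g :=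
  let ⟨e, he⟩ := h; van_congr_hom e.toLinearMap he e.bijective i g

theorem iso_gmod_gr (X : GMod.{u} 𝒜) : Iso (gmod 𝒜 X.gr) X := ⟨LinearEquiv.refl R X.carrier, fun _ _ h => h⟩

section Map

variable {X Y Z : GMod.{u} 𝒜}

omit [AddCommGroup ι] [DecidableEq ι] [AddSubgroupClass σ R] in
theorem linearMap_sum_apply' {A B α : Type*} [AddCommGroup A] [Module R A] [AddCommGroup B] [Module R B]
    (s : Finset α) (f : α → A →ₗ[R] B) (a : A) : (∑ i ∈ s, f i) a = ∑ i ∈ s, f i a := LinearMap.sum_apply _ _ _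

theorem locMap_comp (x : HElt 𝒜) {A B C : Type u} [AddCommGroup A] [Module R A] [AddCommGroup B] [Module R B]
    [AddCommGroup C] [Module R C] (f : A →ₗ[R] B) (g : B →ₗ[R] C) (q : LocalizedModule (Submonoid.powers x.val) A) :
    locMap x g (locMap x f q) = locMap x (g ∘ₗ f) q := by
  obtain ⟨n, a, rfl⟩ := exists_fr x q
  rw [locMap_fr, locMap_fr, locMap_fr, LinearMap.comp_apply]

theorem locMap_congr (x : HElt 𝒜) {A B : Type u} [AddCommGroup A] [Module R A] [AddCommGroup B] [Module R B]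
    (f g : A →ₗ[R] B) (h : ∀ a, f a = g a) (q : LocalizedModule (Submonoid.powers x.val) A) :
    locMap x f q = locMap x g q := by rw [LinearMap.ext h]

theorem cechMap_comp (f : X.carrier →ₗ[R] Y.carrier) (hf : IsHom f) (g : Y.carrier →ₗ[R] Z.carrier) (hg : IsHom g) :
    ∀ (l : List (HElt 𝒜)) (n : ℕ) (z : ((cech X l).X n).carrier),
      (cechMap g hg l).f n ((cechMap f hf l).f n z) = (cechMap (g ∘ₗ f) (IsHom.comp hg hf) l).f n z
  | [], 0, _ => rfl
  | [], _ + 1, _ => rfl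
  | x :: l, 0, z => cechMap_comp f hf g hg l 0 z
  | x :: l, n + 1, z => Prod.ext (cechMap_comp f hf g hg l (n + 1) z.1) ((locMap_comp x _ _ z.2).trans
      (locMap_congr x _ _ (fun a => cechMap_comp f hf g hg l n a) z.2))

theorem cechMap_zero :
    ∀ (l : List (HElt 𝒜)) (n : ℕ) (z : ((cech X l).X n).carrier),
      (cechMap (0 : X.carrier →ₗ[R] Y.carrier) IsHom.zero l).f n z = 0
  | [], 0, _ => rfl
  | [], _ + 1, _ => rfl
  | x :: l, 0, z => cechMap_zero l 0 z
  | x :: l, n + 1, z => by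
    refine Prod.ext (cechMap_zero l (n + 1) z.1) ?_
    obtain ⟨k, a, ha⟩ := exists_fr x z.2
    change locMap x ((cechMap (0 : X.carrier →ₗ[R] Y.carrier) IsHom.zero l).f n) z.2 = 0
    rw [← ha]
    refine (locMap_fr x _ k a).trans ?_
    rw [cechMap_zero l n a, fr_zero]

theorem cechMap_add (f : X.carrier →ₗ[R] Y.carrier) (hf : IsHom f) (g : X.carrier →ₗ[R] Y.carrier) (hg : IsHom g) :
    ∀ (l : List (HElt 𝒜)) (n : ℕ) (z : ((cech X l).X n).carrier),
      (cechMap (f + g) (hf.add hg) l).f n z = (cechMap f hf l).f n z + (cechMap g hg l).f n z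
  | [], 0, _ => rfl
  | [], n + 1, _ => (singleX_succ_eq_zero Y n _).trans (singleX_succ_eq_zero Y n _).symm
  | x :: l, 0, z => cechMap_add f hf g hg l 0 z
  | x :: l, n + 1, z => by
    refine Prod.ext (cechMap_add f hf g hg l (n + 1) z.1) ?_
    obtain ⟨k, a, ha⟩ := exists_fr x z.2
    change locMap x ((cechMap (f + g) (hf.add hg) l).f n) z.2 =
      locMap x ((cechMap f hf l).f n) z.2 + locMap x ((cechMap g hg l).f n) z.2
    rw [← ha]
    refine (locMap_fr x _ k a).trans ?_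
    rw [cechMap_add f hf g hg l n a, fr_add]
    exact congrArg₂ (· + ·) (locMap_fr x _ k a).symm (locMap_fr x _ k a).symm

theorem cechMap_id : ∀ (l : List (HElt 𝒜)) (n : ℕ) (z : ((cech X l).X n).carrier),
      (cechMap (LinearMap.id : X.carrier →ₗ[R] X.carrier) IsHom.id l).f n z = z
  | [], 0, _ => rfl
  | [], n + 1, _ => (singleX_succ_eq_zero X n _).trans (singleX_succ_eq_zero X n _).symm
  | x :: l, 0, z => cechMap_id l 0 z
  | x :: l, n + 1, z => by
    refine Prod.ext (cechMap_id l (n + 1) z.1) ?_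
    obtain ⟨k, a, ha⟩ := exists_fr x z.2
    change locMap x ((cechMap (LinearMap.id : X.carrier →ₗ[R] X.carrier) IsHom.id l).f n) z.2 = z.2
    rw [← ha]
    refine (locMap_fr x _ k a).trans ?_
    rw [cechMap_id l n a]

theorem cechMap_congr (f g : X.carrier →ₗ[R] Y.carrier) (hf : IsHom f) (hg : IsHom g) (h : f = g)
    (l : List (HElt 𝒜)) (n : ℕ) (z : ((cech X l).X n).carrier) :
    (cechMap f hf l).f n z = (cechMap g hg l).f n z := by
  subst h
  rfl

theorem cechMap_sum {α : Type*} (s : Finset α) (f : α → (X.carrier →ₗ[R] Y.carrier)) (hf : ∀ a, IsHom (f a))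
    (l : List (HElt 𝒜)) (n : ℕ) (z : ((cech X l).X n).carrier) :
    (cechMap (∑ a ∈ s, f a) (IsHom.sum s fun a _ => hf a) l).f n z = ∑ a ∈ s, (cechMap (f a) (hf a) l).f n z := by
  classical
  induction s using Finset.induction_on with
  | empty =>
    exact (cechMap_congr _ 0 _ IsHom.zero (Finset.sum_empty (f := f)) l n z).trans
      ((cechMap_zero l n z).trans Finset.sum_empty.symm)
  | insert a s ha ih =>
    refine (cechMap_congr _ (f a + ∑ b ∈ s, f b) _ ((hf a).add (IsHom.sum s fun b _ => hf b))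
      (Finset.sum_insert ha) l n z).trans ?_
    rw [Finset.sum_insert ha, cechMap_add (f a) (hf a) (∑ b ∈ s, f b) (IsHom.sum s fun b _ => hf b), ih]

/-- If the identity is a sum of composites through modules with vanishing, there is vanishing. -/
theorem van_of_sum_factor {α : Type*} (s : Finset α) (P : α → GMod.{u} 𝒜)
    (f : ∀ a, X.carrier →ₗ[R] (P a).carrier) (hf : ∀ a, IsHom (f a))
    (g : ∀ a, (P a).carrier →ₗ[R] X.carrier) (hg : ∀ a, IsHom (g a))
    (hid : ∑ a ∈ s, g a ∘ₗ f a = LinearMap.id) {i : ℕ} {d : ι} (h : ∀ a ∈ s, Van l (P a) i d) :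
    Van l X i d := by
  intro z hz hd
  rw [← cechMap_id l i z, ← cechMap_congr _ _ (IsHom.sum s fun a _ => IsHom.comp (hg a) (hf a)) IsHom.id hid l i z,
    cechMap_sum s (fun a => g a ∘ₗ f a) (fun a => IsHom.comp (hg a) (hf a)) l i z]
  refine Submodule.sum_mem _ fun a ha => ?_
  rw [← cechMap_comp (f a) (hf a) (g a) (hg a) l i z]
  exact Mor.map_bdy_le (cechMap (g a) (hg a) l) i ⟨_, h a ha _ (Mor.map_cyc_le _ i ⟨z, hz, rfl⟩)
    ((cechMap (f a) (hf a) l).hom i d z hd), rfl⟩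

theorem van_retract (f : X.carrier →ₗ[R] Y.carrier) (hf : IsHom f) (g : Y.carrier →ₗ[R] X.carrier) (hg : IsHom g)
    (h : g ∘ₗ f = LinearMap.id) {i : ℕ} {d : ι} (hY : Van l Y i d) : Van l X i d :=
  van_of_sum_factor (Finset.univ : Finset Unit) (fun _ => Y) (fun _ => f) (fun _ => hf) (fun _ => g) (fun _ => hg)
    (by rw [Finset.univ_unique, Finset.sum_singleton]; exact h) fun _ _ => hY

end Map

section Pi

theorem van_pi {κ : Type u} [Fintype κ] (Z : κ → GMod.{u} 𝒜) {i : ℕ} {g : ι} (h : ∀ a, Van l (Z a) i g) :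
    Van l (pi Z) i g := by
  classical
  refine van_of_sum_factor (X := pi Z) (Finset.univ : Finset κ) Z
    (fun a => (LinearMap.proj a : (∀ b, (Z b).carrier) →ₗ[R] (Z a).carrier))
    (fun a d v hv => hv a trivial)
    (fun a => (LinearMap.single R (fun b => (Z b).carrier) a : (Z a).carrier →ₗ[R] (∀ b, (Z b).carrier)))
    (fun a d v hv b _ => ?_) (LinearMap.ext fun (v : ∀ b, (Z b).carrier) => ?_) fun a _ => h a
  · change Pi.single (M := fun b => (Z b).carrier) a v b ∈ (Z b).gr d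
    by_cases hb : b = a
    · subst hb; rw [Pi.single_eq_same]; exact hv
    · rw [Pi.single_eq_of_ne hb]; exact zero_mem _
  · refine (linearMap_sum_apply' (A := ∀ b, (Z b).carrier) (B := ∀ b, (Z b).carrier) _ _ v).trans ?_
    exact Finset.univ_sum_single v

theorem van_prod {X Y : GMod.{u} 𝒜} {i : ℕ} {g : ι} (hX : Van l X i g) (hY : Van l Y i g) :
    Van l (prod X Y) i g :=
  (cechMap_ses (X := X) (Y := prod X Y) (Z := Y)
    (f := (LinearMap.inl R X.carrier Y.carrier)) (fun _ _ hx => ⟨hx, zero_mem _⟩)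
    (g := (LinearMap.snd R X.carrier Y.carrier)) (fun _ _ hx => hx.2)
    LinearMap.inl_injective LinearMap.snd_surjective Function.Exact.inl_snd l).vanish_mid hX hY

end Pi

section Torsion

variable {X : GMod.{u} 𝒜}

theorem loc_eq_zero (x : HElt 𝒜) (h : ∀ m : X.carrier, ∃ k : ℕ, x.val ^ k • m = 0)
    (q : LocalizedModule (Submonoid.powers x.val) X.carrier) : q = 0 := by
  obtain ⟨n, m, rfl⟩ := exists_fr x q
  exact (fr_eq_zero_iff x).2 (h m)

theorem cech_succ_eq_zero : ∀ (l : List (HElt 𝒜)), (∀ y ∈ l, ∀ m : X.carrier, ∃ k : ℕ, y.val ^ k • m = 0) →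
    ∀ (n : ℕ) (z : ((cech X l).X (n + 1)).carrier), z = 0
  | [], _, n, z => singleX_succ_eq_zero X n z
  | x :: l, h, 0, z => by
    refine Prod.ext (cech_succ_eq_zero l (fun y hy => h y (List.mem_cons_of_mem _ hy)) 0 z.1) ?_
    refine loc_eq_zero x (fun m => ?_) z.2
    obtain ⟨m', rfl⟩ := (inc0_bijective X l).2 m
    obtain ⟨k, hk⟩ := h x (List.mem_cons_self ..) m'
    exact ⟨k, by rw [← map_smul, hk, map_zero]⟩
  | x :: l, h, n + 1, z => Prod.ext (cech_succ_eq_zero l (fun y hy => h y (List.mem_cons_of_mem _ hy)) (n + 1) z.1)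
      (loc_eq_zero x (fun m => ⟨0, by
        rw [cech_succ_eq_zero l (fun y hy => h y (List.mem_cons_of_mem _ hy)) n m, smul_zero]⟩) z.2)

theorem cech_eq_zero_of_length : ∀ (l : List (HElt 𝒜)) (n : ℕ), l.length < n →
    ∀ z : ((cech X l).X n).carrier, z = 0
  | [], n + 1, _, z => singleX_succ_eq_zero X n z
  | x :: l, n + 1, h, z => Prod.ext (cech_eq_zero_of_length l (n + 1) (by simp at h; omega) z.1)
      (loc_eq_zero x (fun m => ⟨0, by rw [cech_eq_zero_of_length l n (by simp at h; omega) m, smul_zero]⟩) z.2)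

theorem van_of_length {i : ℕ} {g : ι} (h : l.length < i) : Van l X i g := fun z _ _ => by
  rw [cech_eq_zero_of_length l i h z]; exact zero_mem _

theorem van_torsion (h : ∀ y ∈ l, ∀ m : X.carrier, ∃ k : ℕ, y.val ^ k • m = 0) {i : ℕ} (hi : 1 ≤ i) {g : ι} :
    Van l X i g := fun z _ _ => by
  obtain ⟨n, rfl⟩ := Nat.exists_eq_add_of_le' hi
  rw [cech_succ_eq_zero l h n z]; exact zero_mem _

theorem van_zero_of_gr_eq_bot {g : ι} (h : X.gr g = ⊥) : Van l X 0 g := fun z _ hg => by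
  obtain ⟨m, rfl⟩ := (inc0_bijective X l).2 z
  refine (Submodule.mem_bot R).2 ?_
  rw [← cmp_of_mem _ hg, ← (isHom_inc0 X l).cmp,
    (AddSubgroup.eq_bot_iff_forall _).1 h _ (cmp_mem X.gr g m), map_zero]

theorem van_zero_iff_of_torsion (h : ∀ y ∈ l, ∀ m : X.carrier, ∃ k : ℕ, y.val ^ k • m = 0) (g : ι) :
    Van l X 0 g ↔ X.gr g = ⊥ := by
  refine ⟨fun hv => (AddSubgroup.eq_bot_iff_forall _).2 fun m hm => ?_, van_zero_of_gr_eq_bot⟩
  have h1 : inc0 X l m ∈ (cech X l).cyc 0 := (mem_cyc_zero l m).2 ((forall_list_iff_mem_gam l m).1 fun y hy => h y hy m)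
  exact (inc0_bijective X l).1 (((Submodule.mem_bot R).1 (hv _ h1 (isHom_inc0 X l g m hm))).trans (map_zero _).symm)

theorem van_zero_iff (g : ι) :
    Van l X 0 g ↔ ∀ m ∈ X.gr g, m ∈ gam (hspan l).toIdeal X.carrier → m = 0 := by
  constructor
  · intro hv m hm hΓ
    exact (inc0_bijective X l).1 (((Submodule.mem_bot R).1
      (hv _ ((mem_cyc_zero l m).2 hΓ) (isHom_inc0 X l g m hm))).trans (map_zero _).symm)
  · intro h z hz hg
    obtain ⟨m, rfl⟩ := (inc0_bijective X l).2 z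
    refine (Submodule.mem_bot R).2 ?_
    rw [← cmp_of_mem _ hg, ← (isHom_inc0 X l).cmp, h _ (cmp_mem X.gr g m)
      (isHomogeneous_gam (hspan l) g ((mem_cyc_zero l m).1 hz)), map_zero]

theorem van_of_subsingleton [Subsingleton X.carrier] (i : ℕ) (g : ι) : Van l X i g := by
  rcases i with _ | n
  · exact van_zero_of_gr_eq_bot ((AddSubgroup.eq_bot_iff_forall _).2 fun _ _ => Subsingleton.elim _ _)
  · exact van_torsion (fun _ _ _ => ⟨0, Subsingleton.elim _ _⟩) (Nat.succ_pos n)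

theorem exists_pow_smul_mem_bdy [IsNoetherianRing R] {i : ℕ} {z : ((cech X l).X i).carrier}
    (hz : z ∈ (cech X l).cyc i) {y : HElt 𝒜} (hy : y ∈ l) :
    ∃ k : ℕ, y.val ^ k • z ∈ (cech X l).bdy i := by
  obtain ⟨e, -⟩ := (iso_cech (starInjRes 𝒜 X.gr) (a := hspan l) rfl i).trans
    ((cechMap (X := gmod 𝒜 X.gr) (Y := X) (LinearEquiv.refl R X.carrier).toLinearMap (fun _ _ h => h) l).iso_of_bijective
      (cechMap_bijective (X := gmod 𝒜 X.gr) (Y := X) _ _ (LinearEquiv.refl R X.carrier).bijective l) i)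
  obtain ⟨c, hc⟩ := e.surjective
    (Submodule.mkQ (((cech X l).bdy i).comap ((cech X l).cyc i).subtype) ⟨z, hz⟩)
  obtain ⟨⟨w, hw⟩, rfl⟩ := Submodule.mkQ_surjective _ c
  obtain ⟨N, hN⟩ := hw.1
  have h1 : y.val ^ N • (⟨w, hw⟩ : (starInjRes 𝒜 X.gr).cocyc (hspan l) i) = 0 :=
    Subtype.ext (hN _ (Ideal.pow_mem_pow (Ideal.subset_span
      (show y.val ∈ {r | ∃ y ∈ l, y.val = r} from ⟨y, hy, rfl⟩)) N))
  refine ⟨N, (Submodule.Quotient.mk_eq_zero (((cech X l).bdy i).comap ((cech X l).cyc i).subtype)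
    (x := y.val ^ N • (⟨z, hz⟩ : (cech X l).cyc i))).1 ?_⟩
  rw [Submodule.Quotient.mk_smul]
  refine (congrArg (y.val ^ N • ·) hc.symm).trans ?_
  refine (map_smul e _ _).symm.trans ?_
  refine (congrArg e ?_).trans (map_zero e)
  exact ((map_smul (Submodule.mkQ _) _ _).symm.trans (congrArg (Submodule.mkQ _) h1)).trans (map_zero _)

end Torsion

section Shift

/-- shift of a complex -/
noncomputable def GCx.shiftBy (C : GCx.{u} 𝒜) (d : ι) : GCx.{u} 𝒜 where
  X n := shift (C.X n) d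
  d n := C.d n
  d_hom n g x hx := C.d_hom n (g + d) x hx
  d_d := C.d_d

theorem GCx.shiftBy_vanish (C : GCx.{u} 𝒜) (d : ι) (n : ℕ) (g : ι) :
    (C.shiftBy d).Vanish n g ↔ C.Vanish n (g + d) := by
  cases n <;> exact Iff.rfl

/-- composition -/
noncomputable def Mor.comp {A B C : GCx.{u} 𝒜} (ψ : Mor B C) (φ : Mor A B) : Mor A C where
  f n := ψ.f n ∘ₗ φ.f n
  hom n := IsHom.comp (ψ.hom n) (φ.hom n)
  comm n x := by rw [LinearMap.comp_apply, LinearMap.comp_apply, ψ.comm, φ.comm]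

/-- the extension commutes with shifting -/
noncomputable def extShift (x : HElt 𝒜) (C : GCx.{u} 𝒜) (d : ι) :
    Mor (ext x (C.shiftBy d)) ((ext x C).shiftBy d) where
  f := fun
    | 0 => LinearMap.id (R := R) (M := (C.X 0).carrier)
    | n + 1 => LinearMap.id (R := R) (M := (C.X (n + 1)).carrier × LocalizedModule (Submonoid.powers x.val) (C.X n).carrier)
  hom := fun
    | 0 => fun _ _ h => h
    | n + 1 => fun g z hz => ⟨hz.1, by
        obtain ⟨k, m, hm, e⟩ := hz.2
        refine ⟨k, m, ?_, e⟩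
        rw [add_right_comm]
        exact hm⟩
  comm := fun
    | 0, _ => rfl
    | _ + 1, _ => rfl

theorem extShift_bijective (x : HElt 𝒜) (C : GCx.{u} 𝒜) (d : ι) : ∀ n, Function.Bijective ((extShift x C d).f n)
  | 0 => Function.bijective_id
  | _ + 1 => Function.bijective_id

/-- the Čech complex commutes with shifting -/
noncomputable def cechShift (X : GMod.{u} 𝒜) (d : ι) :
    ∀ l : List (HElt 𝒜), Mor (cech (shift X d) l) ((cech X l).shiftBy d)
  | [] =>
    { f := fun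
        | 0 => LinearMap.id (R := R) (M := X.carrier)
        | _ + 1 => 0
      hom := fun
        | 0 => fun _ _ h => h
        | _ + 1 => IsHom.zero
      comm := fun
        | 0, _ => rfl
        | _ + 1, _ => rfl }
  | x :: l => (extShift x (cech X l) d).comp (extMap x (cechShift X d l))

theorem cechShift_bijective (X : GMod.{u} 𝒜) (d : ι) :
    ∀ (l : List (HElt 𝒜)) (n : ℕ), Function.Bijective ((cechShift X d l).f n)
  | [], 0 => Function.bijective_id
  | [], n + 1 => ⟨fun a b _ => (singleX_succ_eq_zero _ n a).trans (singleX_succ_eq_zero _ n b).symm,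
      fun b => ⟨0, (map_zero _).trans (singleX_succ_eq_zero X n b).symm⟩⟩
  | x :: l, n => (extShift_bijective x _ d n).comp (extMap_bijective x _ (cechShift_bijective X d l) n)

theorem van_shift {X : GMod.{u} 𝒜} (d : ι) (i : ℕ) (g : ι) : Van l (shift X d) i g ↔ Van l X i (g + d) := by
  rw [Van, GCx.vanish_iff, ((cechShift X d l).iso_of_bijective (cechShift_bijective X d l) i).gr_eq_bot_iff,
    ← GCx.vanish_iff, GCx.shiftBy_vanish]

end Shift

namespace SES

variable {A B C : GCx.{u} 𝒜} {φ : Mor A B} {ψ : Mor B C} (S : SES φ ψ)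

include S

theorem mem_bdy_of_map_mem {n : ℕ} {g : ι} (hC : C.Vanish n g) {w : (A.X (n + 1)).carrier}
    (hg : w ∈ (A.X (n + 1)).gr g) (h : φ.f (n + 1) w ∈ B.bdy (n + 1)) : w ∈ A.bdy (n + 1) := by
  obtain ⟨b, hb⟩ := h
  have e : B.d n (cmp (B.X n).gr g b) = φ.f (n + 1) w := by
    rw [(B.d_hom n).cmp, hb, cmp_of_mem _ (φ.hom (n + 1) g w hg)]
  obtain ⟨b₀, hb₀, e₀⟩ := S.bdy_le_map n (hC (ψ.f n (cmp (B.X n).gr g b))
    (by change C.d n (ψ.f n _) = 0; rw [ψ.comm, e, S.psi_phi]) (ψ.hom n g _ (cmp_mem _ g b)))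
  obtain ⟨a, ha⟩ := (S.exact n (cmp (B.X n).gr g b - b₀)).1 (by rw [map_sub, e₀, sub_self])
  refine ⟨a, S.inj (n + 1) ?_⟩
  rw [← φ.comm, ha, map_sub, show B.d n b₀ = 0 from B.bdy_le_cyc n hb₀, sub_zero, e]

end SES

section Range

theorem isHom_incl {X : GMod.{u} 𝒜} {P Q : Submodule R X.carrier} (hP : P.IsHomogeneous X.gr)
    (hQ : Q.IsHomogeneous X.gr) (h : P ≤ Q) :
    IsHom (X := sub X P hP) (Y := sub X Q hQ) (Submodule.inclusion h) := fun _ _ hx => hx

/-- Vanishing passes from a submodule to a bigger one with torsion quotient. -/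
theorem van_of_torsion_quot {X : GMod.{u} 𝒜} {P Q : Submodule R X.carrier} (hP : P.IsHomogeneous X.gr)
    (hQ : Q.IsHomogeneous X.gr) (hle : P ≤ Q) (ht : ∀ y ∈ l, ∀ q ∈ Q, ∃ k : ℕ, y.val ^ k • q ∈ P) {i : ℕ}
    (hi : 1 ≤ i) {g : ι} (h : Van l (sub X P hP) i g) : Van l (sub X Q hQ) i g := by
  refine (cechMap_ses (X := sub X P hP) (Y := sub X Q hQ)
    (Z := quot (sub X Q hQ) (P.comap Q.subtype) (isHomogeneous_comap (isHom_subtype X Q hQ) hP))
    (isHom_incl hP hQ hle) (isHom_mkQ (sub X Q hQ) _ _) (Submodule.inclusion_injective hle)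
    (Submodule.mkQ_surjective _) (fun v => ?_) l).vanish_mid h (van_torsion (fun y hy m => ?_) hi)
  · refine (Submodule.Quotient.mk_eq_zero (P.comap Q.subtype)).trans ⟨fun hv => ⟨(⟨_, hv⟩ : P), rfl⟩, ?_⟩
    rintro ⟨p, rfl⟩
    exact (p : P).2
  · obtain ⟨q, rfl⟩ := Submodule.mkQ_surjective _ m
    obtain ⟨k, hk⟩ := ht y hy q.1 q.2
    refine ⟨k, ?_⟩
    exact (map_smul (Submodule.mkQ (P.comap Q.subtype)) (y.val ^ k) q).symm.trans
      ((Submodule.Quotient.mk_eq_zero (P.comap Q.subtype)).2 hk)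

/-- In a complex with torsion cohomology, vanishing for the terms gives vanishing for the coboundaries. -/
theorem van_bdy (C : GCx.{u} 𝒜) (ht : ∀ p, ∀ z ∈ C.cyc p, ∀ y ∈ l, ∃ k : ℕ, y.val ^ k • z ∈ C.bdy p) {g : ι} :
    ∀ (q p : ℕ), 1 ≤ p → (∀ j s, j + s + 1 = q → Van l (C.X s) (p + j) g) →
      Van l (sub (C.X q) (C.bdy q) (C.isHomogeneous_bdy q)) p g
  | 0, p, _, _ => by
    have : Subsingleton (sub (C.X 0) (C.bdy 0) (C.isHomogeneous_bdy 0)).carrier :=
      ⟨fun a b => Subtype.ext (((Submodule.mem_bot R).1 a.2).trans ((Submodule.mem_bot R).1 b.2).symm)⟩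
    exact van_of_subsingleton p g
  | q + 1, p, hp, h => by
    have hZ : Van l (sub (C.X q) (C.cyc q) (C.isHomogeneous_cyc q)) (p + 1) g :=
      van_of_torsion_quot (C.isHomogeneous_bdy q) (C.isHomogeneous_cyc q) (C.bdy_le_cyc q)
        (fun y hy z hz => ht q z hz y hy) (Nat.le_add_left 1 p)
        (van_bdy C ht q (p + 1) (Nat.le_add_left 1 p) fun j s hs => by
          have h' := h (j + 1) s (by omega)
          rwa [show p + (j + 1) = p + 1 + j by omega] at h')
    refine (cechMap_ses (X := sub (C.X q) (C.cyc q) (C.isHomogeneous_cyc q)) (Y := C.X q)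
      (Z := sub (C.X (q + 1)) (C.bdy (q + 1)) (C.isHomogeneous_bdy (q + 1)))
      (isHom_subtype (C.X q) _ _) (g := (C.d q).codRestrict (C.bdy (q + 1)) fun x => ⟨x, rfl⟩)
      (fun d x hx => C.d_hom q d x hx) (Submodule.subtype_injective _) (fun v => ?_) (fun v => ?_) l).vanish_right
        (h 0 q (by omega)) hZ
    · obtain ⟨x, hx⟩ := v.2
      exact ⟨x, Subtype.ext hx⟩
    · exact ⟨fun hv => ⟨(⟨v, congrArg Subtype.val hv⟩ : C.cyc q), rfl⟩, by
        rintro ⟨w, rfl⟩; exact Subtype.ext (w : C.cyc q).2⟩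

end Range

end GrothLib.GrLC
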