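import Groth.Agent.Lib.GrLC.HullQuot
import Mathlib.RingTheory.GradedAlgebra.Radical
import Mathlib.Algebra.Order.Group.PiLex
import Mathlib.LinearAlgebra.FreeModule.Finite.Basic
import Mathlib.RingTheory.Ideal.Maps

/-!
# Graded associated primes; summands of *injective modules
-/

universe u

open DirectSum

namespace GrothLib.GrLC

open _root_.GrLC (GMod IsGrHom IsGrHomDeg IsStarInj IsStarEss IsStarInjHull IsStarIndec quotGr)

section Order

theorem exists_linearOrder (ι : Type) [AddCommGroup ι] [Module.Free ℤ ι] [Module.Finite ℤ ι] :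
    ∃ (o : LinearOrder ι), @IsOrderedCancelAddMonoid ι _ o.toPartialOrder.toPreorder := by
  classical
  let b := Module.Free.chooseBasis ℤ ι
  let n := Fintype.card (Module.Free.ChooseBasisIndex ℤ ι)
  let e : ι ≃ₗ[ℤ] (Fin n → ℤ) := (b.reindex (Fintype.equivFin _)).equivFun
  let φ : ι → Lex (Fin n → ℤ) := fun x => toLex (e x)
  have hinj : Function.Injective φ := fun x y h => e.injective (toLex_inj.1 h)
  let o : LinearOrder ι := LinearOrder.lift' φ hinj
  have hadd : ∀ x y, φ (x + y) = φ x + φ y := fun x y => congrArg toLex (map_add e x y)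
  have hle : ∀ x y : ι, o.le x y ↔ φ x ≤ φ y := fun _ _ => Iff.rfl
  refine ⟨o, @IsOrderedCancelAddMonoid.mk ι _ o.toPartialOrder.toPreorder
    (@IsOrderedAddMonoid.mk ι _ o.toPartialOrder.toPreorder ?_ ?_) ?_ ?_⟩
  all_goals intros
  all_goals simp only [hle, hadd] at *
  all_goals first
    | exact add_le_add_left ‹_› _
    | exact add_le_add_right ‹_› _
    | exact le_of_add_le_add_left ‹_›
    | exact le_of_add_le_add_right ‹_›

variable {ι : Type} [AddCommGroup ι] [d : DecidableEq ι] [Module.Free ℤ ι] [Module.Finite ℤ ι] {R : Type u}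
  [CommRing R] {σ : Type u} [SetLike σ R] [AddSubgroupClass σ R] {𝒜 : ι → σ} [GradedRing 𝒜]

theorem isPrime_of_homogeneous_test {I : Ideal R} (hI : I.IsHomogeneous 𝒜) (hne : I ≠ ⊤)
    (h : ∀ (i j : ι) (x y : R), x ∈ 𝒜 i → y ∈ 𝒜 j → x * y ∈ I → x ∈ I ∨ y ∈ I) : I.IsPrime := by
  obtain ⟨o, ho⟩ := exists_linearOrder ι
  obtain rfl : d = o.toDecidableEq := Subsingleton.elim _ _
  exact hI.isPrime_of_homogeneous_mem_or_mem hne fun ⟨i, hi⟩ ⟨j, hj⟩ hxy => h i j _ _ hi hj hxy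

theorem exists_prime_annihilator [IsNoetherianRing R] (X : GMod.{u} 𝒜) [Nontrivial X.carrier] :
    ∃ (q : HomogeneousIdeal 𝒜) (g : ι) (x : X.carrier), q.toIdeal.IsPrime ∧ x ∈ X.gr g ∧
      (Submodule.span R {x}).annihilator = q.toIdeal := by
  obtain ⟨y, hy⟩ := exists_ne (0 : X.carrier)
  obtain ⟨S, hS⟩ := exists_sum_cmp X.gr y
  obtain ⟨g₀, hg₀⟩ : ∃ g, cmp X.gr g y ≠ 0 := by
    by_contra h
    push_neg at h
    exact hy (eq_zero_of_cmp X.gr h)
  let 𝒯 : Set (Ideal R) := {I | ∃ (g : ι) (x : X.carrier), x ∈ X.gr g ∧ x ≠ 0 ∧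
    LinearMap.ker (LinearMap.toSpanSingleton R X.carrier x) = I}
  obtain ⟨I, ⟨g, x, hx, hx0, rfl⟩, hmax⟩ := set_has_maximal_iff_noetherian.2 ‹IsNoetherianRing R› 𝒯
    ⟨_, g₀, _, cmp_mem X.gr g₀ y, hg₀, rfl⟩
  have hhom : (LinearMap.ker (LinearMap.toSpanSingleton R X.carrier x) : Ideal R).IsHomogeneous 𝒜 := fun i r hr => by
    change cmp 𝒜 i r • x = 0
    have h := cmp_smul_mem (𝒜 := 𝒜) X.gr r hx (i + g)
    rw [add_sub_cancel_right, show r • x = 0 from hr, map_zero] at h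
    exact h.symm
  have hp : Ideal.IsPrime (LinearMap.ker (LinearMap.toSpanSingleton R X.carrier x) : Ideal R) := by
    refine isPrime_of_homogeneous_test hhom (fun h => hx0 ?_) fun i j a b ha hb hab => ?_
    · have h1 : (1 : R) • x = 0 := (Ideal.eq_top_iff_one _).1 h
      rwa [one_smul] at h1
    · by_contra h
      push_neg at h
      refine hmax _ ⟨j + g, b • x, smul_mem' X.gr hb hx, h.2, rfl⟩ (lt_of_le_of_ne (fun c hc => ?_) fun e => h.1 ?_)
      · change c • b • x = 0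
        rw [smul_comm, show c • x = 0 from hc, smul_zero]
      · rw [e]
        change a • b • x = 0
        rw [smul_smul]
        exact hab
  refine ⟨⟨_, hhom⟩, g, x, hp, hx, ?_⟩
  ext r
  exact Submodule.mem_annihilator_span_singleton x r

end Order

variable {ι : Type} [AddCommGroup ι] [DecidableEq ι] {R : Type u} [CommRing R] {σ : Type u} [SetLike σ R]
  [AddSubgroupClass σ R] {𝒜 : ι → σ} [GradedRing 𝒜]

/-- A homogeneous element with annihilator `q` spans an envelope of a shift of `R ⧸ q` inside a *injective. -/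
theorem exists_summand_hull {I : GMod.{u} 𝒜} (hI : IsStarInj 𝒜 I.gr) (q : HomogeneousIdeal 𝒜) (g₀ : ι)
    (m : I.carrier) (hm : m ∈ I.gr g₀) (hann : (Submodule.span R {m}).annihilator = q.toIdeal) :
    ∃ (X : GMod.{u} 𝒜) (f : (R ⧸ q.toIdeal) →ₗ[R] X.carrier) (ψ : X.carrier →ₗ[R] I.carrier)
      (Q : Submodule R I.carrier), IsStarInjHull 𝒜 (fun j : ι => quotGr 𝒜 q (j - g₀)) X.gr f ∧
        Function.Injective ψ ∧ IsHom ψ ∧ ψ (f 1) = m ∧ Q.IsHomogeneous I.gr ∧
        IsCompl (LinearMap.range ψ) Q := by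
  have hmem : ∀ r : R, r ∈ q.toIdeal ↔ r • m = 0 := fun r => hann ▸ Submodule.mem_annihilator_span_singleton m r
  obtain ⟨P, θ, hθ, hθinj, hθr⟩ : ∃ (P : GMod.{u} 𝒜) (θ : P.carrier →ₗ[R] I.carrier), IsHom θ ∧
      Function.Injective θ ∧ LinearMap.range θ = Submodule.span R {m} :=
    ⟨sub I _ (isHomogeneous_span_singleton hm), (Submodule.span R {m}).subtype,
      isHom_subtype I _ (isHomogeneous_span_singleton hm), Submodule.injective_subtype _, Submodule.range_subtype _⟩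
  obtain ⟨p, hp⟩ : m ∈ LinearMap.range θ := hθr ▸ Submodule.mem_span_singleton_self m
  have hpg : p ∈ P.gr g₀ := by
    have h : p = cmp P.gr g₀ p := hθinj (by rw [hθ.cmp, hp, cmp_of_mem _ hm])
    rw [h]
    exact cmp_mem P.gr g₀ p
  let f₀ : (R ⧸ q.toIdeal) →ₗ[R] P.carrier := Submodule.liftQ q.toIdeal (LinearMap.toSpanSingleton R P.carrier p)
    fun r hr => hθinj (by
      change θ (r • p) = θ 0
      rw [map_smul, hp, (hmem r).1 hr, map_zero])
  have hf₀ : Function.Bijective f₀ := by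
    refine ⟨fun a b hab => ?_, fun z => ?_⟩
    · obtain ⟨a, rfl⟩ := Ideal.Quotient.mk_surjective a
      obtain ⟨b, rfl⟩ := Ideal.Quotient.mk_surjective b
      refine Ideal.Quotient.eq.2 ((hmem _).2 ?_)
      have h : a • p = b • p := hab
      rw [← hp, ← map_smul, sub_smul, h, sub_self, map_zero]
    · obtain ⟨c, hc⟩ := Submodule.mem_span_singleton.1 (hθr ▸ ⟨z, rfl⟩ : θ z ∈ Submodule.span R {m})
      exact ⟨Ideal.Quotient.mk _ c, hθinj (by
        change θ (c • p) = θ z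
        rw [map_smul, hp, hc])⟩
  obtain ⟨X, e, he⟩ := exists_hull P
  obtain ⟨ψ, hψ, hψe⟩ := hI P X e he.grHom he.injective θ hθ
  have hψinj : Function.Injective ψ := injective_of_comp_injective he.toIsStarEss hψ (hψe ▸ hθinj)
  obtain ⟨h, hh, hid⟩ := he.starInj X I ψ hψ hψinj LinearMap.id IsHom.id
  refine ⟨X, e ∘ₗ f₀, ψ, LinearMap.ker h, ⟨⟨he.injective.comp hf₀.1, ?_, ?_⟩, he.starInj⟩, hψinj, hψ, ?_,
    isHomogeneous_ker hh, ?_⟩
  · rintro j _ ⟨a, ha, rfl⟩
    refine he.grHom j _ ?_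
    have h1 : a • p ∈ P.gr (j - g₀ + g₀) := smul_mem' P.gr (show a ∈ 𝒜 (j - g₀) from ha) hpg
    rw [sub_add_cancel] at h1
    exact h1
  · intro T hT hne
    rw [LinearMap.range_comp_of_range_eq_top _ (LinearMap.range_eq_top.2 hf₀.2)]
    exact he.essential T hT hne
  · change ψ (e (f₀ 1)) = m
    rw [show f₀ 1 = (1 : R) • p from rfl, one_smul, ← hp]
    exact LinearMap.congr_fun hψe p
  · refine IsCompl.of_eq ((Submodule.eq_bot_iff _).2 ?_) (Submodule.eq_top_iff'.2 fun x => ?_)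
    · rintro _ ⟨⟨x, rfl⟩, hx⟩
      have h1 : h (ψ x) = 0 := hx
      rw [← LinearMap.comp_apply, hid] at h1
      rw [show x = 0 from h1, map_zero]
    · refine Submodule.mem_sup.2 ⟨_, ⟨h x, rfl⟩, x - ψ (h x), ?_, add_sub_cancel _ _⟩
      change h (x - ψ (h x)) = 0
      rw [map_sub, ← LinearMap.comp_apply h ψ, hid]
      exact sub_self (h x)

theorem exists_hull_of_indec [Module.Free ℤ ι] [Module.Finite ℤ ι] [IsNoetherianRing R] {I : GMod.{u} 𝒜}
    (hI : IsStarInj 𝒜 I.gr) (hind : IsStarIndec R I.gr) :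
    ∃ (q : HomogeneousIdeal 𝒜) (g₀ : ι) (f : (R ⧸ q.toIdeal) →ₗ[R] I.carrier), q.toIdeal.IsPrime ∧
      IsStarInjHull 𝒜 (fun j : ι => quotGr 𝒜 q (j - g₀)) I.gr f := by
  have := hind.1
  obtain ⟨q, g₀, m, hq, hm, hann⟩ := exists_prime_annihilator I
  obtain ⟨X, f, ψ, Q, hf, hψinj, hψ, hψm, hQ, hc⟩ := exists_summand_hull hI q g₀ m hm hann
  have hQ0 : Q = ⊥ := by
    refine (hind.2 _ _ (isHomogeneous_range hψ) hQ hc).resolve_left fun h => ?_
    have h1 : m = 0 := (Submodule.eq_bot_iff _).1 h m ⟨_, hψm⟩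
    refine (Ideal.IsPrime.ne_top hq) ?_
    rw [← hann, h1, Submodule.span_zero_singleton, Submodule.annihilator_bot]
  have hsurj : Function.Surjective ψ := LinearMap.range_eq_top.1 (by simpa [hQ0] using hc.sup_eq_top)
  refine ⟨q, g₀, ψ ∘ₗ f, hq, ⟨⟨hψinj.comp hf.injective, fun j x hx => hψ j _ (hf.grHom j x hx), fun T hT hne => ?_⟩,
    hI⟩⟩
  have h1 : (T.comap ψ).IsHomogeneous X.gr := fun g x hx => by
    change ψ (cmp X.gr g x) ∈ T
    rw [hψ.cmp]
    exact hT g hx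
  obtain ⟨z, ⟨hz, a, ha⟩, hz0⟩ := (Submodule.ne_bot_iff _).1 (hf.essential _ h1 (fun h => hne
    ((Submodule.map_comap_eq_of_surjective hsurj T).symm.trans ((congrArg (Submodule.map ψ) h).trans
      (Submodule.map_bot _)))))
  exact (Submodule.ne_bot_iff _).2 ⟨ψ z, ⟨hz, a, congrArg ψ ha⟩, fun h => hz0 (hψinj (h.trans (map_zero ψ).symm))⟩

end GrothLib.GrLC
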