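import Groth.Agent.Lib.GrLC.SocTop
import Groth.Agent.Lib.GrLC.CanonGor
import Groth.Prelude.Def_GrLC2
import Mathlib.LinearAlgebra.TensorProduct.Quotient

/-!
# Bass numbers of a Cohen–Macaulay ring and of its canonical module
-/

universe u

open CategoryTheory CategoryTheory.Abelian
open scoped TensorProduct

namespace GrothLib.GrLC

noncomputable section

section Local

variable {A : Type u} [CommRing A] [LocCoh.IsCohenMacaulayLocalRing A] {K : Type u} [AddCommGroup K] [Module A K]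
  [Module.Finite A K] {E : Type u} [AddCommGroup E] [Module A E] {n : ℕ} {f : IsLocalRing.ResidueField A →ₗ[A] E}
  (hn : ringKrullDim A = n) (hf : InjHull.IsInjectiveHull f)
  (eK : (K →ₗ[A] E) ≃ₗ[A] LocCoh.H (IsLocalRing.maximalIdeal A) n A)

local notation "𝔪" => IsLocalRing.maximalIdeal A

omit [Module.Finite A K] in
theorem isFiniteLength_of_killed [Module.Finite A K] (h : ∀ a ∈ 𝔪, ∀ z : K, a • z = 0) : IsFiniteLength A K := by
  have hkill : ∀ a ∈ 𝔪 ^ 1, ∀ z : K, a • z = 0 := fun a ha => h a (by rwa [pow_one] at ha)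
  haveI : IsArtinian A K := (GrothLib.LC.finite_iff_isArtinian_of_pow_smul 𝔪 hkill).1 inferInstance
  exact isFiniteLength_iff_isNoetherian_isArtinian.2 ⟨inferInstance, inferInstance⟩

include hn hf eK in
/-- The type of a canonical module is one. -/
theorem length_ext_canonical :
    Module.length A (Ext (ModuleCat.of A (A ⧸ 𝔪)) (ModuleCat.of A K) n) = 1 := by
  obtain ⟨e⟩ := GrothLib.CanonMod.local_duality hn hf (GrothLib.CanonMod.cm_le_idealDepth hn) eK n
    (ModuleCat.of A (A ⧸ 𝔪)) le_rfl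
  rw [Nat.sub_self] at e
  have hkill : ∀ a ∈ 𝔪, ∀ z : Ext (ModuleCat.of A (A ⧸ 𝔪)) (ModuleCat.of A K) n, a • z = 0 :=
    fun a ha z => GrothLib.GrLC.smul_quotient_eq_zero (ModuleCat.of A K) n ha z
  rw [← GrothLib.Matlis.length_linearMap hf (isFiniteLength_of_killed hkill), ← e.length_eq,
    ← (GrothLib.LC.torsionEquiv 𝔪 (ModuleCat.of A (A ⧸ 𝔪))).length_eq]
  have htop : DRing.torsionSub 𝔪 (A ⧸ 𝔪) = ⊤ := (GrothLib.LC.torsionSub_eq_top_iff (I := 𝔪)).2 fun x =>
    ⟨1, fun a ha => by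
      obtain ⟨x, rfl⟩ := Ideal.Quotient.mk_surjective x
      rw [pow_one] at ha
      exact Ideal.Quotient.eq_zero_iff_mem.2 (Ideal.mul_mem_right x _ ha)⟩
  haveI : IsSimpleModule A (A ⧸ 𝔪) :=
    isSimpleModule_iff_isCoatom.2 (Ideal.isMaximal_def.1 (IsLocalRing.maximalIdeal.isMaximal A))
  change Module.length A (DRing.torsionSub 𝔪 (A ⧸ 𝔪)) = 1
  rw [(LinearEquiv.ofTop _ htop).length_eq, Module.length_eq_one]

include hn hf eK in
/-- The type of the ring is the number of generators of a canonical module. -/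
theorem length_ext_self :
    Module.length A (Ext (ModuleCat.of A (A ⧸ 𝔪)) (ModuleCat.of A A) n) = Module.length A ((A ⧸ 𝔪) ⊗[A] K) := by
  have hE : ∀ i, i < n → Subsingleton (Ext (ModuleCat.of A (A ⧸ 𝔪)) (ModuleCat.of A A) i) :=
    (GrothLib.Depth.le_idealDepth_iff_ext (M := A) 𝔪 n).1 (GrothLib.CanonMod.cm_le_idealDepth hn)
  obtain ⟨e⟩ := SocTop.exists_socle_equiv n hE
  let q : (A ⧸ 𝔪 ^ 1) ≃ₗ[A] A ⧸ 𝔪 := Submodule.quotEquivOfEq _ _ (pow_one _)
  rw [(LinearEquiv.ofBijective _ (GrothLib.Gor.precompLM_bijective_of_iso q.toModuleIso n)).length_eq]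
  refine e.length_eq.trans ?_
  let J : Submodule A K := 𝔪 • ⊤
  let Φ : (K ⧸ J →ₗ[A] E) →ₗ[A] LocCoh.H 𝔪 n A := eK.toLinearMap ∘ₗ LinearMap.lcomp A E J.mkQ
  have hΦ : Function.Injective Φ :=
    eK.injective.comp (LinearMap.lcomp_injective_of_surjective _ J.mkQ_surjective)
  have hrange : LinearMap.range Φ = LocCoh.torsionBy 𝔪 (LocCoh.H 𝔪 n A) := by
    refine le_antisymm ?_ fun h hh => ?_
    · rintro _ ⟨g, rfl⟩
      refine (Submodule.mem_torsionBySet_iff _ _).2 fun a => ?_
      have : (a : A) • g = 0 := LinearMap.ext fun z => by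
        obtain ⟨z, rfl⟩ := Submodule.Quotient.mk_surjective _ z
        rw [LinearMap.smul_apply, ← map_smul, ← Submodule.Quotient.mk_smul,
          (Submodule.Quotient.mk_eq_zero J).2 (Submodule.smul_mem_smul a.2 trivial), map_zero, LinearMap.zero_apply]
      rw [← map_smul, this, map_zero]
    · have hk : ∀ a : A, a ∈ 𝔪 → a • eK.symm h = 0 := fun a ha => by
        rw [← map_smul, (Submodule.mem_torsionBySet_iff _ _).1 hh ⟨a, ha⟩, map_zero]
      have hle : J ≤ LinearMap.ker (eK.symm h) := Submodule.smul_le.2 fun a ha z _ => by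
        rw [LinearMap.mem_ker, map_smul]
        exact LinearMap.congr_fun (hk a ha) z
      refine ⟨J.liftQ (eK.symm h) hle, ?_⟩
      change eK ((J.liftQ (eK.symm h) hle).comp J.mkQ) = h
      rw [Submodule.liftQ_mkQ, LinearEquiv.apply_symm_apply]
  rw [(TensorProduct.quotTensorEquivQuotSMul K 𝔪).length_eq]
  refine ((LinearEquiv.ofInjective Φ hΦ).trans (LinearEquiv.ofEq _ _ hrange)).length_eq.symm.trans ?_
  refine GrothLib.Matlis.length_linearMap hf (isFiniteLength_of_killed (K := K ⧸ J) fun a ha z => ?_)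
  obtain ⟨z, rfl⟩ := Submodule.Quotient.mk_surjective _ z
  exact (Submodule.Quotient.mk_eq_zero J).2 (Submodule.smul_mem_smul ha trivial)

end Local

section Global

variable {R : Type u} [CommRing R] (m : Ideal R) [m.IsMaximal] (C : Type u) [AddCommGroup C] [Module R C]
  [Module.Finite R C]

local notation "A" => Localization.AtPrime m
local notation "κ" => A ⧸ IsLocalRing.maximalIdeal A

theorem length_residue_tensor_localization :
    Module.length A (κ ⊗[A] LocalizedModule m.primeCompl C) =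
      (Module.finrank (R ⧸ m) ((R ⧸ m) ⊗[R] C) : ℕ∞) := by
  let e : κ ⊗[A] LocalizedModule m.primeCompl C ≃ₗ[A] κ ⊗[R] C :=
    TensorProduct.congr (LinearEquiv.refl A κ) (LocalizedModule.equivTensorProduct m.primeCompl C) ≪≫ₗ
      (TensorProduct.AlgebraTensorModule.cancelBaseChange R A κ κ C).restrictScalars A
  rw [e.length_eq, Module.length_eq_of_surjective (S := A) (R := κ) (M := κ ⊗[R] C) Ideal.Quotient.mk_surjective]
  have hsurj : Function.Surjective (algebraMap R κ) := fun z => by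
    obtain ⟨x, hx⟩ := (IsLocalization.AtPrime.equivQuotMaximalIdeal m A).surjective z
    obtain ⟨x, rfl⟩ := Ideal.Quotient.mk_surjective x
    exact ⟨x, hx⟩
  rw [← Module.length_eq_of_surjective (S := R) (R := κ) (M := κ ⊗[R] C) hsurj]
  let π : (R ⧸ m) →ₗ[R] κ :=
    { toFun := fun x => IsLocalization.AtPrime.equivQuotMaximalIdeal m A x
      map_add' := fun a b => map_add _ a b
      map_smul' := fun r x => by
        obtain ⟨x, rfl⟩ := Ideal.Quotient.mk_surjective x
        rw [RingHom.id_apply, Algebra.smul_def, Algebra.smul_def, map_mul]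
        rfl }
  let e2 : (R ⧸ m) ⊗[R] C ≃ₗ[R] κ ⊗[R] C :=
    TensorProduct.congr (LinearEquiv.ofBijective π (IsLocalization.AtPrime.equivQuotMaximalIdeal m A).bijective)
      (LinearEquiv.refl R C)
  rw [← e2.length_eq, Module.length_eq_of_surjective (S := R) (R := R ⧸ m) Ideal.Quotient.mk_surjective]
  letI := Ideal.Quotient.field m
  exact Module.length_eq_finrank (R ⧸ m) ((R ⧸ m) ⊗[R] C)

end Global

section Bass

variable {R : Type u} [CommRing R] [LocCoh.IsCohenMacaulayRing R] {σ : Type u} [SetLike σ R] [AddSubgroupClass σ R]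
  {𝒜 : ℤ → σ} [GradedRing 𝒜] (hpos : ∀ n : ℤ, n < 0 → ∀ r ∈ 𝒜 n, r = 0)
  {m : HomogeneousIdeal 𝒜} (hm : _root_.GrLC.IsStarLocal 𝒜 m) {n : ℕ} (hn : ringKrullDim R = n)
  {E' : Type u} [AddCommGroup E'] [Module R E'] {𝓔 : ℤ → AddSubgroup E'} [DirectSum.Decomposition 𝓔]
  [SetLike.GradedSMul 𝒜 𝓔] {e : (R ⧸ m.toIdeal) →ₗ[R] E'}
  (he : _root_.GrLC.IsStarInjHull 𝒜 (_root_.GrLC.quotGr 𝒜 m) 𝓔 e)
  {I : _root_.GrLC.StarInjRes 𝒜 𝒜}
  {C : Type u} [AddCommGroup C] [Module R C] {𝒞 : ℤ → AddSubgroup C} [DirectSum.Decomposition 𝒞]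
  [SetLike.GradedSMul 𝒜 𝒞] (hC : _root_.GrLC.IsStarCanonical 𝒜 𝒞 𝓔 m n I)

include hpos hm hn he hC in
/-- The type of a Cohen–Macaulay graded ring is the number of generators of its canonical module. -/
theorem bassNum_self_eq [m.toIdeal.IsMaximal] :
    _root_.GrLC.bassNum m.toIdeal R n = (Module.finrank (R ⧸ m.toIdeal) ((R ⧸ m.toIdeal) ⊗[R] C) : ℕ∞) := by
  have : Module.Finite R C := hC.1
  let A := Localization.AtPrime m.toIdeal
  have := LocCoh.IsCohenMacaulayRing.isCohenMacaulayLocalRing_localization (R := R) m.toIdeal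
  obtain ⟨E₀, _, _, f, hf, ⟨eK⟩⟩ := exists_local_canonical he hC
  let φ : LocalizedModule m.toIdeal.primeCompl R ≃ₗ[A] A :=
    LocalizedModule.equivTensorProduct m.toIdeal.primeCompl R ≪≫ₗ TensorProduct.AlgebraTensorModule.rid R A A
  let post : Ext.{u} (ModuleCat.of A (A ⧸ IsLocalRing.maximalIdeal A))
        (ModuleCat.of A (LocalizedModule m.toIdeal.primeCompl R)) n ≃ₗ[A]
      Ext.{u} (ModuleCat.of A (A ⧸ IsLocalRing.maximalIdeal A)) (ModuleCat.of A A) n :=
    { toFun := fun e => e.comp (Ext.mk₀ φ.toModuleIso.hom) (add_zero n)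
      invFun := fun e => e.comp (Ext.mk₀ φ.toModuleIso.inv) (add_zero n)
      left_inv := fun e => by
        dsimp only
        rw [Ext.comp_assoc_of_second_deg_zero, Ext.mk₀_comp_mk₀, Iso.hom_inv_id, Ext.comp_mk₀_id]
      right_inv := fun e => by
        dsimp only
        rw [Ext.comp_assoc_of_second_deg_zero, Ext.mk₀_comp_mk₀, Iso.inv_hom_id, Ext.comp_mk₀_id]
      map_add' := fun a b => Ext.add_comp _ _ _ _
      map_smul' := fun r a => Ext.smul_comp _ _ _ _ }
  exact (post.length_eq.trans (length_ext_self (ringKrullDim_localization hpos hm hn) hf eK)).trans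
    (length_residue_tensor_localization m.toIdeal C)

end Bass

end

end GrothLib.GrLC
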