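import Groth.Agent.Lib.GrLC.CoreHeight
import Groth.Agent.Lib.GrLC.ExtVanish
import Groth.Agent.S14424

/-!
# Graded local cohomology of a Cohen–Macaulay *local ring below the dimension
-/

universe u

open DirectSum

namespace GrothLib.GrLC

variable {R : Type u} [CommRing R] [LocCoh.IsCohenMacaulayRing R] {σ : Type u} [SetLike σ R] [AddSubgroupClass σ R]
  {𝒜 : ℤ → σ} [GradedRing 𝒜]

theorem H_subsingleton_of_lt_dim (hpos : ∀ n : ℤ, n < 0 → ∀ r ∈ 𝒜 n, r = 0) {m : HomogeneousIdeal 𝒜}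
    (hm : _root_.GrLC.IsStarLocal 𝒜 m) {n : ℕ} (hn : ringKrullDim R = n)
    (I : _root_.GrLC.StarInjRes 𝒜 𝒜) {i : ℕ} (hi : i < n) : Subsingleton (I.H m i) := by
  have hne := (isMaximal_of_isStarLocal hpos hm).ne_top
  have h := (Groth.Agent.S14424.result R).1 inferInstance m.toIdeal hne
  have hh : (n : ℕ∞) = m.toIdeal.height := WithBot.coe_injective (hn.symm.trans (ringKrullDim_eq_height hpos hm))
  rw [← hh] at h
  have := (GrothLib.Depth.le_idealDepth_iff_H m.toIdeal (M := R) n).1 h.ge i hi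
  obtain ⟨e⟩ := nonempty_EH_equiv I m i
  exact e.toEquiv.subsingleton

theorem Hcomp_eq_bot_of_lt_dim (hpos : ∀ n : ℤ, n < 0 → ∀ r ∈ 𝒜 n, r = 0) {m : HomogeneousIdeal 𝒜}
    (hm : _root_.GrLC.IsStarLocal 𝒜 m) {n : ℕ} (hn : ringKrullDim R = n)
    (I : _root_.GrLC.StarInjRes 𝒜 𝒜) {i : ℕ} (hi : i < n) (g : ℤ) : I.Hcomp m i g = ⊥ := by
  have := H_subsingleton_of_lt_dim hpos hm hn I hi
  exact (Submodule.eq_bot_iff _).2 fun x _ => Subsingleton.elim (α := I.H m i) x 0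

end GrothLib.GrLC
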