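import Groth.Agent.Lib.GrLC.Loc
import Mathlib.RingTheory.Filtration
import Mathlib.RingTheory.Noetherian.Basic
import Mathlib.RingTheory.Finiteness.Ideal

/-!
# The graded Čech complex; *injective modules have no higher Čech cohomology
-/

universe u

open DirectSum

namespace GrothLib.GrLC

open _root_.GrLC (GMod IsGrHom IsStarInj gam)

variable {ι : Type} [AddCommGroup ι] [DecidableEq ι] {R : Type u} [CommRing R] {σ : Type u} [SetLike σ R]
  [AddSubgroupClass σ R] {𝒜 : ι → σ} [GradedRing 𝒜]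

theorem cmp_eq_proj (X : GMod.{u} 𝒜) {g : ι} (p : X.carrier →+ X.carrier) (h1 : ∀ x ∈ X.gr g, p x = x)
    (h2 : ∀ h, h ≠ g → ∀ x ∈ X.gr h, p x = 0) (x : X.carrier) : cmp X.gr g x = p x := by
  induction x using gr_induction X.gr with
  | h0 => rw [map_zero, map_zero]
  | hh h x hx =>
    by_cases e : h = g
    · subst e; rw [cmp_of_mem _ hx, h1 x hx]
    · rw [cmp_of_mem_ne _ hx e, h2 h e x hx]
  | hadd a b ha hb => rw [map_add, map_add, ha, hb]

variable (x : HElt 𝒜)

/-- the terms of the extension of a complex by `x` -/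
noncomputable def extX (C : GCx.{u} 𝒜) : ℕ → GMod.{u} 𝒜
  | 0 => C.X 0
  | n + 1 => prod (C.X (n + 1)) (GrLC.loc x (C.X n))

/-- the differentials of the extension of a complex by `x` -/
noncomputable def extd (C : GCx.{u} 𝒜) : ∀ n, (extX x C n).carrier →ₗ[R] (extX x C (n + 1)).carrier
  | 0 => LinearMap.prod (C.d 0) (toLoc x)
  | n + 1 => LinearMap.prod (C.d (n + 1) ∘ₗ LinearMap.fst R (C.X (n + 1)).carrier _)
      (toLoc x ∘ₗ LinearMap.fst R (C.X (n + 1)).carrier _ -
        locMap x (C.d n) ∘ₗ LinearMap.snd R (C.X (n + 1)).carrier _)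

/-- the fibre of `C → C_x` -/
noncomputable def ext (C : GCx.{u} 𝒜) : GCx.{u} 𝒜 where
  X := extX x C
  d := extd x C
  d_hom := fun
    | 0 => fun g z hz => ⟨C.d_hom 0 g z hz, isHom_toLoc x (C.X 0) g z hz⟩
    | n + 1 => fun g z hz => ⟨C.d_hom (n + 1) g _ hz.1,
        AddSubgroup.sub_mem _ (isHom_toLoc x (C.X (n + 1)) g _ hz.1) (isHom_locMap x (C.d_hom n) g _ hz.2)⟩
  d_d := fun
    | 0, z => by
      refine Prod.ext (C.d_d 0 z) ?_
      change toLoc x (C.d 0 z) - locMap x (C.d 0) (toLoc x z) = 0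
      rw [locMap_toLoc, sub_self]
    | n + 1, z => by
      refine Prod.ext (C.d_d (n + 1) z.1) ?_
      change toLoc x (C.d (n + 1) z.1) - locMap x (C.d (n + 1)) (toLoc x z.1 - locMap x (C.d n) z.2) = 0
      rw [map_sub, locMap_toLoc, sub_sub_eq_add_sub, add_sub_cancel_left]
      exact (C.loc x).d_d n z.2

/-- the components of the map of extensions -/
noncomputable def extMapF {C D : GCx.{u} 𝒜} (φ : Mor C D) :
    ∀ n, (extX x C n).carrier →ₗ[R] (extX x D n).carrier
  | 0 => φ.f 0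
  | n + 1 => LinearMap.prodMap (φ.f (n + 1)) (locMap x (φ.f n))

theorem locMap_comm {C D : GCx.{u} 𝒜} (φ : Mor C D) (n : ℕ) (q : (GrLC.loc x (C.X n)).carrier) :
    locMap x (D.d n) (locMap x (φ.f n) q) = locMap x (φ.f (n + 1)) (locMap x (C.d n) q) := by
  obtain ⟨k, m, rfl⟩ := exists_fr x q
  rw [locMap_fr, locMap_fr, φ.comm]
  refine Eq.symm ?_
  rw [show locMap x (C.d n) (fr x k m) = fr x k (C.d n m) from locMap_fr x _ k m, locMap_fr]

/-- functoriality of the extension -/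
noncomputable def extMap {C D : GCx.{u} 𝒜} (φ : Mor C D) : Mor (ext x C) (ext x D) where
  f := extMapF x φ
  hom := fun
    | 0 => φ.hom 0
    | n + 1 => fun g z hz => ⟨φ.hom (n + 1) g _ hz.1, isHom_locMap x (φ.hom n) g _ hz.2⟩
  comm := fun
    | 0, z => Prod.ext (φ.comm 0 z) (locMap_toLoc x (φ.f 0) z).symm
    | n + 1, z => by
      refine Prod.ext (φ.comm (n + 1) z.1) ?_
      change toLoc x (φ.f (n + 1) z.1) - locMap x (D.d n) (locMap x (φ.f n) z.2) =
        locMap x (φ.f (n + 1)) (toLoc x z.1 - locMap x (C.d n) z.2)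
      rw [map_sub, locMap_toLoc, locMap_comm]

theorem extMap_bijective {C D : GCx.{u} 𝒜} (φ : Mor C D) (h : ∀ n, Function.Bijective (φ.f n)) :
    ∀ n, Function.Bijective ((extMap x φ).f n)
  | 0 => h 0
  | n + 1 => Function.Bijective.prodMap (h (n + 1)) ⟨locMap_injective x (h n).1, locMap_surjective x (h n).2⟩

theorem SES.ext {A B C : GCx.{u} 𝒜} {φ : Mor A B} {ψ : Mor B C} (S : SES φ ψ) :
    SES (extMap x φ) (extMap x ψ) where
  inj := fun
    | 0 => S.inj 0
    | n + 1 => Function.Injective.prodMap (S.inj (n + 1)) (locMap_injective x (S.inj n))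
  surj := fun
    | 0 => S.surj 0
    | n + 1 => Function.Surjective.prodMap (S.surj (n + 1)) (locMap_surjective x (S.surj n))
  exact := fun
    | 0 => S.exact 0
    | n + 1 => fun z => by
      constructor
      · intro hz
        obtain ⟨a, ha⟩ := (S.exact (n + 1) z.1).1 (congrArg Prod.fst hz)
        obtain ⟨b, hb⟩ := (locMap_exact x (S.exact n) z.2).1 (congrArg Prod.snd hz)
        exact ⟨((a, b) : _ × _), Prod.ext ha hb⟩
      · rintro ⟨w, rfl⟩
        exact Prod.ext ((S.exact (n + 1) _).2 ⟨w.1, rfl⟩) ((locMap_exact x (S.exact n) _).2 ⟨w.2, rfl⟩)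

variable (X : GMod.{u} 𝒜)

/-- the zero module -/
noncomputable abbrev zeroMod : GMod.{u} 𝒜 := sub X ⊥ isHomogeneous_bot

/-- the terms of the complex `X` in spot `0` -/
noncomputable def singleX : ℕ → GMod.{u} 𝒜
  | 0 => X
  | _ + 1 => zeroMod X

/-- `X` in spot `0` -/
noncomputable def single : GCx.{u} 𝒜 where
  X := singleX X
  d _ := 0
  d_hom _ := IsHom.zero
  d_d _ _ := rfl

theorem singleX_succ_eq_zero (n : ℕ) (z : (singleX X (n + 1)).carrier) : z = 0 :=
  Subtype.ext ((Submodule.mem_bot R).1 z.2)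

/-- the Čech complex on a list of homogeneous elements -/
noncomputable def cech : List (HElt 𝒜) → GCx.{u} 𝒜
  | [] => single X
  | x :: l => ext x (cech l)

/-- the identification of the `0`-th term -/
noncomputable def inc0 : ∀ l : List (HElt 𝒜), X.carrier →ₗ[R] ((cech X l).X 0).carrier
  | [] => LinearMap.id
  | _ :: l => inc0 l

theorem inc0_bijective : ∀ l : List (HElt 𝒜), Function.Bijective (inc0 X l)
  | [] => Function.bijective_id
  | _ :: l => inc0_bijective l

theorem isHom_inc0 : ∀ l : List (HElt 𝒜), IsHom (X := X) (Y := (cech X l).X 0) (inc0 X l)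
  | [] => fun _ _ hm => hm
  | _ :: l => isHom_inc0 l

variable {X} {Y Z : GMod.{u} 𝒜}

/-- functoriality of `single` -/
noncomputable def singleMap (f : X.carrier →ₗ[R] Y.carrier) (hf : IsHom f) : Mor (single X) (single Y) where
  f := fun
    | 0 => f
    | _ + 1 => 0
  hom := fun
    | 0 => hf
    | _ + 1 => IsHom.zero
  comm := fun
    | 0, _ => rfl
    | _ + 1, _ => rfl

/-- functoriality of the Čech complex -/
noncomputable def cechMap (f : X.carrier →ₗ[R] Y.carrier) (hf : IsHom f) :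
    ∀ l : List (HElt 𝒜), Mor (cech X l) (cech Y l)
  | [] => singleMap f hf
  | x :: l => extMap x (cechMap f hf l)

theorem cechMap_inc0 (f : X.carrier →ₗ[R] Y.carrier) (hf : IsHom f) :
    ∀ (l : List (HElt 𝒜)) (m : X.carrier), (cechMap f hf l).f 0 (inc0 X l m) = inc0 Y l (f m)
  | [], _ => rfl
  | _ :: l, m => cechMap_inc0 f hf l m

theorem cechMap_ses {f : X.carrier →ₗ[R] Y.carrier} (hf : IsHom f) {g : Y.carrier →ₗ[R] Z.carrier} (hg : IsHom g)
    (h1 : Function.Injective f) (h2 : Function.Surjective g) (h3 : Function.Exact f g) :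
    ∀ l : List (HElt 𝒜), SES (cechMap f hf l) (cechMap g hg l)
  | [] =>
    { inj := fun
        | 0 => h1
        | n + 1 => fun a b _ => (singleX_succ_eq_zero X n a).trans (singleX_succ_eq_zero X n b).symm
      surj := fun
        | 0 => h2
        | n + 1 => fun b => ⟨0, (singleX_succ_eq_zero Z n _).trans (singleX_succ_eq_zero Z n b).symm⟩
      exact := fun
        | 0 => h3
        | n + 1 => fun b => ⟨fun _ => ⟨0, (map_zero _).trans (singleX_succ_eq_zero Y n b).symm⟩,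
            fun _ => singleX_succ_eq_zero Z n _⟩ }
  | x :: l => (cechMap_ses hf hg h1 h2 h3 l).ext x

theorem cechMap_bijective (f : X.carrier →ₗ[R] Y.carrier) (hf : IsHom f) (h : Function.Bijective f) :
    ∀ (l : List (HElt 𝒜)) (n : ℕ), Function.Bijective ((cechMap f hf l).f n)
  | [], 0 => h
  | [], n + 1 => ⟨fun a b _ => (singleX_succ_eq_zero X n a).trans (singleX_succ_eq_zero X n b).symm,
      fun b => ⟨0, (map_zero _).trans (singleX_succ_eq_zero Y n b).symm⟩⟩
  | x :: l, n => extMap_bijective x _ (cechMap_bijective f hf h l) n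

/-- the ideal spanned by a list of homogeneous elements -/
noncomputable def hspan (l : List (HElt 𝒜)) : HomogeneousIdeal 𝒜 :=
  ⟨Ideal.span {r | ∃ y ∈ l, y.val = r}, Ideal.homogeneous_span _ _
    fun _ hr => by obtain ⟨y, -, rfl⟩ := hr; exact ⟨y.deg, y.mem⟩⟩

theorem toIdeal_hspan (l : List (HElt 𝒜)) : (hspan l).toIdeal = Ideal.span {r | ∃ y ∈ l, y.val = r} := rfl

theorem forall_list_iff_mem_gam {M : Type u} [AddCommGroup M] [Module R M] (l : List (HElt 𝒜)) (m : M) :
    (∀ y ∈ l, ∃ k : ℕ, y.val ^ k • m = 0) ↔ m ∈ gam (hspan l).toIdeal M := by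
  constructor
  · intro h
    have hfg : (hspan l).toIdeal.FG :=
      Submodule.fg_def.2 ⟨{r | ∃ y ∈ l, y.val = r},
        ((List.finite_toSet l).image HElt.val).subset (by rintro r ⟨y, hy, rfl⟩; exact ⟨y, hy, rfl⟩), rfl⟩
    have hle : (hspan l).toIdeal ≤ Ideal.radical (LinearMap.ker (LinearMap.toSpanSingleton R M m)) :=
      Ideal.span_le.2 fun r hr => by
        obtain ⟨y, hy, rfl⟩ := hr
        obtain ⟨k, hk⟩ := h y hy
        exact ⟨k, hk⟩
    obtain ⟨N, hN⟩ := Ideal.exists_pow_le_of_le_radical_of_fg hle hfg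
    exact ⟨N, fun r hr => hN hr⟩
  · rintro ⟨n, hn⟩ y hy
    exact ⟨n, hn _ (Ideal.pow_mem_pow (Ideal.subset_span (show y.val ∈ {r | ∃ y ∈ l, y.val = r} from ⟨y, hy, rfl⟩)) n)⟩

theorem cyc_zero_iff : ∀ (l : List (HElt 𝒜)) (m : X.carrier),
    (cech X l).d 0 (inc0 X l m) = 0 ↔ ∀ y ∈ l, ∃ k : ℕ, y.val ^ k • m = 0
  | [], m => by simp; rfl
  | x :: l, m => by
    rw [List.forall_mem_cons]
    constructor
    · intro h
      obtain ⟨k, hk⟩ := (toLoc_eq_zero_iff x _).1 (congrArg Prod.snd h)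
      exact ⟨⟨k, (inc0_bijective X l).1 (by rw [map_zero, map_smul]; exact hk)⟩,
        (cyc_zero_iff l m).1 (congrArg Prod.fst h)⟩
    · rintro ⟨⟨k, hk⟩, h⟩
      refine Prod.ext ((cyc_zero_iff l m).2 h) ((toLoc_eq_zero_iff x _).2 ⟨k, ?_⟩)
      change x.val ^ k • inc0 X l m = 0
      rw [← map_smul, hk, map_zero]

theorem mem_cyc_zero (l : List (HElt 𝒜)) (m : X.carrier) :
    inc0 X l m ∈ (cech X l).cyc 0 ↔ m ∈ gam (hspan l).toIdeal X.carrier :=
  (cyc_zero_iff l m).trans (forall_list_iff_mem_gam l m)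

section Injective

variable [IsNoetherianRing R] {I : GMod.{u} 𝒜} (hI : IsStarInj 𝒜 I.gr)

include hI

/-- Division by `x` inside a torsion submodule of a *injective module. -/
theorem exists_div (J : HomogeneousIdeal 𝒜) {g : ι} {w : I.carrier} (hw : w ∈ I.gr g)
    (hJ : ∀ j ∈ J.toIdeal, j • w = 0) (n : ℕ) :
    ∃ y : I.carrier, (∃ N : ℕ, ∀ r ∈ J.toIdeal ^ N, r • y = 0) ∧ fr x 0 y = fr x n w := by
  obtain ⟨k, hk⟩ := monotone_stabilizes_iff_noetherian.2 (inferInstance : IsNoetherian R R)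
    { toFun := fun i => LinearMap.ker (LinearMap.mul R R (x.val ^ i))
      monotone' := fun i j hij r (hr : x.val ^ i * r = 0) => by
        change x.val ^ j * r = 0
        obtain ⟨d, rfl⟩ := Nat.exists_eq_add_of_le hij
        rw [pow_add, mul_comm (x.val ^ i), mul_assoc, hr, mul_zero] }
  obtain ⟨c, hc⟩ := Ideal.exists_pow_inf_eq_pow_smul J.toIdeal (Ideal.span {x.val ^ (n + k)} : Submodule R R)
  let A : GMod.{u} 𝒜 := shift (gmod 𝒜 𝒜) (-(g + k • x.deg))
  let P₀ : Submodule R (gmod 𝒜 𝒜).carrier := (J.toIdeal ^ (c + 1) : Ideal R)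
  have hP₀ : P₀.IsHomogeneous (gmod 𝒜 𝒜).gr :=
    fun i r hr => by
      have e := cmp_eq_proj (gmod 𝒜 𝒜) (g := i) (cmp (M := R) 𝒜 i) (fun y hy => cmp_of_mem 𝒜 hy)
        (fun h hne y hy => cmp_of_mem_ne 𝒜 hy hne) r
      exact (congrArg (· ∈ (J.toIdeal ^ (c + 1) : Submodule R R)) e).mpr (pow_isHomogeneous J (c + 1) i hr)
  let B : GMod.{u} 𝒜 := shift (quot (gmod 𝒜 𝒜) P₀ hP₀) (n • x.deg - g)
  let μ : A.carrier →ₗ[R] B.carrier :=
    (Submodule.mkQ (J.toIdeal ^ (c + 1) : Submodule R R)) ∘ₗ LinearMap.mul R R (x.val ^ (n + k))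
  let η : A.carrier →ₗ[R] I.carrier := LinearMap.toSpanSingleton R I.carrier (x.val ^ k • w)
  have hμ : IsHom μ := fun t (r : R) hr => by
    refine ⟨x.val ^ (n + k) * r, ?_, rfl⟩
    change x.val ^ (n + k) * r ∈ 𝒜 (t + (n • x.deg - g))
    have := SetLike.GradedMul.mul_mem (x.pow_mem (n + k)) (show r ∈ 𝒜 (t + -(g + k • x.deg)) from hr)
    rwa [show (n + k) • x.deg + (t + -(g + k • x.deg)) = t + (n • x.deg - g) by rw [add_nsmul]; abel] at this
  have hη : IsHom η := fun t (r : R) hr => by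
    change r • x.val ^ k • w ∈ I.gr t
    have := smul_mem' I.gr (show r ∈ 𝒜 (t + -(g + k • x.deg)) from hr) (smul_mem' I.gr (x.pow_mem k) hw)
    rwa [show t + -(g + k • x.deg) + (k • x.deg + g) = t by abel] at this
  have hker : LinearMap.ker μ ≤ LinearMap.ker η := fun (r : R) hr => by
    change r • x.val ^ k • w = 0
    have hr' : x.val ^ (n + k) * r ∈ J.toIdeal ^ (c + 1) := (Submodule.Quotient.mk_eq_zero _).1 hr
    have h1 : x.val ^ (n + k) * r ∈ (J.toIdeal ^ (c + 1) • (⊤ : Submodule R R) ⊓ Ideal.span {x.val ^ (n + k)}) :=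
      ⟨by rw [Ideal.smul_top_eq_map]; simpa using hr', Ideal.mem_span_singleton.2 (dvd_mul_right _ _)⟩
    rw [hc (c + 1) (Nat.le_add_right c 1), add_tsub_cancel_left, pow_one] at h1
    have h2 : x.val ^ (n + k) * r ∈ J.toIdeal * Ideal.span {x.val ^ (n + k)} :=
      Submodule.smul_mono le_rfl inf_le_right h1
    obtain ⟨j, hj, e⟩ := Ideal.mem_mul_span_singleton.1 h2
    have h3 : x.val ^ k * (r - j) = 0 := by
      have h4 : r - j ∈ LinearMap.ker (LinearMap.mul R R (x.val ^ (n + k))) := by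
        change x.val ^ (n + k) * (r - j) = 0
        rw [mul_sub, mul_comm _ j, e, sub_self]
      have h5 := hk (n + k) (Nat.le_add_left k n)
      change LinearMap.ker (LinearMap.mul R R (x.val ^ k)) = LinearMap.ker (LinearMap.mul R R (x.val ^ (n + k))) at h5
      rw [← h5] at h4
      exact h4
    rw [mul_sub, sub_eq_zero] at h3
    rw [smul_smul, mul_comm, h3, mul_smul, hJ j hj, smul_zero]
  obtain ⟨h', -, e'⟩ := exists_extend hI μ hμ η hη hker
  refine ⟨h' (Submodule.Quotient.mk (1 : R)), ⟨c + 1, fun r hr => ?_⟩, (fr_eq_iff x).2 ⟨k, ?_⟩⟩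
  · rw [← map_smul]
    have : r • (Submodule.Quotient.mk (1 : R) : R ⧸ J.toIdeal ^ (c + 1)) = 0 := by
      rw [← Submodule.Quotient.mk_smul, smul_eq_mul, mul_one]
      exact (Submodule.Quotient.mk_eq_zero _).2 hr
    exact (congrArg h' this).trans (map_zero h')
  · rw [← map_smul, add_comm k n, add_zero]
    have h0 := LinearMap.congr_fun e' (1 : R)
    refine Eq.trans ?_ (h0.trans (one_smul R _))
    refine congrArg h' ?_
    change x.val ^ (n + k) • (Submodule.Quotient.mk (1 : R) : R ⧸ J.toIdeal ^ (c + 1)) =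
      Submodule.Quotient.mk (x.val ^ (n + k) * (1 : R))
    rw [← Submodule.Quotient.mk_smul, smul_eq_mul]

theorem exists_gam_lift (a : HomogeneousIdeal 𝒜) (n : ℕ) {w : I.carrier} (hw : w ∈ gam a.toIdeal I.carrier) :
    ∃ y ∈ gam a.toIdeal I.carrier, fr x 0 y = fr x n w := by
  classical
  obtain ⟨S, hS⟩ := exists_sum_cmp I.gr w
  have key : ∀ g, ∃ y ∈ gam a.toIdeal I.carrier, fr x 0 y = fr x n (cmp I.gr g w) := fun g => by
    obtain ⟨N, hN⟩ : cmp I.gr g w ∈ gam a.toIdeal I.carrier := isHomogeneous_gam a g hw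
    obtain ⟨y, ⟨N', hN'⟩, hy⟩ := exists_div x hI ⟨a.toIdeal ^ N, pow_isHomogeneous a N⟩
      (cmp_mem I.gr g w) hN n
    exact ⟨y, ⟨N * N', fun r hr => hN' r (by rw [pow_mul] at hr; exact hr)⟩, hy⟩
  choose y hy hfy using key
  refine ⟨∑ g ∈ S, y g, Submodule.sum_mem _ fun g _ => hy g, ?_⟩
  rw [fr_sum]
  conv_rhs => rw [hS, fr_sum]
  exact Finset.sum_congr rfl fun g _ => hfy g

omit x in
/-- A *injective module has no higher Čech cohomology. -/
theorem cech_acyclic : ∀ (l : List (HElt 𝒜)) (n : ℕ), (cech I l).Acyclic (n + 1)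
  | [], n => fun z _ => ⟨0, (map_zero _).trans (singleX_succ_eq_zero I n z).symm⟩
  | x :: l, 0 => by
    intro z hz
    obtain ⟨z₂, hz₂⟩ : ∃ e : LocalizedModule (Submonoid.powers x.val) ((cech I l).X 0).carrier, e = z.2 := ⟨z.2, rfl⟩
    obtain ⟨b, hb⟩ := cech_acyclic l 0 (show z.1 ∈ (cech I l).cyc 1 from congrArg Prod.fst hz)
    have he : locMap x ((cech I l).d 0) (z₂ - toLoc x b) = 0 := by
      have hs : toLoc x z.1 - locMap x ((cech I l).d 0) z₂ = 0 := by rw [hz₂]; exact congrArg Prod.snd hz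
      rw [map_sub, locMap_toLoc, hb, ← sub_eq_zero.1 hs, sub_self]
    obtain ⟨j, q, hq⟩ := exists_fr x (z₂ - toLoc x b)
    rw [← hq, locMap_fr, fr_eq_zero_iff] at he
    obtain ⟨k, hk⟩ := he
    obtain ⟨m, hm⟩ := (inc0_bijective I l).2 (x.val ^ k • q)
    have hm' : m ∈ gam (hspan l).toIdeal I.carrier :=
      (mem_cyc_zero l m).1 (by change (cech I l).d 0 _ = 0; rw [hm, map_smul, hk])
    obtain ⟨y, hy, hy'⟩ := exists_gam_lift x hI (hspan l) (j + k) hm'
    refine ⟨b + inc0 I l y, Prod.ext ?_ ?_⟩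
    · change (cech I l).d 0 (b + inc0 I l y) = z.1
      rw [map_add, show (cech I l).d 0 (inc0 I l y) = 0 from (mem_cyc_zero l y).2 hy, add_zero, hb]
    · change toLoc x (b + inc0 I l y) = _
      have h5 : toLoc x (inc0 I l y) = z₂ - toLoc x b := by
        rw [toLoc_apply x (inc0 I l y), ← locMap_fr x (inc0 I l) 0 y, hy', locMap_fr, hm, fr_pow_smul]
        exact hq
      rw [map_add, h5, add_sub_cancel]
      exact hz₂
  | x :: l, n + 1 => by
    intro z hz
    obtain ⟨z₂, hz₂⟩ : ∃ e : LocalizedModule (Submonoid.powers x.val) ((cech I l).X (n + 1)).carrier, e = z.2 :=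
      ⟨z.2, rfl⟩
    obtain ⟨b, hb⟩ := cech_acyclic l (n + 1) (show z.1 ∈ (cech I l).cyc (n + 2) from congrArg Prod.fst hz)
    have hs : toLoc x z.1 - locMap x ((cech I l).d (n + 1)) z₂ = 0 := by rw [hz₂]; exact congrArg Prod.snd hz
    obtain ⟨e', he'⟩ := ((cech I l).loc_acyclic x (cech_acyclic l n))
      (show toLoc x b - z₂ ∈ ((cech I l).loc x).cyc (n + 1) from by
        change locMap x ((cech I l).d (n + 1)) (toLoc x b - z₂) = 0
        rw [map_sub, locMap_toLoc, hb, hs])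
    refine ⟨((b, e') : _ × _), Prod.ext hb ?_⟩
    change toLoc x b - locMap x ((cech I l).d n) e' = _
    rw [show locMap x ((cech I l).d n) e' = toLoc x b - z₂ from he', sub_sub_cancel]
    exact hz₂

end Injective

end GrothLib.GrLC
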