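import Groth.Agent.Lib.GrLC.CoreHeight

/-!
# A prime is principal over its homogeneous core, locally
-/

universe u

open DirectSum

namespace GrothLib.GrLC

variable {R : Type u} [CommRing R] {σ : Type u} [SetLike σ R] [AddSubgroupClass σ R] {𝒜 : ℤ → σ} [GradedRing 𝒜]

/-- A nonhomogeneous prime is generated by one element over its core, after localisation at it. -/
theorem exists_core_gen {P : Ideal R} [P.IsPrime] (hne : ¬ P.IsHomogeneous 𝒜) :
    ∃ c ∈ P, c ∉ (P.homogeneousCore 𝒜).toIdeal ∧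
      ∀ b ∈ P, ∃ s q : R, s ∉ P ∧ s * b - q * c ∈ (P.homogeneousCore 𝒜).toIdeal := by
  classical
  set I := (P.homogeneousCore 𝒜).toIdeal with hI
  have hIp : I.IsPrime := Ideal.IsPrime.homogeneousCore (𝒜 := 𝒜) (inferInstance : P.IsPrime)
  have hIP : I ≤ P := Ideal.toIdeal_homogeneousCore_le 𝒜 P
  have hIh : I.IsHomogeneous 𝒜 := HomogeneousIdeal.isHomogeneous _
  have hcore : ∀ g : ℤ, ∀ x ∈ 𝒜 g, x ∈ P → x ∈ I := fun g x hx hxP =>
    Ideal.mem_homogeneousCore_of_homogeneous_of_mem ⟨g, hx⟩ hxP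
  have hex : ∀ b, b ∉ I → ∃ (u : ℤ) (n : ℕ), Win 𝒜 I u (u + n) b := fun b _ => by
    obtain ⟨u, v, huv, h⟩ := exists_win (𝒜 := 𝒜) I b
    exact ⟨u, (v - u).toNat, by rwa [Int.toNat_of_nonneg (by omega), add_sub_cancel]⟩
  obtain ⟨a₀, ha₀, ha₀I⟩ := SetLike.not_le_iff_exists.1 fun h => hne ((le_antisymm h hIP) ▸ hIh)
  have hPex : ∃ n : ℕ, ∃ b ∈ P, b ∉ I ∧ ∃ u, Win 𝒜 I u (u + n) b := by
    obtain ⟨u, n, h⟩ := hex a₀ ha₀I
    exact ⟨n, a₀, ha₀, ha₀I, u, h⟩
  obtain ⟨c, hcP, hcI, p, hcw⟩ := Nat.find_spec hPex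
  set w := Nat.find hPex with hwdef
  have hmin : ∀ b ∈ P, ∀ u v : ℤ, v - u < w → Win 𝒜 I u v b → b ∈ I := by
    intro b hb u v hlt hW
    by_contra hbI
    by_cases huv : u ≤ v
    · refine Nat.find_min hPex (m := (v - u).toNat) (by omega) ⟨b, hb, hbI, u, ?_⟩
      rwa [Int.toNat_of_nonneg (by omega), add_sub_cancel]
    · exact hbI (mem_of_win (𝒜 := 𝒜) hW fun g hg hg' => absurd (hg.trans hg') huv)
  set t : ℤ := p + w with htdef
  have hw : 0 < w := by
    by_contra h0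
    have h0 : w = 0 := by omega
    have hd : c - cmp 𝒜 p c ∈ I := by
      refine mem_of_win (𝒜 := 𝒜) (u := p + 1) (v := p) (fun g _ => ?_) (fun g hg hg' => absurd hg' (by omega))
      rw [map_sub]
      by_cases hgp : g = p
      · rw [hgp, cmp_of_mem 𝒜 (cmp_mem 𝒜 p c), sub_self]; exact zero_mem _
      · rw [cmp_of_mem_ne 𝒜 (cmp_mem 𝒜 p c) (Ne.symm hgp), sub_zero]
        exact hcw g (by omega)
    have hP' : cmp 𝒜 p c ∈ P := by
      have := sub_mem hcP (hIP hd)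
      rwa [sub_sub_cancel] at this
    have := add_mem hd (hcore p _ (cmp_mem 𝒜 p c) hP')
    rw [sub_add_cancel] at this
    exact hcI this
  have hct : cmp 𝒜 t c ∉ I := by
    intro h
    refine hcI (hmin c hcP p (p + w - 1) (by omega) fun g hg => ?_)
    by_cases hgt : g = t
    · rw [hgt]; exact h
    · exact hcw g (by omega)
  have hdiv : ∀ n : ℕ, ∀ u v : ℤ, v - u < n → ∀ b ∈ P, Win 𝒜 I u v b → ∃ (E : ℤ) (s q : R),
      s ∈ 𝒜 E ∧ s ∉ I ∧ s * b - q * c ∈ I ∧ Win 𝒜 I (u + E - p) (v + E - t) q := by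
    intro n
    induction n with
    | zero =>
      intro u v h b hb hW
      exact ⟨0, 1, 0, SetLike.GradedOne.one_mem, fun h1 => hIp.ne_top ((Ideal.eq_top_iff_one _).2 h1),
        by rw [one_mul, zero_mul, sub_zero]; exact hmin b hb u v (by omega) hW,
        fun g _ => by rw [map_zero]; exact zero_mem _⟩
    | succ n ih =>
      intro u v h b hb hW
      by_cases hlt : v - u < w
      · exact ⟨0, 1, 0, SetLike.GradedOne.one_mem, fun h1 => hIp.ne_top ((Ideal.eq_top_iff_one _).2 h1),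
          by rw [one_mul, zero_mul, sub_zero]; exact hmin b hb u v hlt hW,
          fun g _ => by rw [map_zero]; exact zero_mem _⟩
      obtain ⟨E, s, q, hsE, hsI, hsq, hqW⟩ := ih (u + t) (v + t - 1) (by omega)
        (cmp 𝒜 t c * b - cmp 𝒜 v b * c) (sub_mem (P.mul_mem_left _ hb) (P.mul_mem_left _ hcP)) (fun g hg => by
          rw [map_sub, ← smul_eq_mul, ← smul_eq_mul, cmp_smul_of_mem 𝒜 (cmp_mem 𝒜 t c),
            cmp_smul_of_mem 𝒜 (cmp_mem 𝒜 v b), smul_eq_mul, smul_eq_mul]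
          by_cases hgt : g = v + t
          · rw [hgt, add_sub_cancel_right, add_sub_cancel_left, mul_comm, sub_self]
            exact zero_mem _
          · exact sub_mem (I.mul_mem_left _ (hW _ (by omega))) (I.mul_mem_left _ (hcw _ (by omega))))
      refine ⟨E + t, s * cmp 𝒜 t c, q + s * cmp 𝒜 v b, SetLike.mul_mem_graded hsE (cmp_mem 𝒜 t c),
        fun h => (hIp.mem_or_mem h).elim hsI hct, ?_, fun g hg => ?_⟩
      · convert hsq using 1
        ring
      · rw [map_add]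
        refine add_mem (hqW g (by omega)) ?_
        rw [cmp_of_mem_ne 𝒜 (SetLike.mul_mem_graded hsE (cmp_mem 𝒜 v b)) (by omega)]
        exact zero_mem _
  refine ⟨c, hcP, hcI, fun b hb => ?_⟩
  obtain ⟨u, v, -, hW⟩ := exists_win (𝒜 := 𝒜) I b
  obtain ⟨E, s, q, hs, hsI, hsq, -⟩ := hdiv ((v - u).toNat + 1) u v (by omega) b hb hW
  exact ⟨s, q, fun h => hsI (hcore E s hs h), hsq⟩

end GrothLib.GrLC
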