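import Groth.Agent.Lib.GrLC.Basic
import Mathlib.LinearAlgebra.Isomorphisms
import Mathlib.Algebra.Exact.Basic

/-!
# Complexes of graded modules: cohomology, connecting isomorphisms, vanishing in a degree
-/

universe u

open DirectSum

namespace GrothLib.GrLC

open _root_.GrLC (GMod IsGrHom IsStarInj)

variable {ι : Type} [AddCommGroup ι] [DecidableEq ι] {R : Type u} [CommRing R] {σ : Type u} [SetLike σ R]
  [AddSubgroupClass σ R] {𝒜 : ι → σ} [GradedRing 𝒜]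

variable {X Y Z : GMod.{u} 𝒜}

theorem coe_cmp_sub (P : Submodule R X.carrier) (hP : P.IsHomogeneous X.gr) (g : ι) (x : P) :
    (GrLC.cmp (sub X P hP).gr g x).1 = GrLC.cmp X.gr g x.1 :=
  map_cmp (isHom_subtype X P hP) g x

theorem isHomogeneous_comap {f : X.carrier →ₗ[R] Y.carrier} (hf : IsHom f) {Q : Submodule R Y.carrier}
    (hQ : Q.IsHomogeneous Y.gr) : (Q.comap f).IsHomogeneous X.gr := fun g x hx => by
  change f (GrLC.cmp X.gr g x) ∈ Q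
  rw [hf.cmp]
  exact hQ g hx

theorem isHomogeneous_bot : (⊥ : Submodule R X.carrier).IsHomogeneous X.gr := fun g x hx => by
  rw [(Submodule.mem_bot R).1 hx]
  simp

/-- homogeneous isomorphism -/
def Iso (X Y : GMod.{u} 𝒜) : Prop := ∃ e : X.carrier ≃ₗ[R] Y.carrier, IsHom e.toLinearMap

theorem IsHom.symm {e : X.carrier ≃ₗ[R] Y.carrier} (he : IsHom e.toLinearMap) :
    IsHom (X := Y) (Y := X) e.symm.toLinearMap := fun g y hy => by
  have h : e.symm y = GrLC.cmp X.gr g (e.symm y) := by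
    apply e.injective
    have h' := he.cmp g (e.symm y)
    simp only [LinearEquiv.coe_coe, LinearEquiv.apply_symm_apply] at h'
    rw [LinearEquiv.apply_symm_apply, h', cmp_of_mem Y.gr hy]
  rw [LinearEquiv.coe_coe, h]
  exact cmp_mem X.gr g _

theorem Iso.refl (X : GMod.{u} 𝒜) : Iso X X := ⟨LinearEquiv.refl R _, fun _ _ hm => hm⟩

theorem Iso.symm (h : Iso X Y) : Iso Y X := let ⟨e, he⟩ := h; ⟨e.symm, he.symm⟩

theorem Iso.trans (h : Iso X Y) (h' : Iso Y Z) : Iso X Z :=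
  let ⟨e, he⟩ := h; let ⟨e', he'⟩ := h'; ⟨e.trans e', fun g m hm => he' g _ (he g m hm)⟩

theorem Iso.gr_eq_bot_iff (h : Iso X Y) (g : ι) : X.gr g = ⊥ ↔ Y.gr g = ⊥ := by
  obtain ⟨e, he⟩ := h
  constructor
  · intro hX
    refine (AddSubgroup.eq_bot_iff_forall _).2 fun y hy => ?_
    have h0 := (AddSubgroup.eq_bot_iff_forall _).1 hX _ (he.symm g y hy)
    simpa using congrArg e h0
  · intro hY
    refine (AddSubgroup.eq_bot_iff_forall _).2 fun x hx => ?_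
    have h0 := (AddSubgroup.eq_bot_iff_forall _).1 hY _ (he g x hx)
    simpa using h0

section Subquot

/-- the subquotient `P/(P ⊓ B)` -/
noncomputable abbrev subquot (X : GMod.{u} 𝒜) (P B : Submodule R X.carrier) (hP : P.IsHomogeneous X.gr)
    (hB : B.IsHomogeneous X.gr) : GMod.{u} 𝒜 :=
  quot (sub X P hP) (B.comap P.subtype) (isHomogeneous_comap (isHom_subtype X P hP) hB)

theorem subquot_gr_eq_bot_iff (P B : Submodule R X.carrier) (hP : P.IsHomogeneous X.gr)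
    (hB : B.IsHomogeneous X.gr) (g : ι) :
    (subquot X P B hP hB).gr g = ⊥ ↔ ∀ z ∈ P, z ∈ X.gr g → z ∈ B := by
  rw [AddSubgroup.eq_bot_iff_forall]
  constructor
  · intro h z hz hg
    exact (Submodule.Quotient.mk_eq_zero (B.comap P.subtype)).1 (h _ ⟨⟨z, hz⟩, hg, rfl⟩)
  · rintro h _ ⟨z, hz, rfl⟩
    exact (Submodule.Quotient.mk_eq_zero (B.comap P.subtype)).2 (h z.1 z.2 hz)

omit [AddCommGroup ι] [DecidableEq ι] [SetLike σ R] [AddSubgroupClass σ R] in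
theorem exists_equiv_of_ker_eq {G A B : Type*} [AddCommGroup G] [Module R G] [AddCommGroup A] [Module R A]
    [AddCommGroup B] [Module R B] (a : G →ₗ[R] A) (b : G →ₗ[R] B) (ha : Function.Surjective a)
    (hb : Function.Surjective b) (h : LinearMap.ker a = LinearMap.ker b) :
    ∃ e : A ≃ₗ[R] B, ∀ x, e (a x) = b x := by
  refine ⟨(a.quotKerEquivOfSurjective ha).symm.trans
    ((Submodule.quotEquivOfEq _ _ h).trans (b.quotKerEquivOfSurjective hb)), fun x => ?_⟩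
  rw [LinearEquiv.trans_apply, LinearEquiv.trans_apply]
  have e1 : (a.quotKerEquivOfSurjective ha).symm (a x) = Submodule.Quotient.mk x :=
    (LinearEquiv.symm_apply_eq _).2 rfl
  rw [e1]
  rfl

/-- An isomorphism of subquotients from a relation. -/
theorem iso_of_rel (P B : Submodule R X.carrier) (hP : P.IsHomogeneous X.gr) (hB : B.IsHomogeneous X.gr)
    (Q C : Submodule R Y.carrier) (hQ : Q.IsHomogeneous Y.gr) (hC : C.IsHomogeneous Y.gr)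
    (G : Submodule R (X.carrier × Y.carrier)) (hmem : ∀ z w, (z, w) ∈ G → z ∈ P ∧ w ∈ Q ∧ (z ∈ B ↔ w ∈ C))
    (hr : ∀ w ∈ Q, ∃ z, (z, w) ∈ G) (hl : ∀ g, ∀ z ∈ P, z ∈ X.gr g → ∃ w ∈ Y.gr g, (z, w) ∈ G) :
    Iso (subquot X P B hP hB) (subquot Y Q C hQ hC) := by
  let p₁ : G →ₗ[R] (subquot X P B hP hB).carrier :=
    (B.comap P.subtype).mkQ ∘ₗ
      ((LinearMap.fst R _ _ ∘ₗ G.subtype).codRestrict P fun x => (hmem _ _ x.2).1)
  let p₂ : G →ₗ[R] (subquot Y Q C hQ hC).carrier :=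
    (C.comap Q.subtype).mkQ ∘ₗ
      ((LinearMap.snd R _ _ ∘ₗ G.subtype).codRestrict Q fun x => (hmem _ _ x.2).2.1)
  have hker : LinearMap.ker p₁ = LinearMap.ker p₂ := by
    ext x
    simp only [LinearMap.mem_ker]
    refine (Submodule.Quotient.mk_eq_zero (B.comap P.subtype)).trans
      (Iff.trans ?_ (Submodule.Quotient.mk_eq_zero (C.comap Q.subtype)).symm)
    exact (hmem _ _ x.2).2.2
  have h₂ : Function.Surjective p₂ := fun q => by
    obtain ⟨w, rfl⟩ := Submodule.mkQ_surjective _ q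
    obtain ⟨z, hz⟩ := hr w.1 w.2
    exact ⟨⟨(z, w.1), hz⟩, rfl⟩
  have h₁ : Function.Surjective p₁ := fun q => by
    obtain ⟨z, rfl⟩ := Submodule.mkQ_surjective _ q
    obtain ⟨S, hS⟩ := exists_sum_cmp X.gr z.1
    choose w _ hw using fun g => hl g _ (hP g z.2) (cmp_mem X.gr g z.1)
    refine ⟨∑ g ∈ S, ⟨(GrLC.cmp X.gr g z.1, w g), hw g⟩, congrArg (B.comap P.subtype).mkQ (Subtype.ext ?_)⟩
    change ((∑ g ∈ S, ⟨(GrLC.cmp X.gr g z.1, w g), hw g⟩ : G) : X.carrier × Y.carrier).1 = z.1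
    rw [AddSubmonoidClass.coe_finsetSum, Prod.fst_sum]
    exact hS.symm
  obtain ⟨e, he⟩ := exists_equiv_of_ker_eq p₁ p₂ h₁ h₂ hker
  refine ⟨e, ?_⟩
  rintro g _ ⟨z, hz, rfl⟩
  obtain ⟨w, hw, hzw⟩ := hl g z.1 z.2 hz
  exact ⟨⟨w, (hmem _ _ hzw).2.1⟩, hw, (he ⟨(z.1, w), hzw⟩).symm⟩

end Subquot

/-- A complex of graded modules. -/
structure GCx (𝒜 : ι → σ) [GradedRing 𝒜] : Type (u + 1) where
  /-- terms -/
  X : ℕ → GMod.{u} 𝒜
  /-- differential -/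
  d : ∀ n, (X n).carrier →ₗ[R] (X (n + 1)).carrier
  d_hom : ∀ n, IsHom (d n)
  d_d : ∀ n x, d (n + 1) (d n x) = 0

namespace GCx

variable (C : GCx.{u} 𝒜)

/-- cocycles -/
abbrev cyc (n : ℕ) : Submodule R (C.X n).carrier := LinearMap.ker (C.d n)

/-- coboundaries -/
def bdy : (n : ℕ) → Submodule R (C.X n).carrier
  | 0 => ⊥
  | n + 1 => LinearMap.range (C.d n)

theorem bdy_zero : C.bdy 0 = ⊥ := rfl

theorem bdy_succ (n : ℕ) : C.bdy (n + 1) = LinearMap.range (C.d n) := rfl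

theorem isHomogeneous_cyc (n : ℕ) : (C.cyc n).IsHomogeneous (C.X n).gr := isHomogeneous_ker (C.d_hom n)

theorem isHomogeneous_bdy : ∀ n, (C.bdy n).IsHomogeneous (C.X n).gr
  | 0 => isHomogeneous_bot
  | n + 1 => isHomogeneous_range (C.d_hom n)

theorem bdy_le_cyc : ∀ n, C.bdy n ≤ C.cyc n
  | 0 => bot_le
  | n + 1 => by rintro _ ⟨x, rfl⟩; exact C.d_d n x

/-- cohomology as a graded module -/
noncomputable abbrev H (n : ℕ) : GMod.{u} 𝒜 :=
  subquot (C.X n) (C.cyc n) (C.bdy n) (C.isHomogeneous_cyc n) (C.isHomogeneous_bdy n)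

/-- no cohomology in spot `n` and degree `g` -/
def Vanish (n : ℕ) (g : ι) : Prop := ∀ z ∈ C.cyc n, z ∈ (C.X n).gr g → z ∈ C.bdy n

theorem vanish_iff (n : ℕ) (g : ι) : C.Vanish n g ↔ (C.H n).gr g = ⊥ :=
  (subquot_gr_eq_bot_iff _ _ _ _ g).symm

/-- no cohomology in spot `n` -/
def Acyclic (n : ℕ) : Prop := C.cyc n ≤ C.bdy n

theorem acyclic_iff (n : ℕ) : C.Acyclic n ↔ ∀ g, C.Vanish n g :=
  ⟨fun h _ _ hz _ => h hz, fun h z hz => by
    obtain ⟨S, hS⟩ := exists_sum_cmp (C.X n).gr z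
    rw [hS]
    exact Submodule.sum_mem _ fun g _ => h g _ (C.isHomogeneous_cyc n g hz) (cmp_mem _ g z)⟩

end GCx

/-- A map of complexes. -/
structure Mor (C D : GCx.{u} 𝒜) : Type u where
  /-- components -/
  f : ∀ n, (C.X n).carrier →ₗ[R] (D.X n).carrier
  hom : ∀ n, IsHom (f n)
  comm : ∀ n x, D.d n (f n x) = f (n + 1) (C.d n x)

namespace Mor

variable {A B C : GCx.{u} 𝒜}

theorem map_cyc_le (φ : Mor A B) (n : ℕ) : (A.cyc n).map (φ.f n) ≤ B.cyc n := by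
  rintro _ ⟨x, hx, rfl⟩
  change B.d n (φ.f n x) = 0
  rw [φ.comm, show A.d n x = 0 from hx, map_zero]

theorem map_bdy_le (φ : Mor A B) : ∀ n, (A.bdy n).map (φ.f n) ≤ B.bdy n
  | 0 => by simp [GCx.bdy_zero]
  | n + 1 => by
    rintro _ ⟨_, ⟨x, rfl⟩, rfl⟩
    exact ⟨φ.f n x, φ.comm n x⟩

theorem iso_of_bijective (φ : Mor A B) (hφ : ∀ n, Function.Bijective (φ.f n)) (n : ℕ) :
    Iso (A.H n) (B.H n) := by
  refine iso_of_rel _ _ _ _ _ _ _ _ ((A.cyc n).map (LinearMap.id.prod (φ.f n))) ?_ ?_ ?_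
  · rintro z w ⟨x, hx, e⟩
    obtain ⟨rfl, rfl⟩ := Prod.ext_iff.1 e
    refine ⟨hx, map_cyc_le φ n ⟨_, hx, rfl⟩, fun h => map_bdy_le φ n ⟨_, h, rfl⟩, ?_⟩
    cases n with
    | zero => exact fun h => (Submodule.mem_bot R).2 ((hφ 0).1 (by rw [map_zero]; exact (Submodule.mem_bot R).1 h))
    | succ n =>
      rintro ⟨y, hy⟩
      obtain ⟨y', rfl⟩ := (hφ n).2 y
      exact ⟨y', (hφ (n + 1)).1 ((φ.comm n y').symm.trans hy)⟩
  · intro w hw
    obtain ⟨z, rfl⟩ := (hφ n).2 w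
    refine ⟨z, z, (hφ (n + 1)).1 ?_, rfl⟩
    rw [map_zero, ← φ.comm]
    exact hw
  · exact fun g z hz hg => ⟨φ.f n z, φ.hom n g z hg, z, hz, rfl⟩

end Mor

/-- A short exact sequence of complexes. -/
structure SES {A B C : GCx.{u} 𝒜} (φ : Mor A B) (ψ : Mor B C) : Prop where
  inj : ∀ n, Function.Injective (φ.f n)
  surj : ∀ n, Function.Surjective (ψ.f n)
  exact : ∀ n, Function.Exact (φ.f n) (ψ.f n)

namespace SES

variable {A B C : GCx.{u} 𝒜} {φ : Mor A B} {ψ : Mor B C} (S : SES φ ψ)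

include S

theorem exists_lift (n : ℕ) {g : ι} {z : (C.X n).carrier} (hz : z ∈ (C.X n).gr g) :
    ∃ b ∈ (B.X n).gr g, ψ.f n b = z := by
  obtain ⟨b, rfl⟩ := S.surj n z
  exact ⟨GrLC.cmp (B.X n).gr g b, cmp_mem _ g b, by rw [(ψ.hom n).cmp, cmp_of_mem _ hz]⟩

theorem exists_pre (n : ℕ) {g : ι} {b : (B.X n).carrier} (hb : b ∈ (B.X n).gr g) (h : ψ.f n b = 0) :
    ∃ a ∈ (A.X n).gr g, φ.f n a = b := by
  obtain ⟨a, rfl⟩ := (S.exact n b).1 h
  exact ⟨GrLC.cmp (A.X n).gr g a, cmp_mem _ g a, by rw [(φ.hom n).cmp, cmp_of_mem _ hb]⟩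

theorem psi_phi (n : ℕ) (a : (A.X n).carrier) : ψ.f n (φ.f n a) = 0 := (S.exact n _).2 ⟨a, rfl⟩

theorem bdy_le_map : ∀ n, C.bdy n ≤ (B.bdy n).map (ψ.f n)
  | 0 => bot_le
  | n + 1 => by
    rintro _ ⟨c, rfl⟩
    obtain ⟨b, rfl⟩ := S.surj n c
    exact ⟨B.d n b, ⟨b, rfl⟩, (ψ.comm n b).symm⟩

/-- The connecting isomorphism, when the middle complex is acyclic in spot `n+1`. -/
theorem iso_connecting (n : ℕ) (hB : B.Acyclic (n + 1)) :
    Iso (subquot (C.X n) (C.cyc n) ((B.cyc n).map (ψ.f n)) (C.isHomogeneous_cyc n)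
      (isHomogeneous_map (ψ.hom n) (B.isHomogeneous_cyc n))) (A.H (n + 1)) := by
  refine iso_of_rel _ _ _ _ _ _ _ _
    ((LinearMap.ker (φ.f (n + 1) ∘ₗ LinearMap.snd R _ _ - B.d n ∘ₗ LinearMap.fst R _ _)).map
      ((ψ.f n).prodMap LinearMap.id)) ?_ ?_ ?_
  · rintro z w ⟨⟨b, w'⟩, hx, e⟩
    obtain ⟨rfl, rfl⟩ : ψ.f n b = z ∧ w' = w := Prod.ext_iff.1 e
    have hbw : φ.f (n + 1) w' = B.d n b := sub_eq_zero.1 hx
    refine ⟨?_, ?_, ?_, ?_⟩
    · change C.d n (ψ.f n b) = 0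
      rw [ψ.comm, ← hbw, S.psi_phi]
    · apply S.inj (n + 1 + 1)
      rw [map_zero, ← φ.comm, hbw, B.d_d]
    · rintro ⟨b₀, hb₀, e₀⟩
      obtain ⟨a, ha⟩ := (S.exact n (b - b₀)).1 (by rw [map_sub, e₀, sub_self])
      refine ⟨a, S.inj (n + 1) ?_⟩
      rw [← φ.comm, ha, map_sub, show B.d n b₀ = 0 from hb₀, sub_zero, hbw]
    · rintro ⟨a, rfl⟩
      refine ⟨b - φ.f n a, ?_, by rw [map_sub, S.psi_phi, sub_zero]⟩
      change B.d n (b - φ.f n a) = 0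
      rw [map_sub, φ.comm, hbw, sub_self]
  · intro w hw
    obtain ⟨b, hb⟩ := hB (show φ.f (n + 1) w ∈ B.cyc (n + 1) from Mor.map_cyc_le φ _ ⟨w, hw, rfl⟩)
    exact ⟨ψ.f n b, (b, w), sub_eq_zero.2 hb.symm, rfl⟩
  · intro g z hz hg
    obtain ⟨b, hbg, rfl⟩ := S.exists_lift n hg
    obtain ⟨w, hw, e⟩ := S.exists_pre (n + 1) (B.d_hom n g b hbg) (by rw [← ψ.comm]; exact hz)
    exact ⟨w, hw, (b, w), sub_eq_zero.2 e, rfl⟩

theorem map_cyc_eq_bdy (n : ℕ) (hB : B.Acyclic n) : (B.cyc n).map (ψ.f n) = C.bdy n :=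
  le_antisymm ((Submodule.map_mono hB).trans (Mor.map_bdy_le ψ n))
    ((S.bdy_le_map n).trans (Submodule.map_mono (B.bdy_le_cyc n)))

theorem iso_shift (n : ℕ) (hB : B.Acyclic n) (hB' : B.Acyclic (n + 1)) : Iso (C.H n) (A.H (n + 1)) := by
  have h := S.iso_connecting n hB'
  simp only [S.map_cyc_eq_bdy n hB] at h
  exact h

theorem vanish_mid {n : ℕ} {g : ι} (hA : A.Vanish n g) (hC : C.Vanish n g) : B.Vanish n g := by
  intro z hz hg
  obtain ⟨b₀, hb₀, e⟩ := S.bdy_le_map n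
    (hC _ (Mor.map_cyc_le ψ n ⟨z, hz, rfl⟩) (ψ.hom n g z hg))
  have hb₀' := B.isHomogeneous_bdy n g hb₀
  obtain ⟨a, ha, ea⟩ := S.exists_pre n (b := z - GrLC.cmp (B.X n).gr g b₀)
    (sub_mem hg (cmp_mem _ g b₀)) (by rw [map_sub, (ψ.hom n).cmp, e, cmp_of_mem _ (ψ.hom n g z hg), sub_self])
  have : a ∈ A.cyc n := by
    apply S.inj (n + 1)
    rw [map_zero, ← φ.comm, ea, map_sub, show B.d n z = 0 from hz,
      show B.d n (GrLC.cmp (B.X n).gr g b₀) = 0 from B.bdy_le_cyc n hb₀', sub_zero]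
  have h := add_mem (Mor.map_bdy_le φ n ⟨a, hA a this ha, rfl⟩) hb₀'
  rw [ea] at h
  rwa [← cmp_apply, sub_add_cancel] at h

theorem vanish_right {n : ℕ} {g : ι} (hB : B.Vanish n g) (hA : A.Vanish (n + 1) g) : C.Vanish n g := by
  intro z hz hg
  obtain ⟨b, hb, rfl⟩ := S.exists_lift n hg
  obtain ⟨w, hw, e⟩ := S.exists_pre (n + 1) (B.d_hom n g b hb) (by rw [← ψ.comm]; exact hz)
  have hwc : w ∈ A.cyc (n + 1) := by
    apply S.inj (n + 1 + 1)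
    rw [map_zero, ← φ.comm, e, B.d_d]
  obtain ⟨a, ha⟩ := hA w hwc hw
  have h := hB (b - φ.f n (GrLC.cmp (A.X n).gr g a))
    (by
      change B.d n (b - φ.f n (GrLC.cmp (A.X n).gr g a)) = 0
      rw [map_sub, φ.comm, (A.d_hom n).cmp, ha, cmp_of_mem _ hw, e, sub_self])
    (sub_mem hb (φ.hom n g _ (cmp_mem _ g a)))
  have h' := Mor.map_bdy_le ψ n ⟨_, h, rfl⟩
  rwa [map_sub, S.psi_phi, sub_zero] at h'

theorem vanish_left {n : ℕ} {g : ι} (hC : C.Vanish n g) (hB : B.Vanish (n + 1) g) : A.Vanish (n + 1) g := by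
  intro w hw hg
  obtain ⟨b, hb⟩ := hB _ (Mor.map_cyc_le φ _ ⟨w, hw, rfl⟩) (φ.hom (n + 1) g w hg)
  set b' := GrLC.cmp (B.X n).gr g b with hb'
  have e : B.d n b' = φ.f (n + 1) w := by
    rw [hb', (B.d_hom n).cmp, hb, cmp_of_mem _ (φ.hom (n + 1) g w hg)]
  obtain ⟨b₀, hb₀, e₀⟩ := S.bdy_le_map n (hC (ψ.f n b')
    (by change C.d n (ψ.f n b') = 0; rw [ψ.comm, e, S.psi_phi]) (ψ.hom n g _ (cmp_mem _ g b)))
  obtain ⟨a, ha⟩ := (S.exact n (b' - b₀)).1 (by rw [map_sub, e₀, sub_self])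
  refine ⟨a, S.inj (n + 1) ?_⟩
  rw [← φ.comm, ha, map_sub, show B.d n b₀ = 0 from B.bdy_le_cyc n hb₀, sub_zero, e]

theorem vanish_left_zero {g : ι} (hB : B.Vanish 0 g) : A.Vanish 0 g := by
  intro w hw hg
  refine (Submodule.mem_bot R).2 (S.inj 0 ?_)
  rw [map_zero]
  exact (Submodule.mem_bot R).1 (hB _ (Mor.map_cyc_le φ _ ⟨w, hw, rfl⟩) (φ.hom 0 g w hg))

end SES

end GrothLib.GrLC
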