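import Mathlib.RingTheory.GradedAlgebra.Basic
import Mathlib.RingTheory.KrullDimension.Zero
import Mathlib.RingTheory.KrullDimension.Field
import Mathlib.RingTheory.HopkinsLevitzki
import Mathlib.RingTheory.Jacobson.Artinian
import Mathlib.RingTheory.Jacobson.Ring
import Mathlib.RingTheory.Artinian.Algebra
import Mathlib.RingTheory.Nullstellensatz
import Mathlib.RingTheory.Localization.FractionRing
import Mathlib.Algebra.MonoidAlgebra.Basic

/-!
# One-dimensional graded domains over an algebraically closed field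
-/

universe u

namespace GrothLib.GrLC.DimOne

variable {k R : Type u} [Field k] [CommRing R] [Algebra k R] {𝒜 : ℤ → Submodule k R} [GradedAlgebra 𝒜]

/-- The component of degree `n`. -/
noncomputable def π (𝒜 : ℤ → Submodule k R) [GradedAlgebra 𝒜] (n : ℤ) : R →ₗ[k] R :=
  GradedAlgebra.proj 𝒜 n

theorem π_eq (n : ℤ) (x : R) : π 𝒜 n x = (DirectSum.decompose 𝒜 x n : R) :=
  GradedAlgebra.proj_apply 𝒜 n x

theorem π_mem (n : ℤ) (x : R) : π 𝒜 n x ∈ 𝒜 n := by rw [π_eq]; exact SetLike.coe_mem _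

theorem π_same {n : ℤ} {x : R} (hx : x ∈ 𝒜 n) : π 𝒜 n x = x := by
  rw [π_eq]; exact DirectSum.decompose_of_mem_same 𝒜 hx

theorem π_ne {n m : ℤ} {x : R} (hx : x ∈ 𝒜 m) (h : m ≠ n) : π 𝒜 n x = 0 := by
  rw [π_eq]; exact DirectSum.decompose_of_mem_ne 𝒜 hx h

theorem π_mul (n : ℤ) {d : ℤ} {a : R} (y : R) (ha : a ∈ 𝒜 d) :
    π 𝒜 n (a * y) = a * π 𝒜 (n - d) y := by
  rw [π_eq, π_eq]
  conv_lhs => rw [← add_sub_cancel d n]
  exact DirectSum.coe_decompose_mul_add_of_left_mem 𝒜 ha

theorem pow_mem {d : ℤ} {a : R} (ha : a ∈ 𝒜 d) (l : ℕ) : a ^ l ∈ 𝒜 ((l : ℤ) * d) := by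
  simpa [nsmul_eq_mul] using SetLike.pow_mem_graded l ha

variable [IsDomain R]

theorem finite_quotient [Algebra.FiniteType k R] (h1 : ringKrullDim R = 1) {a : R} (ha : a ≠ 0) :
    Module.Finite k (R ⧸ Ideal.span {a}) := by
  haveI : IsNoetherianRing R := Algebra.FiniteType.isNoetherianRing k R
  haveI : Ring.KrullDimLE 0 (R ⧸ Ideal.span {a}) := Ring.krullDimLE_zero_iff.2 fun I hI => by
    by_contra hnm
    obtain ⟨M, hM, hIM⟩ := Ideal.exists_le_maximal I hI.ne_top
    have hlt : I < M := lt_of_le_of_ne hIM fun h => hnm (h ▸ hM)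
    have h0 : (⊥ : Ideal R) < I.comap (Ideal.Quotient.mk (Ideal.span {a})) := by
      refine bot_lt_iff_ne_bot.2 fun h => ha ?_
      have : a ∈ I.comap (Ideal.Quotient.mk (Ideal.span {a})) := by
        rw [Ideal.mem_comap, Ideal.Quotient.eq_zero_iff_mem.2 (Ideal.mem_span_singleton_self a)]
        exact zero_mem _
      rwa [h, Ideal.mem_bot] at this
    have h2 : I.comap (Ideal.Quotient.mk (Ideal.span {a})) < M.comap (Ideal.Quotient.mk (Ideal.span {a})) :=
      (Ideal.comap_mono hlt.le).lt_of_ne fun h => hlt.ne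
        (Ideal.comap_injective_of_surjective _ Ideal.Quotient.mk_surjective h)
    let l : LTSeries (PrimeSpectrum R) :=
      (((RelSeries.singleton _ (⟨⊥, Ideal.isPrime_bot⟩ : PrimeSpectrum R)).snoc
        ⟨_, hI.comap (Ideal.Quotient.mk (Ideal.span {a}))⟩ h0).snoc
        ⟨_, hM.isPrime.comap (Ideal.Quotient.mk (Ideal.span {a}))⟩ (by rw [RelSeries.last_snoc]; exact h2))
    have hl : (l.length : WithBot ℕ∞) ≤ ringKrullDim R := Order.LTSeries.length_le_krullDim l
    rw [h1] at hl
    change ((2 : ℕ) : WithBot ℕ∞) ≤ ((1 : ℕ) : WithBot ℕ∞) at hl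
    simp at hl
  haveI : IsArtinianRing (R ⧸ Ideal.span {a}) := IsNoetherianRing.isArtinianRing_of_krullDimLE_zero
  exact (Module.finite_iff_isArtinianRing k (R ⧸ Ideal.span {a})).2 inferInstance

theorem exists_span [Algebra.FiniteType k R] (h1 : ringKrullDim R = 1) {a : R} (ha : a ≠ 0) :
    ∃ T : Finset R, ∀ x : R, ∃ y : R, x - a * y ∈ Submodule.span k (T : Set R) := by
  classical
  haveI := finite_quotient (k := k) h1 ha
  obtain ⟨S, hS⟩ := Module.Finite.fg_top (R := k) (M := R ⧸ Ideal.span {a})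
  refine ⟨S.image (Function.surjInv Ideal.Quotient.mk_surjective), fun x => ?_⟩
  have hx : Ideal.Quotient.mkₐ k (Ideal.span {a}) x ∈
      Submodule.map (Ideal.Quotient.mkₐ k (Ideal.span {a})).toLinearMap
        (Submodule.span k (Function.surjInv Ideal.Quotient.mk_surjective '' (S : Set (R ⧸ Ideal.span {a})))) := by
    rw [Submodule.map_span, ← Set.image_comp]
    have : ((Ideal.Quotient.mkₐ k (Ideal.span {a})).toLinearMap : R → R ⧸ Ideal.span {a}) ∘
        Function.surjInv Ideal.Quotient.mk_surjective = id :=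
      funext fun z => Function.surjInv_eq Ideal.Quotient.mk_surjective z
    rw [this, Set.image_id, hS]
    trivial
  obtain ⟨z, hz, hzx⟩ := hx
  obtain ⟨y, hy⟩ := Ideal.mem_span_singleton'.1
    (Ideal.Quotient.eq.1 (hzx.symm : Ideal.Quotient.mk _ x = Ideal.Quotient.mk _ z))
  refine ⟨y, ?_⟩
  rw [show x - a * y = z by linear_combination -hy, Finset.coe_image]
  exact hz

theorem finite_adjoin [Algebra.FiniteType k R] (hpos : ∀ n : ℤ, n < 0 → 𝒜 n = ⊥)
    (h1 : ringKrullDim R = 1) {d : ℤ} (hd : 0 < d) {a : R} (ha : a ∈ 𝒜 d) (hane : a ≠ 0) :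
    Module.Finite (Algebra.adjoin k ({a} : Set R)) R := by
  classical
  obtain ⟨T, hT⟩ := exists_span (k := k) h1 hane
  obtain ⟨T', hT'⟩ : ∃ T' : Finset R, ∀ t ∈ T, ∀ i,
      π 𝒜 i t ∈ Submodule.span (Algebra.adjoin k ({a} : Set R)) (T' : Set R) := by
    refine ⟨T.biUnion fun t => (DirectSum.decompose 𝒜 t).support.image fun i => π 𝒜 i t, fun t ht i => ?_⟩
    by_cases hi : i ∈ (DirectSum.decompose 𝒜 t).support
    · exact Submodule.subset_span (Finset.mem_biUnion.2 ⟨t, ht, Finset.mem_image_of_mem _ hi⟩)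
    · rw [π_eq, DFinsupp.notMem_support_iff.1 hi]
      exact zero_mem _
  have hall : ∀ (j : ℕ) (n : ℤ), n < j → ∀ x,
      π 𝒜 n x ∈ Submodule.span (Algebra.adjoin k ({a} : Set R)) (T' : Set R) := by
    intro j
    induction j with
    | zero =>
      intro n hn x
      have hz := π_mem (𝒜 := 𝒜) n x
      rw [hpos n (by omega), Submodule.mem_bot] at hz
      rw [hz]; exact zero_mem _
    | succ j ih =>
      intro n hn x
      obtain ⟨y, hy⟩ := hT x
      have hs : π 𝒜 n (x - a * y) ∈ Submodule.span (Algebra.adjoin k ({a} : Set R)) (T' : Set R) := by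
        generalize x - a * y = z at hy
        induction hy using Submodule.span_induction with
        | mem t ht => exact hT' t ht n
        | zero => simp
        | add u v _ _ hu hv => rw [map_add]; exact add_mem hu hv
        | smul c u _ hu =>
          rw [map_smul, Algebra.smul_def]
          exact Submodule.smul_mem _ (algebraMap k (Algebra.adjoin k ({a} : Set R)) c) hu
      rw [map_sub, π_mul n y ha] at hs
      have h2 : a * π 𝒜 (n - d) y ∈ Submodule.span (Algebra.adjoin k ({a} : Set R)) (T' : Set R) :=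
        Submodule.smul_mem _ (⟨a, Algebra.subset_adjoin rfl⟩ : Algebra.adjoin k ({a} : Set R))
          (ih (n - d) (by omega) y)
      simpa using add_mem hs h2
  refine ⟨⟨T', eq_top_iff.2 fun x _ => ?_⟩⟩
  induction x using DirectSum.Decomposition.inductionOn 𝒜 with
  | zero => exact zero_mem _
  | add x y hx hy => exact add_mem (hx trivial) (hy trivial)
  | @homogeneous i z =>
    have := hall (i.toNat + 1) i (by omega) (z : R)
    rwa [π_same z.2] at this

theorem eq_smul [IsAlgClosed k] [Algebra.FiniteType k R] (hpos : ∀ n : ℤ, n < 0 → 𝒜 n = ⊥)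
    (h1 : ringKrullDim R = 1) {d : ℤ} (hd : 0 < d) {a : R} (ha : a ∈ 𝒜 d) (hane : a ≠ 0)
    {b : R} (hb : b ∈ 𝒜 d) : ∃ c : k, b = c • a := by
  classical
  rcases eq_or_ne b 0 with rfl | hb0
  · exact ⟨0, (zero_smul k a).symm⟩
  haveI := finite_adjoin hpos h1 hd ha hane
  obtain ⟨Q, hQm, hQ⟩ := Algebra.IsIntegral.isIntegral (R := Algebra.adjoin k ({a} : Set R)) b
  have hcoef : ∀ i, ∃ P : Polynomial k, Polynomial.aeval a P = (Q.coeff i : R) := fun i =>
    (Algebra.adjoin_singleton_eq_range_aeval k a).le (Q.coeff i).2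
  choose P hP using hcoef
  have key : ∀ i, i ≤ Q.natDegree → π 𝒜 (Q.natDegree * d) ((Q.coeff i : R) * b ^ i) =
      (P i).coeff (Q.natDegree - i) • (a ^ (Q.natDegree - i) * b ^ i) := by
    intro i hi
    rw [← hP i, Polynomial.aeval_eq_sum_range' (n := (P i).natDegree + (Q.natDegree - i) + 1) (by omega),
      Finset.sum_mul, map_sum, Finset.sum_eq_single (Q.natDegree - i)]
    · rw [smul_mul_assoc, map_smul, π_same]
      have := SetLike.mul_mem_graded (pow_mem ha (Q.natDegree - i)) (pow_mem hb i)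
      rwa [← add_mul, ← Nat.cast_add, Nat.sub_add_cancel hi] at this
    · intro l _ hl
      rw [smul_mul_assoc, map_smul,
        π_ne (SetLike.mul_mem_graded (pow_mem ha l) (pow_mem hb i)) ?_, smul_zero]
      rw [← add_mul, ← Nat.cast_add]
      intro h
      have h' := mul_right_cancel₀ hd.ne' h
      omega
    · intro h
      exact absurd (Finset.mem_range.2 (by omega)) h
  have hsum : ∑ i ∈ Finset.range (Q.natDegree + 1),
      (P i).coeff (Q.natDegree - i) • (a ^ (Q.natDegree - i) * b ^ i) = 0 := by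
    have h := congrArg (π 𝒜 (Q.natDegree * d)) hQ
    rw [map_zero, Polynomial.eval₂_eq_sum_range, map_sum] at h
    rw [← h]
    exact Finset.sum_congr rfl fun i hi => (key i (by simp at hi; omega)).symm
  have hem : (P Q.natDegree).coeff 0 = 1 := by
    have h := key Q.natDegree le_rfl
    rw [hQm.coeff_natDegree, OneMemClass.coe_one, one_mul, π_same (pow_mem hb _), Nat.sub_self,
      pow_zero, one_mul] at h
    exact ((smul_left_injective k (pow_ne_zero Q.natDegree hb0))
      (show (1 : k) • b ^ Q.natDegree = (P Q.natDegree).coeff 0 • b ^ Q.natDegree by rw [one_smul]; exact h)).symm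
  let f : R →ₐ[k] FractionRing R := IsScalarTower.toAlgHom k R (FractionRing R)
  have hfa : f a ≠ 0 := fun h => hane (IsFractionRing.injective R (FractionRing R) (h.trans (map_zero _).symm))
  have hint : IsIntegral k (f b / f a) := by
    refine ⟨∑ i ∈ Finset.range (Q.natDegree + 1), Polynomial.monomial i ((P i).coeff (Q.natDegree - i)), ?_, ?_⟩
    · rw [Finset.sum_range_succ, Nat.sub_self, hem, add_comm, ← Polynomial.X_pow_eq_monomial]
      refine Polynomial.monic_X_pow_add (lt_of_le_of_lt (Polynomial.degree_sum_le _ _) ?_)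
      refine (Finset.sup_lt_iff (WithBot.bot_lt_coe Q.natDegree)).2 fun i hi => ?_
      exact lt_of_le_of_lt (Polynomial.degree_monomial_le _ _) (WithBot.coe_lt_coe.2 (Finset.mem_range.1 hi))
    · rw [Polynomial.eval₂_finset_sum]
      have h := congrArg f hsum
      rw [map_sum, map_zero] at h
      refine (mul_eq_zero.1 ?_).resolve_left (pow_ne_zero Q.natDegree hfa)
      rw [Finset.mul_sum, ← h]
      refine Finset.sum_congr rfl fun i hi => ?_
      obtain ⟨j, hj⟩ := Nat.exists_eq_add_of_le (show i ≤ Q.natDegree by simp at hi; omega)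
      rw [Polynomial.eval₂_monomial, map_smul, map_mul, map_pow, map_pow, Algebra.smul_def, hj,
        Nat.add_sub_cancel_left, pow_add, div_pow]
      field_simp
  obtain ⟨c, hc⟩ := minpoly.mem_range_of_degree_eq_one k (f b / f a)
    (IsAlgClosed.degree_eq_one_of_irreducible k (minpoly.irreducible hint))
  refine ⟨c, IsFractionRing.injective R (FractionRing R) ?_⟩
  change f b = f (c • a)
  rw [map_smul, Algebra.smul_def]
  exact (div_eq_iff hfa).1 hc.symm

theorem exists_pos [Algebra.FiniteType k R] (hpos : ∀ n : ℤ, n < 0 → 𝒜 n = ⊥)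
    (h0 : 𝒜 0 = Submodule.span k {(1 : R)}) (h1 : ringKrullDim R = 1) :
    ∃ d : ℤ, 0 < d ∧ ∃ a ∈ 𝒜 d, a ≠ 0 := by
  by_contra hno
  push Not at hno
  have hsurj : Function.Surjective (algebraMap k R) := fun x => by
    have : x ∈ LinearMap.range (Algebra.linearMap k R) := by
      induction x using DirectSum.Decomposition.inductionOn 𝒜 with
      | zero => exact zero_mem _
      | add x y hx hy => exact add_mem hx hy
      | @homogeneous i z =>
        rcases lt_trichotomy i 0 with h | rfl | h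
        · have hz := z.2
          simp only [hpos i h, Submodule.mem_bot] at hz
          exact ⟨0, by rw [hz, map_zero]⟩
        · have hz : (z : R) ∈ Submodule.span k {(1 : R)} := h0 ▸ z.2
          obtain ⟨c, hc⟩ := Submodule.mem_span_singleton.1 hz
          exact ⟨c, by rw [← hc, Algebra.linearMap_apply, Algebra.algebraMap_eq_smul_one]⟩
        · exact ⟨0, by rw [hno i h _ z.2, map_zero]⟩
    exact this
  have := ringKrullDim_le_of_surjective _ hsurj
  rw [h1, ringKrullDim_eq_zero_of_field] at this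
  exact absurd this (not_le.2 zero_lt_one)

variable [IsAlgClosed k] [Algebra.FiniteType k R]

/-- A rational point at which no nonzero homogeneous element vanishes. -/
theorem exists_point (hpos : ∀ n : ℤ, n < 0 → 𝒜 n = ⊥) (h0 : 𝒜 0 = Submodule.span k {(1 : R)})
    (h1 : ringKrullDim R = 1) :
    ∃ χ : R →ₐ[k] k, (∀ n, ∀ x ∈ 𝒜 n, χ x = 0 → x = 0) := by
  obtain ⟨d, hd, a, ha, hane⟩ := exists_pos hpos h0 h1
  haveI : IsJacobsonRing R := isJacobsonRing_of_finiteType (A := k) (B := R)
  obtain ⟨M, hM, haM⟩ : ∃ M : Ideal R, M.IsMaximal ∧ a ∉ M := by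
    by_contra hcon
    push Not at hcon
    have h : a ∈ (⊥ : Ideal R).jacobson := Ideal.mem_sInf.2 fun M hM => hcon M hM.2
    rw [(isJacobsonRing_iff_prime_eq.1 inferInstance) ⊥ Ideal.isPrime_bot, Ideal.mem_bot] at h
    exact hane h
  letI : Field (R ⧸ M) := Ideal.Quotient.field M
  haveI : Module.Finite k (R ⧸ M) := finite_of_finite_type_of_isJacobsonRing k (R ⧸ M)
  let e := AlgEquiv.ofBijective (Algebra.ofId k (R ⧸ M))
    (IsAlgClosed.algebraMap_bijective_of_isIntegral (k := k) (K := R ⧸ M))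
  let χ : R →ₐ[k] k := e.symm.toAlgHom.comp (Ideal.Quotient.mkₐ k M)
  have hχa : χ a ≠ 0 := fun h => haM (Ideal.Quotient.eq_zero_iff_mem.1
    ((map_eq_zero_iff _ e.symm.injective).1 h))
  refine ⟨χ, fun n x hx hχ => ?_⟩
  rcases lt_trichotomy n 0 with h | rfl | h
  · rwa [hpos n h, Submodule.mem_bot] at hx
  · rw [h0, Submodule.mem_span_singleton] at hx
    obtain ⟨c, rfl⟩ := hx
    rw [map_smul, map_one, smul_eq_mul, mul_one] at hχ
    rw [hχ, zero_smul]
  · have h2 : x ^ d.toNat ∈ 𝒜 (d * n) := by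
      have := pow_mem hx d.toNat
      rwa [Int.toNat_of_nonneg hd.le] at this
    have h3 : a ^ n.toNat ∈ 𝒜 (d * n) := by
      have := pow_mem ha n.toNat
      rwa [Int.toNat_of_nonneg h.le, mul_comm] at this
    obtain ⟨c, hc⟩ := eq_smul hpos h1 (mul_pos hd h) h3 (pow_ne_zero _ hane) h2
    have h4 := congrArg χ hc
    rw [map_pow, hχ, zero_pow (by omega), map_smul, smul_eq_mul, map_pow] at h4
    have hc0 : c = 0 := (mul_eq_zero.1 h4.symm).resolve_right (pow_ne_zero _ hχa)
    rw [hc0, zero_smul] at hc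
    exact pow_eq_zero_iff (by omega) |>.1 hc

/-- The degrees of nonzero pieces. -/
def degrees (𝒜 : ℤ → Submodule k R) [GradedAlgebra 𝒜] : AddSubmonoid ℕ where
  carrier := {n | 𝒜 n ≠ ⊥}
  zero_mem' := by
    intro h
    have h1 : (1 : R) ∈ 𝒜 0 := SetLike.one_mem_graded 𝒜
    rw [show ((0 : ℕ) : ℤ) = 0 from rfl] at h
    rw [h, Submodule.mem_bot] at h1
    exact one_ne_zero h1
  add_mem' := by
    intro n m hn hm h
    obtain ⟨x, hx, hx0⟩ := Submodule.exists_mem_ne_zero_of_ne_bot hn
    obtain ⟨y, hy, hy0⟩ := Submodule.exists_mem_ne_zero_of_ne_bot hm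
    have hxy := SetLike.mul_mem_graded hx hy
    rw [← Nat.cast_add, h, Submodule.mem_bot] at hxy
    exact mul_ne_zero hx0 hy0 hxy

omit [IsAlgClosed k] [Algebra.FiniteType k R] in
theorem exists_iso (hpos : ∀ n : ℤ, n < 0 → 𝒜 n = ⊥) (χ : R →ₐ[k] k)
    (hχ : ∀ n, ∀ x ∈ 𝒜 n, χ x = 0 → x = 0) :
    Nonempty (AddMonoidAlgebra k (degrees 𝒜) ≃ₐ[k] R) := by
  classical
  have hex : ∀ n : degrees 𝒜, ∃ x ∈ 𝒜 ((n : ℕ) : ℤ), χ x = 1 := fun n => by
    obtain ⟨x, hx, hx0⟩ := Submodule.exists_mem_ne_zero_of_ne_bot n.2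
    have hne : χ x ≠ 0 := fun h => hx0 (hχ _ x hx h)
    exact ⟨(χ x)⁻¹ • x, Submodule.smul_mem _ _ hx, by rw [map_smul, smul_eq_mul, inv_mul_cancel₀ hne]⟩
  choose e he he1 using hex
  have huniq : ∀ (n : ℤ) (x y : R), x ∈ 𝒜 n → y ∈ 𝒜 n → χ x = χ y → x = y := fun n x y hx hy h =>
    sub_eq_zero.1 (hχ n _ (sub_mem hx hy) (by rw [map_sub, h, sub_self]))
  let F : Multiplicative (degrees 𝒜) →* R :=
    { toFun := fun n => e (Multiplicative.toAdd n)
      map_one' := huniq 0 _ _ (he 0) (SetLike.one_mem_graded 𝒜) ((he1 0).trans (map_one χ).symm)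
      map_mul' := fun n m => by
        refine huniq _ _ _ (he (Multiplicative.toAdd n + Multiplicative.toAdd m)) ?_
          ((he1 _).trans (by rw [map_mul, he1, he1, one_mul]))
        have := SetLike.mul_mem_graded (he (Multiplicative.toAdd n)) (he (Multiplicative.toAdd m))
        rwa [← Nat.cast_add] at this }
  let Ψ : AddMonoidAlgebra k (degrees 𝒜) →ₐ[k] R := AddMonoidAlgebra.lift k R (degrees 𝒜) F
  have hΨ : ∀ f : AddMonoidAlgebra k (degrees 𝒜), ∀ n : degrees 𝒜,
      χ (π 𝒜 ((n : ℕ) : ℤ) (Ψ f)) = f.coeff n := by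
    intro f n
    induction f using AddMonoidAlgebra.induction_linear with
    | zero => simp
    | add f g hf hg => simp [map_add, hf, hg]
    | single m c =>
      rw [show Ψ (AddMonoidAlgebra.single m c) = c • e m from AddMonoidAlgebra.lift_single ..,
        map_smul, map_smul, smul_eq_mul]
      rcases eq_or_ne m n with rfl | h
      · rw [π_same (he m), he1, mul_one]; simp
      · rw [π_ne (he m) (fun e => h (Subtype.ext (by exact_mod_cast e))), map_zero, mul_zero]
        simp [h]
  refine ⟨AlgEquiv.ofBijective Ψ ⟨(injective_iff_map_eq_zero Ψ).2 fun f hf => ?_, fun x => ?_⟩⟩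
  · ext n
    rw [← hΨ f n, hf, map_zero, map_zero]
    rfl
  · suffices x ∈ Ψ.range from this
    induction x using DirectSum.Decomposition.inductionOn 𝒜 with
    | zero => exact zero_mem _
    | add x y hx hy => exact add_mem hx hy
    | @homogeneous i z =>
      rcases eq_or_ne (z : R) 0 with hz | hz
      · rw [hz]; exact zero_mem _
      have hi : 0 ≤ i := by
        by_contra h
        have := z.2
        simp only [hpos i (by omega), Submodule.mem_bot] at this
        exact hz this
      have hmem : i.toNat ∈ degrees 𝒜 := fun h => hz (by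
        have := z.2
        rw [← Submodule.mem_bot k, ← h, Int.toNat_of_nonneg hi]
        exact this)
      refine ⟨AddMonoidAlgebra.single ⟨_, hmem⟩ (χ z), ?_⟩
      change Ψ _ = _
      rw [show Ψ (AddMonoidAlgebra.single _ (χ z)) = χ z • e ⟨_, hmem⟩ from AddMonoidAlgebra.lift_single ..]
      have he' := he ⟨_, hmem⟩
      rw [show (((⟨i.toNat, hmem⟩ : degrees 𝒜) : ℕ) : ℤ) = i from Int.toNat_of_nonneg hi] at he'
      exact huniq i _ _ (Submodule.smul_mem _ _ he') z.2 (by rw [map_smul, he1, smul_eq_mul, mul_one])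

end GrothLib.GrLC.DimOne
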