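import Groth.Agent.Lib.GrLC.ExtVanish
import Groth.Agent.Lib.GrLC.CoreHeight
import Groth.Agent.Lib.LC.Shift

/-!
# Graded homomorphisms; `Ext` of graded modules is seen at the irrelevant ideal
-/

universe u

open DirectSum CategoryTheory CategoryTheory.Abelian

namespace GrothLib.GrLC

open _root_.GrLC (GMod IsGrHom)

noncomputable section

section HomMod

variable {ι : Type} [AddCommGroup ι] [DecidableEq ι] {R : Type u} [CommRing R] {σ : Type u} [SetLike σ R]
  [AddSubgroupClass σ R] {𝒜 : ι → σ} [GradedRing 𝒜] (X Y : GMod.{u} 𝒜) [Module.Finite R X.carrier]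

/-- the maps of degree `d` -/
def homGr (d : ι) : AddSubgroup (X.carrier →ₗ[R] Y.carrier) :=
  (_root_.GrLC.homDeg 𝒜 X.gr Y.gr d).toAddSubgroup

omit [Module.Finite R X.carrier] in
theorem homCmp_of_mem {d e : ι} {f : X.carrier →ₗ[R] Y.carrier} (hf : f ∈ homGr X Y e) :
    homCmp X Y f d = if e = d then f else 0 := by
  refine LinearMap.ext fun x => ?_
  induction x using gr_induction X.gr with
  | h0 => rw [map_zero, map_zero]
  | hadd a b ha hb => rw [map_add, map_add, ha, hb]
  | hh g x hx =>
    change homCmpAdd X Y f d x = _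
    rw [homCmpAdd_of_mem X Y f hx]
    split_ifs with h
    · subst h; exact cmp_of_mem Y.gr (hf g x hx)
    · exact cmp_of_mem_ne Y.gr (hf g x hx) fun h' => h (add_left_cancel h')

theorem homGr_isInternal : IsInternal (homGr X Y) := by
  refine isInternal_of_proj _ (fun d => AddMonoidHom.mk' (fun f => homCmp X Y f d) fun f f' => ?_)
    (fun d f hf => (homCmp_of_mem X Y hf).trans (if_pos rfl))
    (fun d e hne f hf => (homCmp_of_mem X Y hf).trans (if_neg hne))
    (fun d f => isHom_homCmp X Y f d) (fun f => exists_sum_homCmp X Y f)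
  refine LinearMap.ext fun x => ?_
  induction x using gr_induction X.gr with
  | h0 => simp
  | hadd a b ha hb => simp only [map_add, ha, hb]
  | hh g x hx =>
    change homCmpAdd X Y (f + f') d x = homCmpAdd X Y f d x + homCmpAdd X Y f' d x
    rw [homCmpAdd_of_mem X Y _ hx, homCmpAdd_of_mem X Y _ hx, homCmpAdd_of_mem X Y _ hx, LinearMap.add_apply, map_add]

/-- The graded module of homomorphisms out of a finite module. -/
abbrev homMod : GMod.{u} 𝒜 where
  carrier := X.carrier →ₗ[R] Y.carrier
  gr := homGr X Y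
  dec := (homGr_isInternal X Y).chooseDecomposition
  gsmul := ⟨fun {i d r f} hr hf => fun g x hx => by
    rw [LinearMap.smul_apply, vadd_eq_add, add_left_comm]
    exact smul_mem' Y.gr hr (hf g x hx)⟩

variable {Y} {X' : GMod.{u} 𝒜} [Module.Finite R X'.carrier]

theorem isHom_lcomp {f : X'.carrier →ₗ[R] X.carrier} (hf : IsHom f) :
    IsHom (X := homMod X Y) (Y := homMod X' Y) (LinearMap.lcomp R Y.carrier f) :=
  fun _ _ hh g x hx => hh g _ (hf g x hx)

end HomMod

section Pos

variable {R : Type u} [CommRing R] {σ : Type u} [SetLike σ R] [AddSubgroupClass σ R] {𝒜 : ℤ → σ} [GradedRing 𝒜]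
  (hpos : ∀ n : ℤ, n < 0 → ∀ r ∈ 𝒜 n, r = 0) {s : R} (hs : IsUnit (cmp 𝒜 0 s))

include hpos hs

/-- An element with invertible degree zero component acts injectively modulo a homogeneous submodule. -/
theorem mem_of_smul_mem (Z : GMod.{u} 𝒜) {W : Submodule R Z.carrier} (hW : W.IsHomogeneous Z.gr) {z : Z.carrier}
    (h : s • z ∈ W) : z ∈ W := by
  classical
  by_contra hz
  obtain ⟨S, hS⟩ := exists_sum_cmp Z.gr z
  let B := S.filter fun g => cmp Z.gr g z ∉ W
  have hB : B.Nonempty := by
    by_contra hB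
    refine hz (hS ▸ sum_mem fun g hg => not_not.1 fun hg' => hB ⟨g, Finset.mem_filter.2 ⟨hg, hg'⟩⟩)
  obtain ⟨g₀, hg₀, hmin⟩ := B.exists_min_image id hB
  have hlow : ∀ j, j < g₀ → cmp Z.gr j z ∈ W := fun j hj => by
    by_contra hjW
    by_cases hjS : j ∈ S
    · exact absurd (hmin j (Finset.mem_filter.2 ⟨hjS, hjW⟩)) (not_le.2 hj)
    · refine hjW ?_
      rw [eq_cmp_of_proj Z j z (fun h => cmp_mem Z.gr h z) hS, if_neg hjS]
      exact zero_mem _
  have key : ∀ r : R, cmp Z.gr g₀ (r • z) - cmp 𝒜 0 r • cmp Z.gr g₀ z ∈ W := by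
    intro r
    induction r using gr_induction 𝒜 with
    | h0 => simp
    | hadd a b ha hb =>
      rw [add_smul, map_add, map_add, add_smul, add_sub_add_comm]
      exact add_mem ha hb
    | hh i r hr =>
      rw [cmp_smul_of_mem Z.gr hr]
      rcases lt_trichotomy i 0 with hi | rfl | hi
      · rw [hpos i hi r hr]; simp
      · rw [sub_zero, cmp_of_mem 𝒜 hr, sub_self]; exact zero_mem _
      · rw [cmp_of_mem_ne 𝒜 hr hi.ne', zero_smul, sub_zero]
        exact W.smul_mem _ (hlow _ (by omega))
  have h1 : cmp 𝒜 0 s • cmp Z.gr g₀ z ∈ W := by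
    have hh : cmp Z.gr g₀ (s • z) ∈ W := hW g₀ h
    have := sub_mem hh (key s)
    rwa [sub_sub_cancel] at this
  exact (Finset.mem_filter.1 hg₀).2 ((Submodule.smul_mem_iff_of_isUnit W hs).1 h1)

/-- `Ext` of finite graded modules killed by such an element vanishes. -/
theorem subsingleton_ext_of_killed [IsNoetherianRing R] : ∀ (i : ℕ) (X Y : GMod.{u} 𝒜), Module.Finite R X.carrier →
    (∀ e : Ext.{u} (ModuleCat.of R X.carrier) (ModuleCat.of R Y.carrier) i, s • e = 0) →
      Subsingleton (Ext.{u} (ModuleCat.of R X.carrier) (ModuleCat.of R Y.carrier) i) := by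
  intro i
  induction i with
  | zero =>
    intro X Y hX h
    refine subsingleton_of_forall_eq 0 fun e => ?_
    obtain ⟨φ, rfl⟩ := (Ext.mk₀_bijective _ _).2 e
    have h0 := h (Ext.mk₀ φ)
    rw [← Ext.mk₀_smul, ← Ext.mk₀_zero, (Ext.mk₀_bijective _ _).1.eq_iff] at h0
    have : φ.hom = 0 := (Submodule.mem_bot R).1 (mem_of_smul_mem hpos hs (homMod X Y) isHomogeneous_bot
      ((Submodule.mem_bot R).2 (congrArg ModuleCat.Hom.hom h0)))
    rw [show φ = 0 from ModuleCat.hom_ext this, Ext.mk₀_zero]
  | succ n ih =>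
    intro X Y hX h
    obtain ⟨κ, _, deg, gen, hgen, hspan⟩ := exists_homogeneous_generators X
    let F : GMod.{u} 𝒜 := pi fun a : κ => shift (gmod 𝒜 𝒜) (-deg a)
    let π : F.carrier →ₗ[R] X.carrier := (Fintype.linearCombination R gen : (κ → R) →ₗ[R] X.carrier)
    have hπ : IsHom π := fun g (v : κ → R) hv => by
      change Fintype.linearCombination R gen v ∈ X.gr g
      rw [Fintype.linearCombination_apply]
      refine sum_mem fun a _ => ?_
      have := smul_mem' X.gr (show v a ∈ 𝒜 (g + -deg a) from hv a trivial) (hgen a)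
      rwa [neg_add_cancel_right] at this
    have hsurj : Function.Surjective π := by
      change Function.Surjective (Fintype.linearCombination R gen : (κ → R) →ₗ[R] X.carrier)
      rw [← LinearMap.range_eq_top, Fintype.range_linearCombination, hspan]
    let K : GMod.{u} 𝒜 := sub F (LinearMap.ker π) (isHomogeneous_ker hπ)
    have hFn : IsNoetherian R F.carrier := (inferInstance : IsNoetherian R (κ → R))
    have hF : Module.Finite R F.carrier := (inferInstance : Module.Finite R (κ → R))
    have hK : Module.Finite R K.carrier := (inferInstance : Module.Finite R (LinearMap.ker π))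
    have hproj : Module.Projective R F.carrier := (inferInstance : Module.Projective R (κ → R))
    have hP : Projective (ModuleCat.of R F.carrier) :=
      (IsProjective.iff_projective (R := R) F.carrier).1 hproj
    let S : ShortComplex (ModuleCat.{u} R) :=
      .mk (ModuleCat.ofHom (X := K.carrier) (Y := F.carrier) (LinearMap.ker π).subtype) (ModuleCat.ofHom π)
        (ModuleCat.hom_ext (LinearMap.ext fun x : LinearMap.ker π => x.2))
    have hS : S.ShortExact :=
      { exact := (ShortComplex.ShortExact.moduleCat_exact_iff_function_exact S).2 (LinearMap.exact_subtype_ker_map π)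
        mono_f := (ModuleCat.mono_iff_injective _).2 (Submodule.subtype_injective _)
        epi_g := (ModuleCat.epi_iff_surjective _).2 hsurj }
    refine subsingleton_of_forall_eq 0 fun e => ?_
    obtain ⟨x₁, rfl⟩ := Ext.contravariant_sequence_exact₃ hS (ModuleCat.of R Y.carrier) e
      (@Ext.eq_zero_of_projective _ _ _ _ _ _ _ hP _) (n₀ := n) (by omega)
    rcases n with - | n
    · obtain ⟨φ, rfl⟩ := (Ext.mk₀_bijective _ _).2 x₁
      have h0 := h (hS.extClass.comp (Ext.mk₀ φ) (by omega))
      rw [← Ext.comp_smul, ← Ext.mk₀_smul] at h0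
      obtain ⟨y, hy⟩ := Ext.contravariant_sequence_exact₁ hS _ _ (by omega) h0
      obtain ⟨ψ, rfl⟩ := (Ext.mk₀_bijective _ _).2 y
      rw [Ext.mk₀_comp_mk₀, (Ext.mk₀_bijective _ _).1.eq_iff] at hy
      have hres := isHom_lcomp (Y := Y) F (X' := K) (f := (LinearMap.ker π).subtype) (isHom_subtype F _ _)
      obtain ⟨ψ', hψ'⟩ := mem_of_smul_mem hpos hs (homMod K Y) (isHomogeneous_range hres) (z := φ.hom)
        ⟨ψ.hom, congrArg ModuleCat.Hom.hom hy⟩
      rw [show φ = S.f ≫ ModuleCat.ofHom ψ' from ModuleCat.hom_ext hψ'.symm, ← Ext.mk₀_comp_mk₀,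
        ← Ext.comp_assoc_of_second_deg_zero, hS.extClass_comp, Ext.zero_comp]
    · have := ih K Y hK fun a => by
        obtain ⟨y, hy⟩ := Ext.contravariant_sequence_exact₁ hS (ModuleCat.of R Y.carrier) (s • a) (n₁ := n + 1 + 1)
          (by omega) ((Ext.comp_smul _ _ _ _).trans (h _))
        refine hy.symm.trans ?_
        rw [@Ext.eq_zero_of_projective _ _ _ _ _ _ _ hP y, Ext.comp_zero]
        rfl
      exact (congrArg (fun y => hS.extClass.comp y _) (@Subsingleton.elim _ this x₁ 0)).trans
        (Ext.comp_zero _ _ _ _ _)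

end Pos

end

end GrothLib.GrLC
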