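import Groth.Agent.Lib.GrBass.CoreDim
import Groth.Agent.Lib.GrBass.GorLocal
import Groth.Agent.Lib.GrpSchField.HeightMax
import Groth.Agent.Lib.GradedAlg.Basic
import Groth.Agent.Lib.LC.BaseChange
import Groth.Agent.Lib.LC.Seq

/-!
# Gluing Cohen–Macaulay cones
-/

universe u v

open CategoryTheory

namespace GrothLib.GrLC.GlueCM

/-- If every minimal prime lies below a maximal ideal, its height is the dimension. -/
theorem height_eq_ringKrullDim (K : Type u) [Field K] {B : Type v} [CommRing B] [Algebra K B]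
    [Algebra.FiniteType K B] (M : Ideal B) [hM : M.IsMaximal] (hmin : ∀ q ∈ minimalPrimes B, q ≤ M) :
    (M.height : WithBot ℕ∞) = ringKrullDim B := by
  refine le_antisymm (Ideal.height_le_ringKrullDim_of_ne_top hM.ne_top) ?_
  rw [ringKrullDim, Order.krullDim]
  refine iSup_le fun l => ?_
  obtain ⟨q, hq, hqh⟩ := Ideal.exists_minimalPrimes_le (bot_le : (⊥ : Ideal B) ≤ l.head.asIdeal)
  haveI : q.IsPrime := hq.1.1
  have hqM : q ≤ M := hmin q hq
  obtain ⟨N, hN, hlN⟩ := Ideal.exists_le_maximal l.last.asIdeal l.last.isPrime.ne_top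
  haveI := hN
  have hqN : q ≤ N :=
    hqh.trans ((PrimeSpectrum.asIdeal_le_asIdeal _ _ |>.2 (LTSeries.head_le l _)).trans hlN)
  haveI : (M.map (Ideal.Quotient.mk q)).IsMaximal :=
    (Ideal.map_eq_top_or_isMaximal_of_surjective _ Ideal.Quotient.mk_surjective hM).resolve_left fun h => by
      have := congrArg (Ideal.comap (Ideal.Quotient.mk q)) h
      rw [Ideal.comap_map_of_surjective _ Ideal.Quotient.mk_surjective, ← RingHom.ker_eq_comap_bot,
        Ideal.mk_ker, sup_eq_left.2 hqM, Ideal.comap_top] at this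
      exact hM.ne_top this
  haveI : (N.map (Ideal.Quotient.mk q)).IsMaximal :=
    (Ideal.map_eq_top_or_isMaximal_of_surjective _ Ideal.Quotient.mk_surjective hN).resolve_left fun h => by
      have := congrArg (Ideal.comap (Ideal.Quotient.mk q)) h
      rw [Ideal.comap_map_of_surjective _ Ideal.Quotient.mk_surjective, ← RingHom.ker_eq_comap_bot,
        Ideal.mk_ker, sup_eq_left.2 hqN, Ideal.comap_top] at this
      exact hN.ne_top this
  have h1 := GrothLib.GrBass.length_le_height_map q N hqN l hqh hlN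
  have h2 := GrothLib.GrpSchField.height_eq_ringKrullDim_of_isMaximal K (B ⧸ q) (N.map (Ideal.Quotient.mk q))
  rw [← GrothLib.GrpSchField.height_eq_ringKrullDim_of_isMaximal K (B ⧸ q) (M.map (Ideal.Quotient.mk q))] at h2
  have h3 : (M.map (Ideal.Quotient.mk q)).height ≤ M.height :=
    GrothLib.GrBass.height_map_le q M hqM M.height fun l' _ hl' => by
      rw [← show ((⟨M, hM.isPrime⟩ : PrimeSpectrum B).asIdeal) = M from rfl,
        PrimeSpectrum.height_eq_orderHeight]
      exact Order.length_le_height (p := l') hl'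
  have : (l.length : ℕ∞) ≤ M.height := h1.trans ((WithBot.coe_inj.1 h2).le.trans h3)
  exact_mod_cast WithBot.coe_le_coe.2 this

section Glue

variable {R : Type v} [CommRing R] [IsNoetherianRing R] (a : Ideal R)

theorem subsingleton_H_glue {X₁ X₂ X₃ : Type v} [AddCommGroup X₁] [AddCommGroup X₂] [AddCommGroup X₃]
    [Module R X₁] [Module R X₂] [Module R X₃] (f : X₁ →ₗ[R] X₂) (g : X₂ →ₗ[R] X₃)
    (hf : Function.Injective f) (hg : Function.Surjective g) (hfg : LinearMap.range f = LinearMap.ker g) :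
    ∃ hS : (ShortComplex.mk (ModuleCat.ofHom f) (ModuleCat.ofHom g)
      (ModuleCat.hom_ext (LinearMap.ext fun x => (hfg.le ⟨x, rfl⟩ : f x ∈ LinearMap.ker g)))).ShortExact, True :=
  ⟨{ exact := (ShortComplex.moduleCat_exact_iff _).2 fun x hx => hfg.ge hx
     mono_f := (ModuleCat.mono_iff_injective _).2 hf
     epi_g := (ModuleCat.epi_iff_surjective _).2 hg }, trivial⟩

theorem subsingleton_H_prod {X Y : Type v} [AddCommGroup X] [AddCommGroup Y] [Module R X] [Module R Y] (i : ℕ)
    (hX : Subsingleton ((localCohomology a i).obj (ModuleCat.of R X)))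
    (hY : Subsingleton ((localCohomology a i).obj (ModuleCat.of R Y))) :
    Subsingleton ((localCohomology a i).obj (ModuleCat.of R (X × Y))) :=
  GrothLib.LC.subsingleton₂ a (subsingleton_H_glue (LinearMap.inl R X Y) (LinearMap.snd R X Y)
    LinearMap.inl_injective LinearMap.snd_surjective (LinearMap.range_inl R X Y)).choose i hX hY

theorem subsingleton_zero {S : ShortComplex (ModuleCat.{v} R)} (hS : S.ShortExact)
    (h : Subsingleton ((localCohomology a 0).obj S.X₂)) : Subsingleton ((localCohomology a 0).obj S.X₁) := by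
  have h2 : Subsingleton (DRing.torsionSub a S.X₂) :=
    (GrothLib.LC.torsionEquiv a S.X₂).toEquiv.subsingleton_congr.2 h
  refine (GrothLib.LC.torsionEquiv a S.X₁).toEquiv.subsingleton_congr.1
    (subsingleton_of_forall_eq 0 fun x => Subtype.ext ?_)
  obtain ⟨n, hn⟩ := x.2
  have hx : S.f.hom x.1 ∈ DRing.torsionSub a S.X₂ :=
    ⟨n, fun r hr => by rw [← map_smul, hn r hr, map_zero]⟩
  have h0 : S.f.hom x.1 = 0 := congrArg Subtype.val (Subsingleton.elim (⟨_, hx⟩ : DRing.torsionSub a S.X₂) 0)
  exact (ModuleCat.mono_iff_injective S.f).1 hS.mono_f (h0.trans (map_zero S.f.hom).symm)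

/-- Local cohomology of a Cohen–Macaulay local quotient over the big local ring. -/
theorem subsingleton_H_quotient [IsLocalRing R] {T : Type v} [CommRing T] [Algebra R T]
    [LocCoh.IsCohenMacaulayLocalRing T] (hsurj : Function.Surjective (algebraMap R T)) {d : ℕ}
    (hd : ringKrullDim T = d) {i : ℕ} (hi : i < d) :
    Subsingleton ((localCohomology (IsLocalRing.maximalIdeal R) i).obj (ModuleCat.of R T)) := by
  rw [← GrothLib.LC.subsingleton_map_iff (R' := T),
    show (IsLocalRing.maximalIdeal R).map (algebraMap R T) = IsLocalRing.maximalIdeal T from ?_]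
  · exact GrothLib.GrBass.subsingleton_H_of_cm hd hi.ne
  · have hmax : (IsLocalRing.maximalIdeal T).comap (algebraMap R T) = IsLocalRing.maximalIdeal R :=
      IsLocalRing.eq_maximalIdeal (Ideal.comap_isMaximal_of_surjective _ hsurj)
    rw [← hmax, Ideal.map_comap_of_surjective _ hsurj]

/-- The Cohen–Macaulay gluing lemma. -/
theorem isCohenMacaulayLocalRing_of_glue [IsLocalRing R] {T₁ T₂ T₃ : Type v} [CommRing T₁] [CommRing T₂]
    [CommRing T₃] [Algebra R T₁] [Algebra R T₂] [Algebra R T₃] [LocCoh.IsCohenMacaulayLocalRing T₁]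
    [LocCoh.IsCohenMacaulayLocalRing T₂] [LocCoh.IsCohenMacaulayLocalRing T₃]
    (h₁ : Function.Surjective (algebraMap R T₁)) (h₂ : Function.Surjective (algebraMap R T₂))
    (h₃ : Function.Surjective (algebraMap R T₃))
    (hinf : RingHom.ker (algebraMap R T₁) ⊓ RingHom.ker (algebraMap R T₂) = ⊥)
    (hsup : RingHom.ker (algebraMap R T₃) = RingHom.ker (algebraMap R T₁) ⊔ RingHom.ker (algebraMap R T₂))
    {e : ℕ} (d₁ : ringKrullDim T₁ = e) (d₂ : ringKrullDim T₂ = e)
    (d₃ : ringKrullDim T₃ = ((e - 1 : ℕ) : WithBot ℕ∞)) (hR : ringKrullDim R = e) :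
    LocCoh.IsCohenMacaulayLocalRing R := by
  have hlift : ∀ {T : Type v} [CommRing T] [Algebra R T], RingHom.ker (algebraMap R T) ≤ RingHom.ker (algebraMap R T₃) →
      Function.Surjective (algebraMap R T) → ∃ u : T →ₗ[R] T₃, ∀ r, u (algebraMap R T r) = algebraMap R T₃ r := by
    intro T _ _ hle hs
    have hle' : LinearMap.ker (Algebra.linearMap R T) ≤ LinearMap.ker (Algebra.linearMap R T₃) := hle
    refine ⟨((LinearMap.ker (Algebra.linearMap R T)).liftQ (Algebra.linearMap R T₃) hle') ∘ₗ
      ((Algebra.linearMap R T).quotKerEquivOfSurjective hs).symm.toLinearMap, fun r => ?_⟩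
    have : ((Algebra.linearMap R T).quotKerEquivOfSurjective hs).symm (algebraMap R T r) =
        Submodule.Quotient.mk r := by
      rw [LinearEquiv.symm_apply_eq]; rfl
    rw [LinearMap.comp_apply, LinearEquiv.coe_coe, this]
    exact Submodule.liftQ_apply _ _ r
  obtain ⟨u, hu⟩ := hlift (T := T₁) (hsup.ge.trans' le_sup_left) h₁
  obtain ⟨w, hw⟩ := hlift (T := T₂) (hsup.ge.trans' le_sup_right) h₂
  let f : R →ₗ[R] T₁ × T₂ := (Algebra.linearMap R T₁).prod (Algebra.linearMap R T₂)
  let g : T₁ × T₂ →ₗ[R] T₃ := u.coprod (-w)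
  have hf : Function.Injective f := by
    rw [← LinearMap.ker_eq_bot, LinearMap.ker_prod]
    exact hinf
  have hg : Function.Surjective g := fun t => by
    obtain ⟨r, rfl⟩ := h₃ t
    exact ⟨(algebraMap R T₁ r, 0), by simp [g, hu]⟩
  have hfg : LinearMap.range f = LinearMap.ker g := by
    refine le_antisymm ?_ ?_
    · rintro _ ⟨r, rfl⟩
      simp [f, g, hu, hw]
    · rintro ⟨x, y⟩ hxy
      obtain ⟨r, rfl⟩ := h₁ x
      obtain ⟨s, rfl⟩ := h₂ y
      have hmem : r - s ∈ RingHom.ker (algebraMap R T₃) := by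
        simp [g, hu, hw, ← sub_eq_add_neg] at hxy
        rw [RingHom.mem_ker, map_sub, hxy]
      rw [hsup] at hmem
      obtain ⟨a, ha, b, hb, hab⟩ := Submodule.mem_sup.1 hmem
      refine ⟨r - a, Prod.ext ?_ ?_⟩
      · change algebraMap R T₁ (r - a) = _
        rw [map_sub, RingHom.mem_ker.1 ha, sub_zero]
      · change algebraMap R T₂ (r - a) = _
        rw [show r - a = s + b by linear_combination -hab, map_add, RingHom.mem_ker.1 hb, add_zero]
  obtain ⟨hS, -⟩ := subsingleton_H_glue f g hf hg hfg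
  have hH : ∀ i < e, Subsingleton (LocCoh.H (IsLocalRing.maximalIdeal R) i R) := by
    intro i hi
    have h2 := subsingleton_H_prod (IsLocalRing.maximalIdeal R) i
      (subsingleton_H_quotient h₁ d₁ hi) (subsingleton_H_quotient h₂ d₂ hi)
    cases i with
    | zero =>
      exact subsingleton_zero (IsLocalRing.maximalIdeal R) hS h2
    | succ j => exact GrothLib.LC.subsingleton₁ _ hS j h2 (subsingleton_H_quotient h₃ d₃ (by omega))
  have hdepth : (e : ℕ∞) ≤ LocCoh.depth R R := (GrothLib.Depth.le_idealDepth_iff_H _ e).2 hH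
  refine { supportDim_eq_depth := le_antisymm ?_ (GrothLib.Depth.depth_le_supportDim R R) }
  rw [Module.supportDim_self_eq_ringKrullDim, hR]
  exact_mod_cast hdepth

end Glue

end GrothLib.GrLC.GlueCM
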