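import Groth.Agent.Lib.GrLC.Hull
import Mathlib.RingTheory.Ideal.Quotient.Operations
import Mathlib.RingTheory.Finiteness.Ideal

/-!
# *Injective envelopes of `R ⧸ p`
-/

universe u

open DirectSum

namespace GrothLib.GrLC

open _root_.GrLC (GMod IsGrHom IsStarInj IsStarEss IsStarInjHull quotGr)

variable {ι : Type} [AddCommGroup ι] [DecidableEq ι] {R : Type u} [CommRing R] {σ : Type u} [SetLike σ R]
  [AddSubgroupClass σ R] {𝒜 : ι → σ} [GradedRing 𝒜]

theorem isSMulRegular_quot (p : Ideal R) [p.IsPrime] {r : R} (hr : r ∉ p) : IsSMulRegular (R ⧸ p) r := by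
  intro a b hab
  obtain ⟨a, rfl⟩ := Ideal.Quotient.mk_surjective a
  obtain ⟨b, rfl⟩ := Ideal.Quotient.mk_surjective b
  have h : Ideal.Quotient.mk p (r * a) = Ideal.Quotient.mk p (r * b) := hab
  rw [Ideal.Quotient.eq, ← mul_sub] at h
  exact Ideal.Quotient.eq.2 ((Ideal.IsPrime.mem_or_mem ‹p.IsPrime› h).resolve_left hr)

theorem smul_quot_eq_zero (p : Ideal R) {r : R} (hr : r ∈ p) (m : R ⧸ p) : r • m = 0 := by
  obtain ⟨a, rfl⟩ := Ideal.Quotient.mk_surjective m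
  exact Ideal.Quotient.eq_zero_iff_mem.2 (p.mul_mem_right a hr)

theorem exists_ne_zero_homogeneous_of_not_le {p q : HomogeneousIdeal 𝒜} (h : ¬q.toIdeal ≤ p.toIdeal) :
    ∃ (g : ι) (r : R), r ∈ 𝒜 g ∧ r ∈ q.toIdeal ∧ r ∉ p.toIdeal := by
  obtain ⟨x, hx, hxp⟩ := SetLike.not_le_iff_exists.1 h
  by_contra hcon
  push_neg at hcon
  obtain ⟨S, hS⟩ := exists_sum_cmp 𝒜 x
  rw [hS] at hxp
  exact hxp (sum_mem fun g _ => hcon g _ (cmp_mem 𝒜 g x) (q.isHomogeneous g hx))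

/-- The envelope of `R ⧸ p` is `p`-torsion. -/
theorem gam_eq_top [IsNoetherianRing R] {p : HomogeneousIdeal 𝒜} {X : GMod.{u} 𝒜}
    {e : (R ⧸ p.toIdeal) →ₗ[R] X.carrier} (he : IsStarEss (quotGr 𝒜 p) X.gr e) :
    _root_.GrLC.gam p.toIdeal X.carrier = ⊤ := by
  refine Submodule.eq_top_iff'.2 fun x => ?_
  induction x using gr_induction X.gr with
  | h0 => exact zero_mem _
  | hh j x hx =>
    have hle : p.toIdeal ≤ Ideal.radical (LinearMap.ker (LinearMap.toSpanSingleton R X.carrier x) : Ideal R) := by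
      intro r hr
      obtain ⟨S, hS⟩ := exists_sum_cmp 𝒜 r
      rw [hS]
      refine sum_mem fun g _ => ?_
      obtain ⟨n, hn⟩ := exists_pow_smul_eq_zero he (cmp_mem 𝒜 g r) (smul_quot_eq_zero p.toIdeal (p.isHomogeneous g hr)) hx
      exact ⟨n, hn⟩
    obtain ⟨n, hn⟩ := Ideal.exists_pow_le_of_le_radical_of_fg hle (IsNoetherian.noetherian _)
    exact ⟨n, fun r hr => hn hr⟩
  | hadd a b ha hb => exact add_mem ha hb

theorem isHomogeneous_range_of_spans {M : Type u} [AddCommGroup M] [Module R M] {τ : Type u} [SetLike τ M]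
    [AddSubgroupClass τ M] {ℳ : ι → τ} [Decomposition ℳ] {X : GMod.{u} 𝒜} {f : M →ₗ[R] X.carrier}
    (hf : IsGrHom ℳ X.gr f) : (LinearMap.range f).IsHomogeneous X.gr := by
  rintro g _ ⟨x, rfl⟩
  exact ⟨cmp ℳ g x, map_cmp hf g x⟩

end GrothLib.GrLC
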