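import Groth.Agent.Lib.GrLC.ExtGraded
import Groth.Agent.Lib.GrLC.CoreGen
import Groth.Agent.Lib.GrLC.ExtLoc
import Groth.Agent.Lib.Gor.InjDim

/-!
# Finite injective dimension of a graded module is seen at the irrelevant ideal
-/

universe u

open CategoryTheory CategoryTheory.Abelian
open GrothLib.Gor (SmallAt smallAt_step smallAt_ext_of_forall_prime smul_eq_zero_of_source)

namespace GrothLib.GrLC

open _root_.GrLC (GMod)

noncomputable section

variable {R : Type u} [CommRing R] [IsNoetherianRing R]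

omit [IsNoetherianRing R] in
/-- A maximal ideal and an element outside it kill nothing but zero. -/
theorem subsingleton_of_smallAt {M : Ideal R} [hM : M.IsMaximal] {E : Type*} [AddCommGroup E] [Module R E]
    (h : SmallAt M E) (hk : ∀ j ∈ M, ∀ e : E, j • e = 0) : Subsingleton E := by
  obtain ⟨s, hs, hse⟩ := h
  obtain ⟨a, j, hj, haj⟩ := hM.exists_inv hs
  refine subsingleton_of_forall_eq 0 fun e => ?_
  rw [← one_smul R e, ← haj, add_smul, mul_smul, hse, hk j hj, smul_zero, add_zero]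

omit [IsNoetherianRing R] in
theorem smul_quotient_eq_zero {M : Ideal R} (Y : ModuleCat.{u} R) (i : ℕ) {j : R} (hj : j ∈ M)
    (e : Ext (ModuleCat.of R (R ⧸ M)) Y i) : j • e = 0 :=
  smul_eq_zero_of_source (fun x => by
    obtain ⟨x, rfl⟩ := Ideal.Quotient.mk_surjective x
    exact Ideal.Quotient.eq_zero_iff_mem.2 (M.mul_mem_right x hj)) e

/-- Finite injective dimension at a maximal ideal kills the `Ext`s of its residue field. -/
theorem subsingleton_ext_residue (M : Ideal R) [M.IsMaximal] (Y : ModuleCat.{u} R) {N : ℕ}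
    (h : HasInjectiveDimensionLT (Y.localizedModule M.primeCompl) N) {i : ℕ} (hi : N ≤ i) :
    Subsingleton (Ext (ModuleCat.of R (R ⧸ M)) Y i) := by
  have hk := (ExtLoc.subsingleton_ext_localized_iff (S := M.primeCompl) (Y := Y) i (ModuleCat.of R (R ⧸ M))).1
    (HasInjectiveDimensionLT.subsingleton _ N i hi _)
  refine subsingleton_of_forall_eq 0 fun e => ?_
  obtain ⟨⟨s, hs⟩, hse⟩ := hk e
  obtain ⟨a, j, hj, haj⟩ := (‹M.IsMaximal›).exists_inv hs
  rw [← one_smul R e, ← haj, add_smul, mul_smul, show s • e = 0 from hse, smul_quotient_eq_zero Y i hj, smul_zero,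
    add_zero]

variable (Y : ModuleCat.{u} R) [Module.Finite R Y] {N : ℕ}

/-- Vanishing at a maximal ideal spreads to every finite module. -/
theorem smallAt_ext_finite (M : Ideal R) [hM : M.IsMaximal]
    (h : ∀ i, N ≤ i → Subsingleton (Ext (ModuleCat.of R (R ⧸ M)) Y i))
    (F : Type u) [AddCommGroup F] [Module R F] [Module.Finite R F] {i : ℕ} (hi : N ≤ i) :
    SmallAt M (Ext (ModuleCat.of R F) Y i) := by
  have hM1 : (1 : R) ∉ M := (Ideal.ne_top_iff_one M).1 hM.ne_top
  suffices key : ∀ (P : Ideal R), P.IsPrime → ∀ i, N ≤ i → SmallAt M (Ext (ModuleCat.of R (R ⧸ P)) Y i) from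
    smallAt_ext_of_forall_prime Y i M F fun P _ => key P.asIdeal P.2 i hi
  intro P
  induction P using WellFoundedGT.induction with
  | ind P ih =>
  intro hP i hi
  by_cases hPM : P ≤ M
  · rcases eq_or_lt_of_le hPM with rfl | hlt
    · haveI := h i hi
      exact ⟨1, hM1, fun e => Subsingleton.elim _ _⟩
    obtain ⟨x, hxM, hxP⟩ := Set.exists_of_ssubset hlt
    refine smallAt_step Y i M P hxP hxM (smallAt_ext_of_forall_prime Y (i + 1) M _ fun Q hQ => ?_)
    rw [Module.mem_support_iff_of_finite, Ideal.annihilator_quotient] at hQ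
    exact ih Q.asIdeal (lt_of_le_of_ne (le_sup_left.trans hQ) fun e =>
      hxP (e ▸ hQ (Ideal.mem_sup_right (Ideal.mem_span_singleton_self x)))) Q.2 (i + 1) (by omega)
  · obtain ⟨s, hsP, hsM⟩ := SetLike.not_le_iff_exists.1 hPM
    exact ⟨s, hsM, smul_quotient_eq_zero Y i hsP⟩

section Graded

variable {σ : Type u} [SetLike σ R] [AddSubgroupClass σ R] {𝒜 : ℤ → σ} [GradedRing 𝒜]
  (hpos : ∀ n : ℤ, n < 0 → ∀ r ∈ 𝒜 n, r = 0) (h0 : IsField (_root_.GrLC.deg0 𝒜))
  {m : HomogeneousIdeal 𝒜} (hm : _root_.GrLC.IsStarLocal 𝒜 m)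
  (hirr : ∀ n : ℤ, 0 < n → ∀ r ∈ 𝒜 n, r ∈ m.toIdeal)

include hpos h0 hirr in
omit [IsNoetherianRing R] in
theorem isUnit_cmp_zero {s : R} (hs : s ∉ m.toIdeal) : IsUnit (cmp 𝒜 0 s) := by
  have hne : cmp 𝒜 0 s ≠ 0 := by
    intro h
    obtain ⟨S, hS⟩ := exists_sum_cmp 𝒜 s
    refine hs (hS ▸ sum_mem fun g _ => ?_)
    rcases lt_trichotomy g 0 with hg | rfl | hg
    · rw [hpos g hg _ (cmp_mem 𝒜 g s)]; exact zero_mem _
    · rw [h]; exact zero_mem _
    · exact hirr g hg _ (cmp_mem 𝒜 g s)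
  obtain ⟨b, hb⟩ := h0.mul_inv_cancel (a := (⟨cmp 𝒜 0 s, cmp_mem 𝒜 0 s⟩ : _root_.GrLC.deg0 𝒜))
    fun h => hne (congrArg Subtype.val h)
  exact IsUnit.of_mul_eq_one _ (congrArg Subtype.val hb)

include hpos h0 hm hirr in
/-- If the `Ext`s of the residue field eventually vanish, the injective dimension is finite. -/
theorem hasInjectiveDimensionLT_graded {ℳ : ℤ → AddSubgroup Y} [DirectSum.Decomposition ℳ]
    [SetLike.GradedSMul 𝒜 ℳ] (h : ∀ i, N ≤ i → Subsingleton (Ext (ModuleCat.of R (R ⧸ m.toIdeal)) Y i)) :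
    HasInjectiveDimensionLT Y (N + 2) := by
  classical
  haveI hmm := isMaximal_of_isStarLocal hpos hm
  have hmax : ∀ (M : Ideal R), M.IsMaximal → ∀ i, N + 1 ≤ i → Subsingleton (Ext (ModuleCat.of R (R ⧸ M)) Y i) := by
    intro M hM i hi
    have hqp : (M.homogeneousCore 𝒜).toIdeal.IsPrime := Ideal.IsPrime.homogeneousCore (𝒜 := 𝒜) hM.isPrime
    have hle : M.homogeneousCore 𝒜 ≤ m := le_of_isStarLocal hm fun h => hqp.ne_top (by
      rw [h, HomogeneousIdeal.toIdeal_top])
    by_cases hMh : M.IsHomogeneous 𝒜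
    · rw [hM.eq_of_le hmm.ne_top ((hMh.toIdeal_homogeneousCore_eq_self).symm.le.trans hle)]
      exact h i (by omega)
    obtain ⟨c, hcM, hcq, hgen⟩ := exists_core_gen hMh
    set q := (M.homogeneousCore 𝒜).toIdeal with hq
    let X : GMod.{u} 𝒜 := quot (gmod 𝒜 𝒜) (q : Submodule R (gmod 𝒜 𝒜).carrier) (fun g r hr => by
      have e := cmp_eq_proj (gmod 𝒜 𝒜) (g := g) (cmp (M := R) 𝒜 g) (fun y hy => cmp_of_mem 𝒜 hy)
        (fun h hne y hy => cmp_of_mem_ne 𝒜 hy hne) r
      exact (congrArg (· ∈ (q : Submodule R R)) e).mpr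
        (HomogeneousIdeal.isHomogeneous (M.homogeneousCore 𝒜) g hr))
    have hX : Module.Finite R X.carrier := (inferInstance : Module.Finite R (R ⧸ q))
    let Y' : GMod.{u} 𝒜 := gmod 𝒜 ℳ
    have hq0 : ∀ j, N ≤ j → Subsingleton (Ext (ModuleCat.of R (R ⧸ q)) Y j) := fun j hj => by
      obtain ⟨s, hs, hse⟩ := smallAt_ext_finite Y m.toIdeal h (R ⧸ q) hj
      exact subsingleton_ext_of_killed hpos (isUnit_cmp_zero hpos h0 hirr hs) j X Y' hX hse
    let S : ShortComplex (ModuleCat.{u} R) :=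
      ShortComplex.mk (X₁ := ModuleCat.of R (R ⧸ q)) (X₂ := ModuleCat.of R (R ⧸ q))
        (X₃ := ModuleCat.of R (R ⧸ (q ⊔ Ideal.span {c})))
        (c • 𝟙 _) (ModuleCat.ofHom (Submodule.factor le_sup_left))
        (ModuleCat.hom_ext (LinearMap.ext fun z => by
          obtain ⟨z, rfl⟩ := Submodule.Quotient.mk_surjective _ z
          exact (Submodule.Quotient.mk_eq_zero _).2 (Ideal.mem_sup_right
            (Ideal.mul_mem_right z _ (Ideal.mem_span_singleton_self c)))))
    have hS : S.ShortExact :=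
      { exact := (ShortComplex.moduleCat_exact_iff _).2 fun z hz => by
          obtain ⟨z, rfl⟩ := Submodule.Quotient.mk_surjective _ z
          obtain ⟨a, ha, b, hb, rfl⟩ := Submodule.mem_sup.1 ((Submodule.Quotient.mk_eq_zero _).1 hz)
          obtain ⟨d, rfl⟩ := Ideal.mem_span_singleton'.1 hb
          refine ⟨Submodule.Quotient.mk d, (Submodule.Quotient.eq q).2 ?_⟩
          show c * d - (a + d * c) ∈ q
          rw [mul_comm c d, sub_add_cancel_right]
          exact neg_mem ha
        mono_f := (ModuleCat.mono_iff_injective _).2 ((injective_iff_map_eq_zero _).2 fun z hz => by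
          obtain ⟨z, rfl⟩ := Submodule.Quotient.mk_surjective _ z
          exact (Submodule.Quotient.mk_eq_zero _).2
            ((hqp.mem_or_mem ((Submodule.Quotient.mk_eq_zero q).1 hz)).resolve_left hcq))
        epi_g := (ModuleCat.epi_iff_surjective _).2 (Submodule.factor_surjective le_sup_left) }
    obtain ⟨j, rfl⟩ : ∃ j, i = j + 1 := ⟨i - 1, by omega⟩
    have hmid : Subsingleton (Ext S.X₃ Y (j + 1)) := subsingleton_of_forall_eq 0 fun e => by
      obtain ⟨y, rfl⟩ := Ext.contravariant_sequence_exact₃ hS Y e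
        (Subsingleton.elim (h := hq0 (j + 1) (by omega)) _ _) (n₀ := j) (by omega)
      exact (congrArg (fun y => hS.extClass.comp y _) (Subsingleton.elim (h := hq0 j (by omega)) y 0)).trans
        (Ext.comp_zero _ _ _ _ _)
    have hqc : q ⊔ Ideal.span {c} ≤ M :=
      sup_le (Ideal.toIdeal_homogeneousCore_le 𝒜 M) ((Ideal.span_singleton_le_iff_mem M).2 hcM)
    let π : (R ⧸ (q ⊔ Ideal.span {c})) →ₗ[R] R ⧸ M := Submodule.factor hqc
    let T : ShortComplex (ModuleCat.{u} R) :=
      ShortComplex.mk (ModuleCat.ofHom (LinearMap.ker π).subtype) (ModuleCat.ofHom π)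
        (ModuleCat.hom_ext (LinearMap.ext fun x : LinearMap.ker π => x.2))
    have hT : T.ShortExact :=
      { exact := (ShortComplex.ShortExact.moduleCat_exact_iff_function_exact T).2 (LinearMap.exact_subtype_ker_map π)
        mono_f := (ModuleCat.mono_iff_injective _).2 (Submodule.subtype_injective _)
        epi_g := (ModuleCat.epi_iff_surjective _).2 (Submodule.factor_surjective hqc) }
    obtain ⟨G, hG⟩ := IsNoetherian.noetherian (M : Submodule R R)
    choose s w hs hsw using fun b : G => hgen b.1 (hG ▸ Submodule.subset_span b.2)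
    have hprod : (∏ b, s b) ∉ M := fun hmem => by
      obtain ⟨b, -, hb⟩ := (hM.isPrime.prod_mem_iff).1 hmem
      exact hs b hb
    have hkill : ∀ z : LinearMap.ker π, (∏ b, s b) • z = 0 := by
      rintro ⟨z, hz⟩
      obtain ⟨z, rfl⟩ := Submodule.Quotient.mk_surjective _ z
      refine Subtype.ext ((Submodule.Quotient.mk_eq_zero _).2 ?_)
      have hzM : z ∈ M := (Submodule.Quotient.mk_eq_zero M).1 hz
      rw [← hG] at hzM
      clear hz
      change (∏ b, s b) * z ∈ q ⊔ Ideal.span {c}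
      induction hzM using Submodule.span_induction with
      | mem b hb =>
        rw [Finset.prod_eq_prod_sdiff_singleton_mul (Finset.mem_univ (⟨b, hb⟩ : G)), mul_assoc]
        refine Ideal.mul_mem_left _ _ ?_
        have h1 := hsw ⟨b, hb⟩
        refine Submodule.mem_sup.2 ⟨_, h1, w ⟨b, hb⟩ * c, Ideal.mem_span_singleton'.2 ⟨_, rfl⟩, ?_⟩
        exact sub_add_cancel _ _
      | zero => rw [mul_zero]; exact zero_mem _
      | add a b _ _ ha hb => rw [mul_add]; exact add_mem ha hb
      | smul r a _ ha => rw [smul_eq_mul, mul_left_comm]; exact Ideal.mul_mem_left _ _ ha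
    refine subsingleton_of_smallAt (M := M) ⟨∏ b, s b, hprod, fun e => ?_⟩ fun r hr => smul_quotient_eq_zero Y _ hr
    obtain ⟨y, hy⟩ := Ext.contravariant_sequence_exact₃ hT Y e (Subsingleton.elim (h := hmid) _ _) (n₀ := j) (by omega)
    refine (congrArg ((∏ b, s b) • ·) hy.symm).trans ?_
    change (∏ b, s b) • hT.extClass.comp y _ = 0
    rw [← Ext.comp_smul, smul_eq_zero_of_source (X := T.X₁) hkill y, Ext.comp_zero]
  refine GrothLib.Serre.hasInjectiveDimensionLT_of_cyclic (N + 1) Y fun I => ?_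
  refine subsingleton_of_forall_eq 0 fun e => ?_
  by_contra he
  obtain ⟨M, hM, hJM⟩ := Ideal.exists_le_maximal (LinearMap.ker (LinearMap.toSpanSingleton R _ e)) fun h1 => by
    have : (1 : R) • e = 0 := LinearMap.mem_ker.1 (h1.ge (Submodule.mem_top (x := (1 : R))))
    rw [one_smul] at this
    exact he this
  obtain ⟨s, hs, hse⟩ := smallAt_ext_finite Y M (hmax M hM) (R ⧸ I) (i := N + 1 + 1) (by omega)
  exact hs (hJM (LinearMap.mem_ker.2 (hse e)))

end Graded

end

end GrothLib.GrLC
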