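import Groth.Agent.Lib.GrLC.Tools

/-!
# The graded Koszul complex, degree propagation of vanishing, generation degrees
-/

universe u

open DirectSum

namespace GrothLib.GrLC

open _root_.GrLC (GMod IsGrHom)

variable {ι : Type} [AddCommGroup ι] [DecidableEq ι] {R : Type u} [CommRing R] {σ : Type u} [SetLike σ R]
  [AddSubgroupClass σ R] {𝒜 : ι → σ} [GradedRing 𝒜]

section Def

variable (x : HElt 𝒜)

theorem smul_mem_shift (X : GMod.{u} 𝒜) {g : ι} {c : X.carrier} (hc : c ∈ X.gr g) :
    x.val • c ∈ X.gr (g + x.deg) := by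
  rw [add_comm]
  exact smul_mem' X.gr x.mem hc

/-- terms -/
noncomputable def kextX (C : GCx.{u} 𝒜) : ℕ → GMod.{u} 𝒜
  | 0 => C.X 0
  | n + 1 => prod (C.X (n + 1)) (shift (C.X n) x.deg)

/-- differentials -/
noncomputable def kextd (C : GCx.{u} 𝒜) : ∀ n, (kextX x C n).carrier →ₗ[R] (kextX x C (n + 1)).carrier
  | 0 => LinearMap.prod (C.d 0) (LinearMap.lsmul R (C.X 0).carrier x.val)
  | n + 1 => LinearMap.prod (C.d (n + 1) ∘ₗ LinearMap.fst R (C.X (n + 1)).carrier (C.X n).carrier)
      (LinearMap.lsmul R (C.X (n + 1)).carrier x.val ∘ₗ LinearMap.fst R (C.X (n + 1)).carrier (C.X n).carrier -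
        C.d n ∘ₗ LinearMap.snd R (C.X (n + 1)).carrier (C.X n).carrier)

/-- the cone of multiplication by `x` -/
noncomputable def kext (C : GCx.{u} 𝒜) : GCx.{u} 𝒜 where
  X := kextX x C
  d := kextd x C
  d_hom := fun
    | 0 => fun g z hz => ⟨C.d_hom 0 g z hz, smul_mem_shift x (C.X 0) hz⟩
    | n + 1 => fun g z hz => ⟨C.d_hom (n + 1) g _ hz.1,
        AddSubgroup.sub_mem _ (smul_mem_shift x (C.X (n + 1)) hz.1) (C.d_hom n _ _ hz.2)⟩
  d_d := fun
    | 0, z => by
      change (C.X 0).carrier at z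
      refine Prod.ext (C.d_d 0 z) ?_
      change x.val • C.d 0 z - C.d 0 (x.val • z) = 0
      rw [map_smul, sub_self]
    | n + 1, z => by
      change (C.X (n + 1)).carrier × (C.X n).carrier at z
      obtain ⟨c, e⟩ := z
      refine Prod.ext (C.d_d (n + 1) c) ?_
      change x.val • C.d (n + 1) c - C.d (n + 1) (x.val • c - C.d n e) = 0
      rw [map_sub, map_smul, C.d_d, sub_zero, sub_self]

end Def

variable (X : GMod.{u} 𝒜)

/-- the Koszul complex -/
noncomputable def kos : List (HElt 𝒜) → GCx.{u} 𝒜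
  | [] => single X
  | x :: l => kext x (kos l)

/-- multiplication by `y` is null-homotopic -/
def NullHtp (C : GCx.{u} 𝒜) (y : R) : Prop :=
  ∃ h : ∀ n, (C.X (n + 1)).carrier →ₗ[R] (C.X n).carrier,
    (∀ n z, C.d n (h n z) + h (n + 1) (C.d (n + 1) z) = y • z) ∧ ∀ z, h 0 (C.d 0 z) = y • z

theorem nullHtp_self (x : HElt 𝒜) (C : GCx.{u} 𝒜) : NullHtp (kext x C) x.val := by
  refine ⟨fun
    | 0 => LinearMap.snd R (C.X 1).carrier (C.X 0).carrier
    | n + 1 => LinearMap.inl R (C.X (n + 1)).carrier (C.X n).carrier ∘ₗ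
        LinearMap.snd R (C.X (n + 1 + 1)).carrier (C.X (n + 1)).carrier, ?_, fun z => rfl⟩
  rintro (_ | n) z <;> [change (C.X 1).carrier × (C.X 0).carrier at z; change (C.X (n + 1 + 1)).carrier × (C.X (n + 1)).carrier at z] <;>
    obtain ⟨c, e⟩ := z
  · refine Prod.ext ?_ ?_
    · change C.d 0 e + (x.val • c - C.d 0 e) = x.val • c
      rw [add_sub_cancel]
    · change x.val • e + 0 = x.val • e
      rw [add_zero]
  · refine Prod.ext ?_ ?_
    · change C.d (n + 1) e + (x.val • c - C.d (n + 1) e) = x.val • c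
      rw [add_sub_cancel]
    · change (x.val • e - C.d n (0 : (C.X n).carrier)) + 0 = x.val • e
      rw [map_zero, sub_zero, add_zero]

theorem nullHtp_ext (x : HElt 𝒜) {C : GCx.{u} 𝒜} {y : R} (hy : NullHtp C y) : NullHtp (kext x C) y := by
  obtain ⟨h, h1, h0⟩ := hy
  refine ⟨fun
    | 0 => h 0 ∘ₗ LinearMap.fst R (C.X 1).carrier (C.X 0).carrier
    | n + 1 => LinearMap.prod (h (n + 1) ∘ₗ LinearMap.fst R (C.X (n + 1 + 1)).carrier (C.X (n + 1)).carrier)
        (-(h n ∘ₗ LinearMap.snd R (C.X (n + 1 + 1)).carrier (C.X (n + 1)).carrier)), ?_, fun z => h0 z⟩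
  rintro (_ | n) z <;> [change (C.X 1).carrier × (C.X 0).carrier at z; change (C.X (n + 1 + 1)).carrier × (C.X (n + 1)).carrier at z] <;>
    obtain ⟨c, e⟩ := z
  · refine Prod.ext (h1 0 c) ?_
    change x.val • h 0 c + -(h 0 (x.val • c - C.d 0 e)) = y • e
    rw [map_sub, map_smul, h0, neg_sub, add_sub_cancel]
  · refine Prod.ext (h1 (n + 1) c) ?_
    change (x.val • h (n + 1) c - C.d n (-(h n e))) + -(h (n + 1) (x.val • c - C.d (n + 1) e)) = y • e
    rw [map_neg, sub_neg_eq_add, map_sub, map_smul, ← h1 n e]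
    abel

theorem nullHtp_kos : ∀ (l : List (HElt 𝒜)), ∀ y ∈ l, NullHtp (kos X l) y.val
  | x :: l, y, hy => (List.mem_cons.1 hy).elim (fun e => e ▸ nullHtp_self x (kos X l))
      fun h => nullHtp_ext x (nullHtp_kos l y h)

theorem smul_mem_bdy_kos {l : List (HElt 𝒜)} {y : HElt 𝒜} (hy : y ∈ l) (p : ℕ) {z : ((kos X l).X p).carrier}
    (hz : z ∈ (kos X l).cyc p) : y.val • z ∈ (kos X l).bdy p := by
  obtain ⟨h, h1, h0⟩ := nullHtp_kos X l y hy
  cases p with
  | zero =>
    rw [← h0 z, show (kos X l).d 0 z = 0 from hz, map_zero]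
    exact zero_mem _
  | succ p =>
    rw [← h1 p z, show (kos X l).d (p + 1) z = 0 from hz, map_zero, add_zero]
    exact ⟨_, rfl⟩

theorem kos_eq_zero_of_length : ∀ (l : List (HElt 𝒜)) (n : ℕ), l.length < n →
    ∀ z : ((kos X l).X n).carrier, z = 0
  | [], n + 1, _, z => singleX_succ_eq_zero X n z
  | x :: l, n + 1, h, z => Prod.ext (kos_eq_zero_of_length l (n + 1) (by simp at h; omega) z.1)
      (kos_eq_zero_of_length l n (by simp at h; omega) z.2)

theorem exists_top : ∀ (l : List (HElt 𝒜)) (e : ι), (∀ y ∈ l, y.deg = e) →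
    ∃ f : X.carrier →ₗ[R] ((kos X l).X l.length).carrier, Function.Bijective f ∧
      IsHom (X := shift X (l.length • e)) (Y := (kos X l).X l.length) f
  | [], e, _ => ⟨LinearMap.id, Function.bijective_id, fun g m hm => by
      have : m ∈ X.gr (g + (0 : ℕ) • e) := hm
      rwa [zero_nsmul, add_zero] at this⟩
  | x :: l, e, h => by
    obtain ⟨f, hf, hfg⟩ := exists_top l e fun y hy => h y (List.mem_cons_of_mem _ hy)
    refine ⟨LinearMap.inr R ((kos X l).X (l.length + 1)).carrier ((kos X l).X l.length).carrier ∘ₗ f,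
      ⟨fun a b hab => hf.1 (congrArg Prod.snd hab), fun z => ?_⟩, fun g m hm => ⟨zero_mem _, ?_⟩⟩
    · obtain ⟨m, hm⟩ := hf.2 z.2
      exact ⟨m, Prod.ext (kos_eq_zero_of_length X l (l.length + 1) (Nat.lt_succ_self _) z.1).symm hm⟩
    · refine hfg (g + x.deg) m ?_
      change m ∈ X.gr (g + x.deg + l.length • e)
      rw [h x (List.mem_cons_self ..), add_assoc, add_comm e, ← succ_nsmul]
      exact hm

variable {X}

theorem van_kos_X (L : List (HElt 𝒜)) {i : ℕ} :
    ∀ (l : List (HElt 𝒜)) (e : ι), (∀ y ∈ l, y.deg = e) → ∀ (q : ℕ) (g : ι),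
      Van L X i (g + q • e) → Van L ((kos X l).X q) i g
  | [], e, _, 0, g, h => by rw [zero_nsmul, add_zero] at h; exact h
  | [], e, _, q + 1, g, _ => by
    have : Subsingleton ((kos X []).X (q + 1)).carrier :=
      ⟨fun a b => (singleX_succ_eq_zero X q a).trans (singleX_succ_eq_zero X q b).symm⟩
    exact van_of_subsingleton i g
  | x :: l, e, he, 0, g, h => van_kos_X L l e (fun y hy => he y (List.mem_cons_of_mem _ hy)) 0 g h
  | x :: l, e, he, q + 1, g, h => by
    refine van_prod (van_kos_X L l e (fun y hy => he y (List.mem_cons_of_mem _ hy)) (q + 1) g h)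
      ((van_shift x.deg i g).2 (van_kos_X L l e (fun y hy => he y (List.mem_cons_of_mem _ hy)) q _ ?_))
    rwa [he x (List.mem_cons_self ..), add_assoc, add_comm e, ← succ_nsmul]

theorem range_kos_le (J : Ideal R) : ∀ (l : List (HElt 𝒜)), (∀ y ∈ l, y.val ∈ J) →
    ∀ q z, (kos X l).d q z ∈ J • (⊤ : Submodule R ((kos X l).X (q + 1)).carrier)
  | [], _, _, _ => zero_mem _
  | x :: l, h, q, z => by
    have hp : ∀ (A B : Type u) [AddCommGroup A] [Module R A] [AddCommGroup B] [Module R B] (a : A) (b : B),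
        a ∈ J • (⊤ : Submodule R A) → b ∈ J • (⊤ : Submodule R B) → (a, b) ∈ J • (⊤ : Submodule R (A × B)) := by
      intro A B _ _ _ _ a b ha hb
      have ha' := Submodule.mem_map_of_mem (f := LinearMap.inl R A B) ha
      have hb' := Submodule.mem_map_of_mem (f := LinearMap.inr R A B) hb
      rw [Submodule.map_smul''] at ha' hb'
      have := add_mem (Submodule.smul_mono le_rfl le_top ha') (Submodule.smul_mono le_rfl le_top hb')
      simpa using this
    have ih := range_kos_le J l fun y hy => h y (List.mem_cons_of_mem _ hy)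
    cases q with
    | zero =>
      exact hp _ _ _ _ (ih 0 z) (Submodule.smul_mem_smul (h x (List.mem_cons_self ..)) Submodule.mem_top)
    | succ q =>
      exact hp ((kos X l).X (q + 1 + 1)).carrier ((kos X l).X (q + 1)).carrier _ _ (ih (q + 1) z.1)
        (sub_mem (Submodule.smul_mem_smul (h x (List.mem_cons_self ..)) Submodule.mem_top) (ih q z.2))

variable {l : List (HElt 𝒜)} {e : ι} (he : ∀ y ∈ l, y.deg = e)

include he

theorem van_bdy_kos {i : ℕ} (hi : 1 ≤ i) {g : ι}
    (h : ∀ j, j < l.length → Van l X (i + j) (g - j • e)) :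
    Van l (sub ((kos X l).X l.length) ((kos X l).bdy l.length) ((kos X l).isHomogeneous_bdy _)) i
      (g + e - l.length • e) := by
  refine van_bdy (kos X l) (fun p z hz y hy => ⟨1, by rw [pow_one]; exact smul_mem_bdy_kos X hy p hz⟩)
    l.length i hi fun j s hs => van_kos_X l l e he s _ ?_
  have h' := h j (by omega)
  rwa [show g + e - l.length • e + s • e = g - j • e from by
    rw [show l.length = j + s + 1 from hs.symm, add_nsmul, add_nsmul, one_nsmul]; abel]

/-- Vanishing propagates one degree up. -/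
theorem van_step {i : ℕ} (hi : 1 ≤ i) {g : ι} (h : ∀ j, j < l.length → Van l X (i + j) (g - j • e)) :
    Van l X i (g + e) := by
  obtain ⟨f, hf, hfg⟩ := exists_top X l e he
  have h1 : Van l ((kos X l).X l.length) i (g + e - l.length • e) := by
    refine (cechMap_ses (X := sub ((kos X l).X l.length) ((kos X l).bdy l.length) ((kos X l).isHomogeneous_bdy _))
      (Y := (kos X l).X l.length)
      (Z := quot ((kos X l).X l.length) ((kos X l).bdy l.length) ((kos X l).isHomogeneous_bdy _))
      (isHom_subtype ((kos X l).X l.length) _ _) (isHom_mkQ _ _ _) (Submodule.subtype_injective _)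
      (Submodule.mkQ_surjective _) (LinearMap.exact_subtype_mkQ _) l).vanish_mid (van_bdy_kos he hi h)
      (van_torsion (fun y hy m => ?_) hi)
    obtain ⟨q, rfl⟩ := Submodule.mkQ_surjective _ m
    refine ⟨1, ?_⟩
    rw [pow_one]
    exact (map_smul (Submodule.mkQ ((kos X l).bdy l.length)) y.val q).symm.trans
      ((Submodule.Quotient.mk_eq_zero _).2 (smul_mem_bdy_kos X hy _
        (show q ∈ (kos X l).cyc l.length from kos_eq_zero_of_length X l _ (Nat.lt_succ_self _) _)))
  have h2 := (van_congr_hom (X := shift X (l.length • e)) f hfg hf i _).2 h1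
  rwa [van_shift, sub_add_cancel] at h2

/-- Vanishing gives that a piece lies in `J M`. -/
theorem mem_smul_top_of_van (J : Ideal R) (hJ : ∀ y ∈ l, y.val ∈ J) {g : ι} (h0 : Van l X 0 (g + e))
    (h : ∀ j, j < l.length → Van l X (1 + j) (g - j • e)) {m : X.carrier} (hm : m ∈ X.gr (g + e)) :
    m ∈ J • (⊤ : Submodule R X.carrier) := by
  obtain ⟨f, hf, hfg⟩ := exists_top X l e he
  have h1 : Van l ((kos X l).X l.length) 0 (g + e - l.length • e) := by
    refine (van_congr_hom (X := shift X (l.length • e)) f hfg hf 0 _).1 ?_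
    rw [van_shift, sub_add_cancel]
    exact h0
  have hQ : Van l (quot ((kos X l).X l.length) ((kos X l).bdy l.length) ((kos X l).isHomogeneous_bdy _)) 0
      (g + e - l.length • e) :=
    (cechMap_ses (X := sub ((kos X l).X l.length) ((kos X l).bdy l.length) ((kos X l).isHomogeneous_bdy _))
      (Y := (kos X l).X l.length)
      (Z := quot ((kos X l).X l.length) ((kos X l).bdy l.length) ((kos X l).isHomogeneous_bdy _))
      (isHom_subtype ((kos X l).X l.length) _ _) (isHom_mkQ _ _ _) (Submodule.subtype_injective _)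
      (Submodule.mkQ_surjective _) (LinearMap.exact_subtype_mkQ _) l).vanish_right h1
      (van_bdy_kos he le_rfl h)
  rw [van_zero_iff_of_torsion (fun y hy q => by
    obtain ⟨q', rfl⟩ := Submodule.mkQ_surjective _ q
    refine ⟨1, ?_⟩
    rw [pow_one]
    exact (map_smul (Submodule.mkQ ((kos X l).bdy l.length)) y.val q').symm.trans
      ((Submodule.Quotient.mk_eq_zero _).2 (smul_mem_bdy_kos X hy _
        (show q' ∈ (kos X l).cyc l.length from kos_eq_zero_of_length X l _ (Nat.lt_succ_self _) _))))] at hQ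
  have hfm : f m ∈ (kos X l).bdy l.length := by
    have hm' : m ∈ (shift X (l.length • e)).gr (g + e - l.length • e) := by
      change m ∈ X.gr (g + e - l.length • e + l.length • e)
      rwa [sub_add_cancel]
    exact (Submodule.Quotient.mk_eq_zero _).1
      ((AddSubgroup.eq_bot_iff_forall _).1 hQ _ ⟨f m, hfg _ m hm', rfl⟩)
  have hle : ∀ n, (kos X l).bdy n ≤ J • ⊤ := fun
    | 0 => bot_le
    | n + 1 => by rintro _ ⟨z, rfl⟩; exact range_kos_le J l hJ n z
  have hfm2 := Submodule.mem_map_of_mem (f := (LinearEquiv.ofBijective f hf).symm.toLinearMap) (hle _ hfm)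
  rw [Submodule.map_smul''] at hfm2
  have := Submodule.smul_mono le_rfl le_top hfm2
  rwa [LinearEquiv.coe_coe, show f m = LinearEquiv.ofBijective f hf m from rfl,
    LinearEquiv.symm_apply_apply] at this

end GrothLib.GrLC
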