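import Groth.Agent.Lib.GrLC.Degree
import Groth.Agent.Lib.GrSyz.Basic
import Mathlib.RingTheory.MvPolynomial.Ideal

/-!
# Čech cohomology of a standard graded polynomial ring
-/

universe u

open DirectSum MvPolynomial

namespace GrothLib.GrLC

open _root_.GrLC (GMod IsGrHom)

section Generic

variable {ι : Type} [AddCommGroup ι] [DecidableEq ι] {R : Type u} [CommRing R] {σ : Type u} [SetLike σ R]
  [AddSubgroupClass σ R] {𝒜 : ι → σ} [GradedRing 𝒜]

/-- multiplication by a homogeneous element as a homogeneous map -/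
noncomputable def mulShift (X : GMod.{u} 𝒜) (x : HElt 𝒜) : (shift X (-x.deg)).carrier →ₗ[R] X.carrier :=
  LinearMap.lsmul R X.carrier x.val

theorem isHom_mulShift (X : GMod.{u} 𝒜) (x : HElt 𝒜) : IsHom (X := shift X (-x.deg)) (Y := X) (mulShift X x) :=
  fun g m hm => by
    have h : m ∈ X.gr (g + -x.deg) := hm
    have := smul_mem_shift x X h
    rwa [neg_add_cancel_right] at this

theorem cechMap_mulShift (X : GMod.{u} 𝒜) (x : HElt 𝒜) :
    ∀ (l : List (HElt 𝒜)) (n : ℕ) (w : ((cech (shift X (-x.deg)) l).X n).carrier),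
      (cechMap (mulShift X x) (isHom_mulShift X x) l).f n w =
        x.val • (show ((cech X l).X n).carrier from (cechShift X (-x.deg) l).f n w)
  | [], 0, _ => rfl
  | [], n + 1, _ => (singleX_succ_eq_zero X n _).trans (singleX_succ_eq_zero X n _).symm
  | y :: l, 0, w => cechMap_mulShift X x l 0 w
  | y :: l, n + 1, w => by
    refine Prod.ext (cechMap_mulShift X x l (n + 1) w.1) ?_
    obtain ⟨k, a, ha⟩ := exists_fr y w.2
    change locMap y ((cechMap (mulShift X x) (isHom_mulShift X x) l).f n) w.2 =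
      x.val • locMap y
        (show ((cech (shift X (-x.deg)) l).X n).carrier →ₗ[R] ((cech X l).X n).carrier from
          (cechShift X (-x.deg) l).f n) w.2
    rw [← ha]
    refine (locMap_fr y _ k a).trans ?_
    rw [cechMap_mulShift X x l n a]
    refine (fr_smul y k x.val _).trans ?_
    exact congrArg (x.val • ·) (locMap_fr y _ k a).symm

/-- Torsion in `X` and injectivity of `x` on cohomology give vanishing. -/
theorem van_of_regular_step [IsNoetherianRing R] {l : List (HElt 𝒜)} {X Z : GMod.{u} 𝒜} {x : HElt 𝒜} (hx : x ∈ l)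
    (p : X.carrier →ₗ[R] Z.carrier) (hp : IsHom p) (hinj : Function.Injective (mulShift X x))
    (hsurj : Function.Surjective p) (hexact : Function.Exact (mulShift X x) p) {n : ℕ} {g : ι}
    (hZ : ∀ k : ℕ, Van l Z n (g + (k + 1) • x.deg)) : Van l X (n + 1) g := by
  intro z hz hg
  obtain ⟨K, hK⟩ := exists_pow_smul_mem_bdy hz hx
  induction K with
  | zero => simpa using hK
  | succ K ih =>
    refine ih ?_
    obtain ⟨w₀, hw₀⟩ := (cechShift_bijective X (-x.deg) l (n + 1)).2 (x.val ^ K • z)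
    have hy : x.val ^ K • z ∈ ((cech X l).X (n + 1)).gr (g + K • x.deg) := by
      rw [add_comm g]; exact smul_mem' _ (x.pow_mem K) hg
    have hS := cechMap_ses (isHom_mulShift X x) hp hinj hsurj hexact l
    have hw : (cechShift X (-x.deg) l).f (n + 1)
        (cmp ((cech (shift X (-x.deg)) l).X (n + 1)).gr (g + (K + 1) • x.deg) w₀) = x.val ^ K • z := by
      rw [((cechShift X (-x.deg) l).hom (n + 1)).cmp, hw₀]
      have hy' : x.val ^ K • z ∈ (((cech X l).shiftBy (-x.deg)).X (n + 1)).gr (g + (K + 1) • x.deg) := by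
        change x.val ^ K • z ∈ ((cech X l).X (n + 1)).gr (g + (K + 1) • x.deg + -x.deg)
        rwa [succ_nsmul, ← add_assoc, add_neg_cancel_right]
      exact cmp_of_mem (((cech X l).shiftBy (-x.deg)).X (n + 1)).gr hy'
    have hb := hS.mem_bdy_of_map_mem (hZ K)
      (cmp_mem ((cech (shift X (-x.deg)) l).X (n + 1)).gr (g + (K + 1) • x.deg) w₀) (by
        rw [cechMap_mulShift X x l (n + 1)]
        refine (congrArg (x.val • ·) hw).symm ▸ ?_
        rw [pow_succ', mul_smul] at hK
        exact hK)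
    have h2 := Mor.map_bdy_le (cechShift X (-x.deg) l) (n + 1) ⟨_, hb, rfl⟩
    rw [hw] at h2
    exact h2

theorem van_zero_of_regular {l : List (HElt 𝒜)} {X : GMod.{u} 𝒜} {x : HElt 𝒜} (hx : x ∈ l)
    (hinj : Function.Injective fun m : X.carrier => x.val • m) (g : ι) : Van l X 0 g :=
  (van_zero_iff g).2 fun m _ hm => by
    obtain ⟨k, hk⟩ := (forall_list_iff_mem_gam l m).2 hm x hx
    induction k with
    | zero => simpa using hk
    | succ k ih =>
      refine ih (hinj ?_)
      change x.val • x.val ^ k • m = x.val • (0 : X.carrier)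
      rw [smul_zero, smul_smul, ← pow_succ', hk]

end Generic

variable (k : Type u) [CommRing k] (n : ℕ)

local notation "S" => MvPolynomial (Fin n) k
local notation "𝒮" => GrSyz.stdGr k (Fin n)

/-- a variable as a homogeneous element -/
noncomputable def varE (i : Fin n) : HElt 𝒮 := ⟨X i, 1, isWeightedHomogeneous_X k _ i⟩

/-- the variables -/
noncomputable def varL : List (HElt 𝒮) := List.ofFn (varE k n)

theorem varE_mem (i : Fin n) : varE k n i ∈ varL k n := List.mem_ofFn.2 ⟨i, rfl⟩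

theorem deg_varL : ∀ y ∈ varL k n, y.deg = 1 := fun y hy => by
  obtain ⟨i, rfl⟩ := List.mem_ofFn.1 hy; rfl

theorem length_varL : (varL k n).length = n := List.length_ofFn

theorem hspan_varL : (hspan (varL k n)).toIdeal = (GrSyz.irrel 𝒮).toIdeal := by
  rw [toIdeal_hspan]
  refine le_antisymm (Ideal.span_le.2 ?_) fun p hp => ?_
  · rintro r ⟨y, hy, rfl⟩
    exact Ideal.subset_span ⟨1, one_pos, by rw [← deg_varL k n y hy]; exact y.mem⟩
  · have h : p ∈ Ideal.span (X '' (Set.univ : Set (Fin n)) : Set S) := by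
      rw [mem_ideal_span_X_image]
      intro m hm
      by_contra h
      push_neg at h
      have hm0 : m = 0 := Finsupp.ext fun i => h i trivial
      rw [mem_support_iff, hm0, ← constantCoeff_eq] at hm
      exact hm (GrothLib.GrSyz.mem_irrel.1 hp)
    refine Ideal.span_mono ?_ h
    rintro _ ⟨i, -, rfl⟩
    exact ⟨varE k n i, varE_mem k n i, rfl⟩

/-- the ideal of the first `j` variables -/
noncomputable def vI (j : ℕ) : HomogeneousIdeal 𝒮 :=
  ⟨Ideal.span (X '' {i : Fin n | i.1 < j}), Ideal.homogeneous_span _ _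
    fun _ hr => by obtain ⟨i, -, rfl⟩ := hr; exact ⟨1, isWeightedHomogeneous_X k _ i⟩⟩

theorem mem_vI {j : ℕ} {p : S} : p ∈ (vI k n j).toIdeal ↔ ∀ m ∈ p.support, ∃ i : Fin n, i.1 < j ∧ m i ≠ 0 :=
  mem_ideal_span_X_image

theorem vI_succ {j : ℕ} (hj : j < n) :
    (vI k n (j + 1)).toIdeal = (vI k n j).toIdeal ⊔ Ideal.span {X ⟨j, hj⟩} := by
  change Ideal.span _ = Ideal.span _ ⊔ _
  rw [← Ideal.span_union]
  congr 1
  ext p
  simp only [Set.mem_image, Set.mem_setOf_eq, Set.mem_union, Set.mem_singleton_iff]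
  constructor
  · rintro ⟨i, hi, rfl⟩
    rcases Nat.lt_or_eq_of_le (Nat.lt_succ_iff.1 hi) with h | h
    · exact Or.inl ⟨i, h, rfl⟩
    · exact Or.inr (by rw [show i = ⟨j, hj⟩ from Fin.ext h])
  · rintro (⟨i, hi, rfl⟩ | rfl)
    · exact ⟨i, by omega, rfl⟩
    · exact ⟨⟨j, hj⟩, Nat.lt_succ_self j, rfl⟩

theorem X_mul_mem_vI {j : ℕ} (hj : j < n) {p : S} (h : X ⟨j, hj⟩ * p ∈ (vI k n j).toIdeal) :
    p ∈ (vI k n j).toIdeal := by
  rw [mem_vI] at h ⊢
  intro m hm
  obtain ⟨i, hi, hne⟩ := h (Finsupp.single ⟨j, hj⟩ 1 + m) (by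
    rw [support_X_mul, Finset.mem_map]; exact ⟨m, hm, rfl⟩)
  refine ⟨i, hi, ?_⟩
  have : i ≠ ⟨j, hj⟩ := fun e => by rw [e] at hi; exact lt_irrefl _ hi
  simpa [Finsupp.single_apply, this.symm] using hne

theorem one_not_mem_vI [Nontrivial k] (j : ℕ) : (1 : S) ∉ (vI k n j).toIdeal := fun h => by
  obtain ⟨i, -, hi⟩ := (mem_vI k n).1 h 0 (by rw [mem_support_iff, coeff_zero_one]; exact one_ne_zero)
  exact hi rfl

/-- `S/(X_i : i < j)` -/
noncomputable abbrev QV (j : ℕ) : GMod.{u} 𝒮 :=
  quot (gmod 𝒮 𝒮) ((vI k n j).toIdeal : Submodule S S) (fun g r hr => by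
    have e := cmp_eq_proj (gmod 𝒮 𝒮) (g := g) (cmp (M := S) 𝒮 g) (fun y hy => cmp_of_mem 𝒮 hy)
      (fun h hne y hy => cmp_of_mem_ne 𝒮 hy hne) r
    exact (congrArg (· ∈ ((vI k n j).toIdeal : Submodule S S)) e).mpr ((vI k n j).isHomogeneous g hr))

/-- the vanishing pattern of `S/(X_i : i < j)`, with `m = n - j` -/
theorem van_QV [IsNoetherianRing (MvPolynomial (Fin n) k)] [Nontrivial k] : ∀ m j : ℕ, j + m = n →
    (∀ i g, i < m → Van (varL k n) (QV k n j) i g) ∧
      (∀ g : ℤ, -(m : ℤ) < g → Van (varL k n) (QV k n j) m g) ∧ ¬ Van (varL k n) (QV k n j) m (-(m : ℤ))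
  | 0, j, hj => by
    have hjn : j = n := by omega
    subst hjn
    have ht : ∀ y ∈ varL k j, ∀ q : (QV k j j).carrier, ∃ e : ℕ, y.val ^ e • q = 0 := fun y hy q => by
      obtain ⟨p, rfl⟩ := Submodule.mkQ_surjective _ q
      refine ⟨1, ?_⟩
      rw [pow_one]
      obtain ⟨i, rfl⟩ := List.mem_ofFn.1 hy
      refine (map_smul (Submodule.mkQ ((vI k j j).toIdeal : Submodule (MvPolynomial (Fin j) k) (MvPolynomial (Fin j) k)))
        (varE k j i).val p).symm.trans ((Submodule.Quotient.mk_eq_zero _).2 ?_)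
      exact Ideal.mul_mem_right _ _ (Ideal.subset_span ⟨i, i.2, rfl⟩)
    refine ⟨fun i g hi => absurd hi (Nat.not_lt_zero i), fun g hg => van_zero_of_gr_eq_bot ?_, fun h => ?_⟩
    · refine (AddSubgroup.eq_bot_iff_forall _).2 ?_
      rintro _ ⟨p, hp, rfl⟩
      refine (Submodule.Quotient.mk_eq_zero _).2 ((mem_vI k j).2 fun d hd => ?_)
      have hd' : coeff d p ≠ 0 := mem_support_iff.1 hd
      have hw := (show p ∈ GrSyz.stdGr k (Fin j) g from hp) hd'
      by_contra hc
      push_neg at hc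
      rw [Finsupp.ext (f := d) (g := 0) fun i => hc i i.2, map_zero] at hw
      simp only [Nat.cast_zero, neg_zero] at hg
      omega
    · rw [Nat.cast_zero, neg_zero, van_zero_iff_of_torsion ht, AddSubgroup.eq_bot_iff_forall] at h
      refine one_not_mem_vI k j j ((Submodule.Quotient.mk_eq_zero _).1 (h _ ⟨(1 : MvPolynomial (Fin j) k), ?_, rfl⟩))
      exact (SetLike.GradedOne.one_mem : (1 : MvPolynomial (Fin j) k) ∈ GrSyz.stdGr k (Fin j) 0)
  | m + 1, j, hj => by
    have hjn : j < n := by omega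
    obtain ⟨ha, hb, hc⟩ := van_QV m (j + 1) (by omega)
    let x := varE k n ⟨j, hjn⟩
    have hx : x ∈ varL k n := varE_mem k n _
    have hle : ((vI k n j).toIdeal : Submodule S S) ≤ (vI k n (j + 1)).toIdeal := by
      rw [vI_succ k n hjn]; exact le_sup_left
    let p : (QV k n j).carrier →ₗ[S] (QV k n (j + 1)).carrier := Submodule.factor hle
    have hp : IsHom p := by
      rintro g _ ⟨q, hq, rfl⟩
      exact ⟨q, hq, rfl⟩
    have hinj : Function.Injective (mulShift (QV k n j) x) := by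
      rw [← LinearMap.ker_eq_bot, Submodule.eq_bot_iff]
      intro q hq
      change (QV k n j).carrier at q
      obtain ⟨p, rfl⟩ := Submodule.mkQ_surjective _ q
      exact (Submodule.Quotient.mk_eq_zero _).2 (X_mul_mem_vI k n hjn ((Submodule.Quotient.mk_eq_zero _).1 hq))
    have hsurj : Function.Surjective p := Submodule.factor_surjective hle
    have hexact : Function.Exact (mulShift (QV k n j) x) p := by
      intro q
      obtain ⟨r, rfl⟩ := Submodule.mkQ_surjective _ q
      change MvPolynomial (Fin n) k at r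
      constructor
      · intro hr
        have hr' : r ∈ (vI k n (j + 1)).toIdeal := (Submodule.Quotient.mk_eq_zero _).1 hr
        rw [vI_succ k n hjn, Submodule.mem_sup] at hr'
        obtain ⟨a, ha, b, hb, rfl⟩ := hr'
        obtain ⟨c, rfl⟩ := Ideal.mem_span_singleton'.1 hb
        refine ⟨Submodule.Quotient.mk c, ?_⟩
        change Submodule.Quotient.mk (x.val * c) = Submodule.Quotient.mk (a + c * X ⟨j, hjn⟩)
        rw [Submodule.Quotient.eq]
        rw [show x.val * c - (a + c * X ⟨j, hjn⟩) = -a by change X _ * c - _ = _; ring]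
        exact neg_mem ha
      · rintro ⟨c, hc⟩
        obtain ⟨c, rfl⟩ := Submodule.mkQ_surjective _ c
        change MvPolynomial (Fin n) k at c
        rw [← hc]
        refine (Submodule.Quotient.mk_eq_zero _).2 ?_
        change X ⟨j, hjn⟩ * c ∈ (vI k n (j + 1)).toIdeal
        exact Ideal.mul_mem_right _ _ (Ideal.subset_span ⟨⟨j, hjn⟩, Nat.lt_succ_self j, rfl⟩)
    have hA : ∀ i g, i < m + 1 → Van (varL k n) (QV k n j) i g := fun i g hi => by
      rcases i with _ | i
      · exact van_zero_of_regular (X := QV k n j) hx hinj g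
      · exact van_of_regular_step hx p hp hinj hsurj hexact fun e => ha i _ (by omega)
    refine ⟨hA, fun g hg => van_of_regular_step hx p hp hinj hsurj hexact fun e => hb _ ?_, fun h => hc ?_⟩
    · change -(m : ℤ) < g + (e + 1) • (1 : ℤ)
      rw [nsmul_eq_mul, mul_one]
      push_cast at hg ⊢
      omega
    · have hS := cechMap_ses (isHom_mulShift (QV k n j) x) hp hinj hsurj hexact (varL k n)
      refine hS.vanish_right (hA m _ (Nat.lt_succ_self m)) ((van_shift (X := QV k n j) _ _ _).2 ?_)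
      change Van (varL k n) (QV k n j) (m + 1) (-(m : ℤ) + -1)
      rw [show -(m : ℤ) + -1 = -((m + 1 : ℕ) : ℤ) by push_cast; ring]
      exact h

variable [IsNoetherianRing (MvPolynomial (Fin n) k)]

theorem vI_zero : (vI k n 0).toIdeal = ⊥ := by
  change Ideal.span _ = ⊥
  rw [Ideal.span_eq_bot]
  rintro _ ⟨i, hi, rfl⟩
  exact absurd hi (Nat.not_lt_zero _)

theorem van_S [Nontrivial k] {i : ℕ} {g : ℤ} (h : i = n → -(n : ℤ) < g) :
    Van (varL k n) (gmod 𝒮 𝒮) i g := by
  obtain ⟨ha, hb, -⟩ := van_QV k n n 0 (by omega)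
  refine (van_congr_hom (X := gmod 𝒮 𝒮) (Y := QV k n 0) (Submodule.mkQ _) (fun d p hp => ⟨p, hp, rfl⟩)
    ⟨fun a b hab => ?_, Submodule.mkQ_surjective _⟩ i g).2 ?_
  · have := (Submodule.Quotient.eq _).1 hab
    rw [vI_zero k n] at this
    replace this := sub_eq_zero.1 (show a - b = 0 from this)
    exact this
  · rcases lt_trichotomy i n with hi | rfl | hi
    · exact ha i g hi
    · exact hb g (h rfl)
    · exact van_of_length (by rw [length_varL]; exact hi)

theorem not_van_S [Nontrivial k] : ¬ Van (varL k n) (gmod 𝒮 𝒮) n (-(n : ℤ)) := fun h => by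
  obtain ⟨-, -, hc⟩ := van_QV k n n 0 (by omega)
  refine hc ((van_congr_hom (X := gmod 𝒮 𝒮) (Y := QV k n 0) (Submodule.mkQ _) (fun d p hp => ⟨p, hp, rfl⟩)
    ⟨fun a b hab => ?_, Submodule.mkQ_surjective _⟩ n _).1 h)
  have := (Submodule.Quotient.eq _).1 hab
  rw [vI_zero k n] at this
  replace this := sub_eq_zero.1 (show a - b = 0 from this)
  exact this

end GrothLib.GrLC
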