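import Groth.Agent.Lib.GrLC.CM
import Groth.Agent.Lib.GrLC.CutTop
import Groth.Agent.Lib.GrLC.Pos
import Groth.Agent.Lib.GrLC.PolyTop
import Groth.Agent.Lib.GrLC.Radical
import Groth.Agent.Lib.GrLC.Degree
import Mathlib.RingTheory.MvPolynomial.Basic
import Mathlib.Algebra.MvPolynomial.Equiv

/-!
# Linear systems of parameters over an Artinian base with infinite residue field
-/

universe u

open DirectSum

namespace GrothLib.GrLC.LinSop

open _root_.GrLC (GMod IsStarLocal deg0)
open GrothLib.GrLC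

section Avoid

variable {R : Type u} [CommRing R] {σ : Type u} [SetLike σ R] [AddSubgroupClass σ R] {𝒜 : ℤ → σ} [GradedRing 𝒜]

/-- Avoidance of finitely many primes by an element of degree one, over an infinite field of scalars. -/
theorem exists_notMem_of_infinite {m : Ideal R} (C : Set R) (hC : C.Infinite) (hC0 : ∀ c ∈ C, c ∈ 𝒜 0)
    (hCd : ∀ c ∈ C, ∀ c' ∈ C, c ≠ c' → c - c' ∉ m) (S : Finset (Ideal R)) (hprime : ∀ P ∈ S, P.IsPrime)
    (hle : ∀ P ∈ S, P ≤ m) (hne : ∀ P ∈ S, ∃ a ∈ 𝒜 1, a ∉ P) : ∃ a ∈ 𝒜 1, ∀ P ∈ S, a ∉ P := by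
  classical
  induction S using Finset.induction_on with
  | empty => exact ⟨0, zero_mem _, fun P hP => absurd hP (Finset.notMem_empty P)⟩
  | insert P S hPS ih =>
    obtain ⟨a, ha, haS⟩ := ih (fun Q hQ => hprime Q (Finset.mem_insert_of_mem hQ))
      (fun Q hQ => hle Q (Finset.mem_insert_of_mem hQ)) fun Q hQ => hne Q (Finset.mem_insert_of_mem hQ)
    obtain ⟨b, hb, hbP⟩ := hne P (Finset.mem_insert_self P S)
    have hbad : (⋃ Q ∈ insert P S, {c ∈ C | a + c * b ∈ Q}).Finite := by
      refine Set.Finite.biUnion (Finset.finite_toSet _) fun Q hQ => Set.Subsingleton.finite ?_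
      rintro c ⟨hc, h1⟩ c' ⟨hc', h2⟩
      by_contra hcc
      have h3 : (c - c') * b ∈ Q := by
        have := Q.sub_mem h1 h2
        rwa [show (a + c * b) - (a + c' * b) = (c - c') * b by ring] at this
      have hbQ : b ∈ Q := ((hprime Q hQ).mem_or_mem h3).resolve_left fun h => hCd c hc c' hc' hcc (hle Q hQ h)
      rcases Finset.mem_insert.1 hQ with rfl | hQS
      · exact hbP hbQ
      · exact haS Q hQS (by simpa using Q.sub_mem h1 (Q.mul_mem_left c hbQ))
    obtain ⟨c, hc, hcb⟩ := hC.exists_notMem_finite hbad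
    refine ⟨a + c * b, add_mem ha ?_, fun Q hQ h => hcb (Set.mem_biUnion hQ ⟨hc, h⟩)⟩
    simpa using SetLike.mul_mem_graded (hC0 c hc) hb

variable [IsNoetherianRing R] [IsArtinianRing (deg0 𝒜)] (hpos : ∀ n : ℤ, n < 0 → ∀ r ∈ 𝒜 n, r = 0)
  (hstd : Ideal.span (⋃ n ∈ Set.Ioi (0 : ℤ), (𝒜 n : Set R)) = Ideal.span (𝒜 1 : Set R))
  {m : HomogeneousIdeal 𝒜} (hm : IsStarLocal 𝒜 m)

include hpos hm in
/-- The ideal generated in degree one has the radical of the maximal graded ideal. -/
theorem radical_span_eq {b : HomogeneousIdeal 𝒜}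
    (hb : b.toIdeal = Ideal.span (⋃ n ∈ Set.Ioi (0 : ℤ), (𝒜 n : Set R))) :
    b.toIdeal.radical = m.toIdeal.radical :=
  radical_eq_of_isArtinian_deg0 hpos hm (fun n hn r hr => hb.ge (Ideal.subset_span (Set.mem_iUnion₂.2 ⟨n, hn, hr⟩)))
    (hb.le.trans (Ideal.span_le.2 fun x hx => by
      obtain ⟨n, hn, hx⟩ := Set.mem_iUnion₂.1 hx
      exact pos_mem_of_isStarLocal hpos hm n hn x hx))

include hpos hm in
/-- A set of scalars with pairwise distinct residues. -/
theorem exists_infinite_scalars (hinf : Infinite (R ⧸ m.toIdeal)) :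
    ∃ C : Set R, C.Infinite ∧ (∀ c ∈ C, c ∈ 𝒜 0) ∧ ∀ c ∈ C, ∀ c' ∈ C, c ≠ c' → c - c' ∉ m.toIdeal := by
  classical
  have hrest : ∀ x : R, x - cmp 𝒜 0 x ∈ m.toIdeal := fun x => by
    obtain ⟨S, hS⟩ := exists_sum_cmp 𝒜 (x - cmp 𝒜 0 x)
    rw [hS]
    refine sum_mem fun g _ => ?_
    rcases lt_trichotomy g 0 with h | rfl | h
    · rw [hpos g h _ (cmp_mem 𝒜 g _)]; exact zero_mem _
    · rw [map_sub, cmp_of_mem 𝒜 (cmp_mem 𝒜 0 x), sub_self]; exact zero_mem _
    · exact pos_mem_of_isStarLocal hpos hm g h _ (cmp_mem 𝒜 g _)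
  have hf : ∀ z : R ⧸ m.toIdeal, ∃ c, c ∈ 𝒜 0 ∧ Ideal.Quotient.mk m.toIdeal c = z := fun z => by
    obtain ⟨x, rfl⟩ := Ideal.Quotient.mk_surjective z
    exact ⟨cmp 𝒜 0 x, cmp_mem 𝒜 0 x, (Ideal.Quotient.eq.2 (hrest x)).symm⟩
  choose f hf0 hf using hf
  refine ⟨Set.range f, Set.infinite_range_of_injective fun z z' h => by rw [← hf z, ← hf z', h], ?_, ?_⟩
  · rintro _ ⟨z, rfl⟩; exact hf0 z
  · rintro _ ⟨z, rfl⟩ _ ⟨z', rfl⟩ hne h
    exact hne (congrArg f (by rw [← hf z, ← hf z', Ideal.Quotient.eq.2 h]))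

include hpos hstd hm in
/-- A regular element of degree one on a finite module of positive depth. -/
theorem exists_regular_linear (hinf : Infinite (R ⧸ m.toIdeal)) {l : List (HElt 𝒜)}
    (hl : (hspan l).toIdeal = Ideal.span (⋃ n ∈ Set.Ioi (0 : ℤ), (𝒜 n : Set R)))
    (X : GMod.{u} 𝒜) [Module.Finite R X.carrier] (h : ∀ g, Van l X 0 g) :
    ∃ x ∈ 𝒜 1, IsSMulRegular X.carrier x := by
  classical
  have hΓ : ∀ v : X.carrier, v ∈ _root_.GrLC.gam (hspan l).toIdeal X.carrier → v = 0 := fun v hv =>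
    eq_zero_of_cmp X.gr fun g => (van_zero_iff g).1 (h g) _ (cmp_mem X.gr g v) (isHomogeneous_gam (hspan l) g hv)
  have hfin := associatedPrimes.finite R X.carrier
  have hne : ∀ p ∈ associatedPrimes R X.carrier, ∃ a ∈ 𝒜 1, a ∉ (p.homogeneousCore 𝒜).toIdeal := by
    intro p hp
    obtain ⟨hpp, v, hv⟩ := hp
    by_contra hall
    push Not at hall
    have hle : (hspan l).toIdeal ≤ ((⊥ : Submodule R X.carrier).colon {v}).radical := by
      rw [hl, hstd, Ideal.span_le]
      exact fun a ha => hv.le (Ideal.toIdeal_homogeneousCore_le 𝒜 p (hall a ha))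
    obtain ⟨N, hN⟩ := Ideal.exists_pow_le_of_le_radical_of_fg hle (IsNoetherian.noetherian _)
    have hv0 : v = 0 := hΓ v ⟨N, fun r hr => by simpa [Submodule.mem_colon_singleton] using hN hr⟩
    subst hv0
    exact hpp.ne_top (hv.trans (by simp [Submodule.colon_singleton_zero, Ideal.radical_top]))
  obtain ⟨C, hC, hC0, hCd⟩ := exists_infinite_scalars hpos hm hinf
  obtain ⟨a, ha, haS⟩ := exists_notMem_of_infinite (𝒜 := 𝒜) (m := m.toIdeal) C hC hC0 hCd
    (hfin.toFinset.image fun p => (p.homogeneousCore 𝒜).toIdeal)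
    (fun P hP => by
      obtain ⟨q, hq, rfl⟩ := Finset.mem_image.1 hP
      exact Ideal.IsPrime.homogeneousCore (𝒜 := 𝒜) ((hfin.mem_toFinset.1 hq).1))
    (fun P hP => by
      obtain ⟨q, hq, rfl⟩ := Finset.mem_image.1 hP
      exact le_of_isStarLocal hm fun h => (Ideal.IsPrime.homogeneousCore (𝒜 := 𝒜) ((hfin.mem_toFinset.1 hq).1)).ne_top
        (by rw [h, HomogeneousIdeal.toIdeal_top]))
    (fun P hP => by
      obtain ⟨q, hq, rfl⟩ := Finset.mem_image.1 hP
      exact hne q (hfin.mem_toFinset.1 hq))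
  refine ⟨a, ha, isSMulRegular_iff_right_eq_zero_of_smul.2 fun v hv => by_contra fun hv0 => ?_⟩
  have hmem : a ∈ ⋃ p ∈ associatedPrimes R X.carrier, (p : Set R) := by
    rw [biUnion_associatedPrimes_eq_zero_divisors]
    exact ⟨v, hv0, hv⟩
  obtain ⟨p, hp, hap⟩ := Set.mem_iUnion₂.1 hmem
  exact haS _ (Finset.mem_image_of_mem _ (hfin.mem_toFinset.2 hp))
    (Ideal.mem_homogeneousCore_of_homogeneous_of_mem ⟨1, ha⟩ hap)

end Avoid

section QuasiRegular

variable {B : Type*} [CommRing B] {A : Type*} [CommRing A] [Algebra A B]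

/-- Regularity of a sequence modulo an ideal. -/
def Reg {n : ℕ} (J : Ideal B) (x : Fin n → B) : Prop :=
  ∀ (i : Fin n) (r : B), x i * r ∈ J ⊔ Ideal.span (x '' Set.Iio i) → r ∈ J ⊔ Ideal.span (x '' Set.Iio i)

theorem sup_span_cons {n : ℕ} (J : Ideal B) (x : Fin (n + 1) → B) (i : Fin n) :
    J ⊔ Ideal.span {x 0} ⊔ Ideal.span (Fin.tail x '' Set.Iio i) = J ⊔ Ideal.span (x '' Set.Iio i.succ) := by
  rw [sup_assoc, ← Ideal.span_union]
  congr 2
  ext b
  constructor
  · rintro (rfl | ⟨j, hj, rfl⟩)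
    · exact ⟨0, Fin.succ_pos i, rfl⟩
    · exact ⟨j.succ, Fin.succ_lt_succ_iff.2 hj, rfl⟩
  · rintro ⟨j, hj, rfl⟩
    induction j using Fin.cases with
    | zero => exact Or.inl rfl
    | succ j => exact Or.inr ⟨j, Fin.succ_lt_succ_iff.1 hj, rfl⟩

open MvPolynomial in
/-- A regular sequence is algebraically independent over scalars that survive modulo it. -/
theorem eq_zero_of_aeval_mem : ∀ {n : ℕ} (J : Ideal B) (x : Fin n → B), Reg J x →
    (∀ c : A, algebraMap A B c ∈ J ⊔ Ideal.span (Set.range x) → c = 0) →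
    ∀ F : MvPolynomial (Fin n) A, aeval x F ∈ J → F = 0 := by
  intro n
  induction n with
  | zero =>
    intro J x _ hA F hF
    obtain ⟨c, rfl⟩ := C_surjective (Fin 0) F
    rw [aeval_C] at hF
    rw [hA c (Submodule.mem_sup_left hF), map_zero]
  | succ n ih =>
    intro J x hx hA F hF
    let φ := finSuccEquiv A n
    have hev : ∀ G : MvPolynomial (Fin (n + 1)) A,
        aeval x G = Polynomial.eval₂ (aeval (Fin.tail x) : MvPolynomial (Fin n) A →ₐ[A] B).toRingHom (x 0) (φ G) := by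
      intro G
      induction G using MvPolynomial.induction_on with
      | C a => simp [φ, finSuccEquiv_apply]
      | add G H hG hH => rw [map_add, map_add, Polynomial.eval₂_add, hG, hH]
      | mul_X G i hG =>
        rw [map_mul, map_mul, Polynomial.eval₂_mul, ← hG]
        congr 1
        induction i using Fin.cases with
        | zero => simp [φ, finSuccEquiv_X_zero]
        | succ i => simp [φ, finSuccEquiv_X_succ, Fin.tail]
    have hJ' := ih (J ⊔ Ideal.span {x 0}) (Fin.tail x)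
      (fun i r hr => by
        rw [sup_span_cons] at hr ⊢
        exact hx i.succ r hr)
      (fun c hc => hA c ((sup_le
        (sup_le le_sup_left (le_sup_of_le_right (Ideal.span_mono (Set.singleton_subset_iff.2 ⟨0, rfl⟩))))
        (le_sup_of_le_right (Ideal.span_mono (Set.range_comp_subset_range Fin.succ x))) :
          J ⊔ Ideal.span {x 0} ⊔ Ideal.span (Set.range (Fin.tail x)) ≤ J ⊔ Ideal.span (Set.range x)) hc))
    have key : ∀ (e : ℕ) (p : Polynomial (MvPolynomial (Fin n) A)), p.natDegree ≤ e →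
        Polynomial.eval₂ (aeval (Fin.tail x) : MvPolynomial (Fin n) A →ₐ[A] B).toRingHom (x 0) p ∈ J → p = 0 := by
      intro e
      induction e with
      | zero =>
        intro p hp h
        rw [Polynomial.eq_C_of_natDegree_le_zero hp, Polynomial.eval₂_C] at h
        rw [Polynomial.eq_C_of_natDegree_le_zero hp, hJ' _ (Submodule.mem_sup_left h), map_zero]
      | succ e ihe =>
        intro p hp h
        rw [← Polynomial.X_mul_divX_add p, Polynomial.eval₂_add, Polynomial.eval₂_mul, Polynomial.eval₂_X,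
          Polynomial.eval₂_C] at h
        have h0 : p.coeff 0 = 0 := hJ' _ (by
          have h1 := Submodule.add_mem _ (Submodule.mem_sup_left (T := Ideal.span {x 0}) h)
            (Submodule.neg_mem _ (Submodule.mem_sup_right (S := J)
              (Ideal.mul_mem_right (Polynomial.eval₂ (aeval (Fin.tail x) : MvPolynomial (Fin n) A →ₐ[A] B).toRingHom
                (x 0) p.divX) _ (Ideal.subset_span (Set.mem_singleton (x 0))))))
          simpa using h1)
        rw [h0, map_zero, add_zero] at h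
        have hdiv : p.divX = 0 := ihe _ (by rw [Polynomial.natDegree_divX_eq_natDegree_tsub_one]; omega) (by
          have := hx 0 (Polynomial.eval₂ (aeval (Fin.tail x) : MvPolynomial (Fin n) A →ₐ[A] B).toRingHom (x 0) p.divX)
          simpa using this (Submodule.mem_sup_left h))
        rw [← Polynomial.X_mul_divX_add p, hdiv, h0, mul_zero, map_zero, add_zero]
    exact φ.injective ((key _ (φ F) le_rfl (hev F ▸ hF)).trans (map_zero φ).symm)

end QuasiRegular

section Sop

variable {R : Type u} [CommRing R] [LocCoh.IsCohenMacaulayRing R] {σ : Type u} [SetLike σ R] [AddSubgroupClass σ R]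
  {𝒜 : ℤ → σ} [GradedRing 𝒜] [IsArtinianRing (deg0 𝒜)] (hpos : ∀ n : ℤ, n < 0 → ∀ r ∈ 𝒜 n, r = 0)
  (hstd : Ideal.span (⋃ n ∈ Set.Ioi (0 : ℤ), (𝒜 n : Set R)) = Ideal.span (𝒜 1 : Set R))
  {m : HomogeneousIdeal 𝒜} (hm : IsStarLocal 𝒜 m)

include hpos hstd hm in
/-- With cohomology in degrees at most `-d` a linear regular sequence generates all positive degrees. -/
theorem exists_linear_regular (hinf : Infinite (R ⧸ m.toIdeal)) (d : ℕ) (hd : ringKrullDim R = d)
    {l : List (HElt 𝒜)} (hl : (hspan l).toIdeal = Ideal.span (⋃ n ∈ Set.Ioi (0 : ℤ), (𝒜 n : Set R)))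
    (hlow : ∀ i < d, ∀ g, Van l (gmod 𝒜 𝒜) i g) (htop : ∀ g, -(d : ℤ) < g → Van l (gmod 𝒜 𝒜) d g) :
    ∃ x : Fin d → R, (∀ i, x i ∈ 𝒜 1) ∧ Reg (⊥ : Ideal R) x ∧
      ∀ g : ℤ, 0 < g → ∀ z ∈ 𝒜 g, z ∈ Ideal.span (Set.range x) := by
  classical
  suffices H : ∀ j, j ≤ d → ∃ (x : Fin j → R) (X : GMod.{u} 𝒜) (π : (gmod 𝒜 𝒜).carrier →ₗ[R] X.carrier),
      (∀ i, x i ∈ 𝒜 1) ∧ Reg (⊥ : Ideal R) x ∧ IsHom π ∧ Function.Surjective π ∧
      (∀ r : R, π r = 0 ↔ r ∈ Ideal.span (Set.range x)) ∧ (∀ i < d - j, ∀ g, Van l X i g) ∧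
      (∀ g, -((d - j : ℕ) : ℤ) < g → Van l X (d - j) g) ∧
      ringKrullDim (R ⧸ Ideal.span (Set.range x)) + (j : WithBot ℕ∞) ≤ (d : WithBot ℕ∞) by
    obtain ⟨x, X, π, hx, hreg, hπ, hsurj, hker, -, hX, hdim⟩ := H d le_rfl
    refine ⟨x, hx, hreg, fun g hg z hz => (hker z).1 ?_⟩
    have hrad : (hspan l).toIdeal ≤ (Ideal.span (Set.range x)).radical := by
      rw [Ideal.radical_eq_sInf]
      refine le_sInf fun P ⟨hJP, hP⟩ => ?_
      have hJ : Ideal.span (Set.range x) ≠ ⊤ := fun e => hP.ne_top (top_le_iff.1 (e.ge.trans hJP))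
      haveI : Nontrivial (R ⧸ Ideal.span (Set.range x)) := Ideal.Quotient.nontrivial_iff.2 hJ
      have h0 : ringKrullDim (R ⧸ Ideal.span (Set.range x)) ≤ 0 := by
        cases hq : ringKrullDim (R ⧸ Ideal.span (Set.range x)) with
        | bot => exact bot_le
        | coe n =>
          rw [hq] at hdim
          have h1 : n + (d : ℕ∞) ≤ 0 + (d : ℕ∞) := by rw [zero_add]; exact_mod_cast hdim
          exact_mod_cast (ENat.add_le_add_iff_right (ENat.natCast_ne_top d)).1 h1
      haveI : Ring.KrullDimLE 0 (R ⧸ Ideal.span (Set.range x)) := Ring.krullDimLE_iff.2 h0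
      have hcJ : Ideal.span (Set.range x) ≤ (P.homogeneousCore 𝒜).toIdeal := Ideal.span_le.2 (by
        rintro _ ⟨i, rfl⟩
        exact Ideal.mem_homogeneousCore_of_homogeneous_of_mem ⟨1, hx i⟩ (hJP (Ideal.subset_span ⟨i, rfl⟩)))
      have hc : (P.homogeneousCore 𝒜).toIdeal.IsPrime := Ideal.IsPrime.homogeneousCore hP
      have hmax : ((P.homogeneousCore 𝒜).toIdeal.map (Ideal.Quotient.mk (Ideal.span (Set.range x)))).IsMaximal :=
        Ring.krullDimLE_zero_iff.1 inferInstance _
          (Ideal.map_isPrime_of_surjective Ideal.Quotient.mk_surjective (by rw [Ideal.mk_ker]; exact hcJ))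
      have hmax' : (P.homogeneousCore 𝒜).toIdeal.IsMaximal := by
        have := Ideal.comap_isMaximal_of_surjective (Ideal.Quotient.mk (Ideal.span (Set.range x)))
          Ideal.Quotient.mk_surjective (H := hmax)
        rwa [Ideal.comap_map_of_surjective _ Ideal.Quotient.mk_surjective, ← RingHom.ker_eq_comap_bot, Ideal.mk_ker,
          sup_eq_left.2 hcJ] at this
      have hle : (P.homogeneousCore 𝒜).toIdeal ≤ m.toIdeal :=
        le_of_isStarLocal hm fun h => hc.ne_top (by rw [h, HomogeneousIdeal.toIdeal_top])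
      rw [hl, Ideal.span_le]
      intro r hr
      obtain ⟨n, hn, hr⟩ := Set.mem_iUnion₂.1 hr
      exact Ideal.toIdeal_homogeneousCore_le 𝒜 P
        ((hmax'.eq_of_le (isMaximal_of_isStarLocal hpos hm).ne_top hle).ge (pos_mem_of_isStarLocal hpos hm n hn r hr))
    have htors : ∀ y ∈ l, ∀ v : X.carrier, ∃ k : ℕ, y.val ^ k • v = 0 := fun y hy v => by
      obtain ⟨r, rfl⟩ := hsurj v
      obtain ⟨k, hk⟩ := hrad (by rw [toIdeal_hspan]; exact Ideal.subset_span ⟨y, hy, rfl⟩ :
        y.val ∈ (hspan l).toIdeal)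
      exact ⟨k, by rw [← map_smul]; exact (hker _).2 (Ideal.mul_mem_right _ _ hk)⟩
    have hXg : X.gr g = ⊥ := (van_zero_iff_of_torsion htors g).1 (by simpa using hX g (by simp; omega))
    exact (AddSubgroup.eq_bot_iff_forall _).1 hXg _ (hπ g z hz)
  intro j
  induction j with
  | zero =>
    intro _
    refine ⟨Fin.elim0, gmod 𝒜 𝒜, LinearMap.id, fun i => i.elim0, fun i => i.elim0, fun _ _ h => h,
      Function.surjective_id, fun r => ?_, by simpa using hlow, by simpa using htop, ?_⟩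
    · simp only [Set.range_eq_empty, Ideal.span_empty, Ideal.mem_bot, LinearMap.id_apply]
      exact Iff.rfl
    · rw [Nat.cast_zero, add_zero, ← hd]
      exact ringKrullDim_quotient_le _
  | succ j ih =>
    intro hj
    obtain ⟨x, X, π, hx, hreg, hπ, hsurj, hker, hXlow, hXtop, hdim⟩ := ih (by omega)
    obtain ⟨e, he⟩ : ∃ e, d - j = e + 1 := ⟨d - (j + 1), by omega⟩
    haveI : Module.Finite R (gmod 𝒜 𝒜).carrier := inferInstanceAs (Module.Finite R R)
    haveI : Module.Finite R X.carrier := Module.Finite.of_surjective π hsurj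
    obtain ⟨a, ha, har⟩ := exists_regular_linear hpos hstd hm hinf hl X (hXlow 0 (by omega))
    let ax : HElt 𝒜 := ⟨a, 1, ha⟩
    let X' : GMod.{u} 𝒜 := GrothLib.GrLC.quot X (LinearMap.range (mulShift X ax))
      (isHomogeneous_range (isHom_mulShift X ax))
    have hp : IsHom (X := X) (Y := X') (Submodule.mkQ _) := isHom_mkQ X _ (isHomogeneous_range (isHom_mulShift X ax))
    obtain ⟨hlow', htop'⟩ := regular_step (X := X) (N := X') (l := l)
      (x := ax) (hl.ge (Ideal.subset_span (Set.mem_iUnion₂.2 ⟨1, (one_pos : (0 : ℤ) < 1), ha⟩))) zero_le_one har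
      (Submodule.mkQ _) hp (Submodule.mkQ_surjective _)
      (fun v => (Submodule.Quotient.mk_eq_zero _).trans ⟨fun h => h, fun h => h⟩) e (fun i hi g => hXlow i (by omega) g)
    have hde : d - (j + 1) = e := by omega
    refine ⟨Fin.snoc x a, X', (Submodule.mkQ _).comp π, ?_, ?_, hp.comp hπ,
      (Submodule.mkQ_surjective _).comp hsurj, ?_, by rw [hde]; exact hlow', ?_, ?_⟩
    · intro i
      induction i using Fin.lastCases with
      | last => rwa [Fin.snoc_last]
      | cast i => rw [Fin.snoc_castSucc]; exact hx i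
    · intro i r hr
      induction i using Fin.lastCases with
      | last =>
        have hset : (Fin.snoc x a : Fin (j + 1) → R) '' Set.Iio (Fin.last j) = Set.range x := by
          ext b
          constructor
          · rintro ⟨i, hi, rfl⟩
            obtain ⟨i, rfl⟩ := Fin.exists_castSucc_eq.2 (ne_of_lt hi)
            exact ⟨i, by simp⟩
          · rintro ⟨i, rfl⟩
            exact ⟨i.castSucc, Fin.castSucc_lt_last i, by simp⟩
        rw [hset, bot_sup_eq, Fin.snoc_last] at hr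
        rw [hset, bot_sup_eq, ← hker]
        refine har.right_eq_zero_of_smul ?_
        rw [← map_smul]
        exact (hker _).2 hr
      | cast i =>
        have hset : (Fin.snoc x a : Fin (j + 1) → R) '' Set.Iio i.castSucc = x '' Set.Iio i := by
          ext b
          constructor
          · rintro ⟨i', hi, rfl⟩
            obtain ⟨i', rfl⟩ := Fin.exists_castSucc_eq.2 (ne_of_lt (lt_trans hi (Fin.castSucc_lt_last i)))
            exact ⟨i', Fin.castSucc_lt_castSucc_iff.1 hi, by simp⟩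
          · rintro ⟨i', hi, rfl⟩
            exact ⟨i'.castSucc, Fin.castSucc_lt_castSucc_iff.2 hi, by simp⟩
        rw [hset, Fin.snoc_castSucc] at hr
        rw [hset]
        exact hreg i r hr
    · intro r
      have hr : Set.range (Fin.snoc x a : Fin (j + 1) → R) = insert a (Set.range x) := Fin.range_snoc x a
      change (Submodule.Quotient.mk (π r) : X.carrier ⧸ LinearMap.range (mulShift X ax)) = 0 ↔ _
      rw [Submodule.Quotient.mk_eq_zero, hr, Ideal.mem_span_insert]
      constructor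
      · rintro ⟨v, hv⟩
        obtain ⟨c, rfl⟩ : ∃ c : R, π c = v := hsurj v
        refine ⟨c, r - a * c, (hker _).1 ?_, by ring⟩
        have hv' : a • π c = π r := hv
        rw [← map_smul] at hv'
        exact (map_sub π r (a * c)).trans (sub_eq_zero.2 hv'.symm)
      · intro h
        obtain ⟨c, z, hz, rfl⟩ := h
        refine ⟨π c, ?_⟩
        change a • π c = π (c * a + z)
        rw [← map_smul]
        exact (by rw [(hker z).2 hz, add_zero, mul_comm c a]; rfl : π (a • c) = π (c * a) + π z).trans (map_add π _ _).symm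
    · intro g hg
      rw [hde] at hg ⊢
      refine (htop' (-(e : ℤ))).2 (fun g' hg' => he ▸ hXtop g' ?_) g hg
      rw [he]
      push_cast
      have : ax.deg = 1 := rfl
      omega
    · set J := Ideal.span (Set.range x)
      set J' := Ideal.span (Set.range (Fin.snoc x a : Fin (j + 1) → R))
      have hJJ : J' = Ideal.span {a} ⊔ J := by
        change Ideal.span (Set.range (Fin.snoc x a : Fin (j + 1) → R)) = _
        rw [Fin.range_snoc, Ideal.span_insert]
      have hreg' : Ideal.Quotient.mk J a ∈ nonZeroDivisors (R ⧸ J) := by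
        refine mem_nonZeroDivisors_iff_left.2 fun z hz => ?_
        obtain ⟨c, rfl⟩ := Ideal.Quotient.mk_surjective z
        rw [← map_mul, Ideal.Quotient.eq_zero_iff_mem, ← hker] at hz
        rw [Ideal.Quotient.eq_zero_iff_mem, ← hker]
        refine har.right_eq_zero_of_smul ?_
        rw [← map_smul]
        exact hz
      have h1 := ringKrullDim_quotient_succ_le_of_nonZeroDivisor hreg'
      have h2 : ringKrullDim (R ⧸ J') ≤ ringKrullDim ((R ⧸ J) ⧸ Ideal.span {Ideal.Quotient.mk J a}) := by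
        let f : R ⧸ J →+* R ⧸ J' := Ideal.Quotient.factor (hJJ ▸ le_sup_right)
        refine ringKrullDim_le_of_surjective (Ideal.Quotient.lift _ f fun z hz => ?_) fun y => ?_
        · obtain ⟨c, rfl⟩ := Ideal.mem_span_singleton'.1 hz
          rw [map_mul]
          refine mul_eq_zero_of_right _ ?_
          rw [Ideal.Quotient.factor_mk, Ideal.Quotient.eq_zero_iff_mem, hJJ]
          exact Submodule.mem_sup_left (Ideal.subset_span rfl)
        · obtain ⟨r, rfl⟩ := Ideal.Quotient.mk_surjective y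
          exact ⟨Ideal.Quotient.mk _ (Ideal.Quotient.mk J r), rfl⟩
      calc ringKrullDim (R ⧸ J') + ((j + 1 : ℕ) : WithBot ℕ∞)
          = (ringKrullDim (R ⧸ J') + 1) + (j : WithBot ℕ∞) := by push_cast; abel
        _ ≤ ringKrullDim (R ⧸ J) + (j : WithBot ℕ∞) := add_le_add_left ((add_le_add_left h2 1).trans h1) _
        _ ≤ _ := hdim

include hpos hstd hm in
/-- A standard graded ring with `a`-invariant `-d` over a base with infinite residue field is polynomial. -/
theorem exists_algEquiv (hinf : Infinite (R ⧸ m.toIdeal)) (d : ℕ) (hd : ringKrullDim R = d)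
    {l : List (HElt 𝒜)} (hl : (hspan l).toIdeal = Ideal.span (⋃ n ∈ Set.Ioi (0 : ℤ), (𝒜 n : Set R)))
    (hlow : ∀ i < d, ∀ g, Van l (gmod 𝒜 𝒜) i g) (htop : ∀ g, -(d : ℤ) < g → Van l (gmod 𝒜 𝒜) d g) :
    ∃ e : MvPolynomial (Fin d) (deg0 𝒜) ≃ₐ[deg0 𝒜] R, ∀ t : Fin d, e (MvPolynomial.X t) ∈ 𝒜 1 := by
  classical
  obtain ⟨x, hx, hreg, hgen⟩ := exists_linear_regular hpos hstd hm hinf d hd hl hlow htop
  have hc0 : ∀ (c : R) (g : ℤ), g ≤ 0 → ∀ z ∈ Ideal.span (Set.range x), cmp 𝒜 g (c * z) = 0 := by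
    intro c g hg z hz
    induction hz using Submodule.span_induction generalizing c with
    | mem z hz =>
      obtain ⟨i, rfl⟩ := hz
      rw [← smul_eq_mul, cmp_smul_mem (𝒜 := 𝒜) 𝒜 c (hx i), hpos (g - 1) (by omega) _ (cmp_mem 𝒜 _ c), zero_smul]
    | zero => rw [mul_zero, map_zero]
    | add a b _ _ ha hb => rw [mul_add, map_add, ha c, hb c, add_zero]
    | smul e a _ ha => rw [smul_eq_mul, ← mul_assoc]; exact ha (c * e)
  have hinj : Function.Injective (MvPolynomial.aeval x : MvPolynomial (Fin d) (deg0 𝒜) →ₐ[deg0 𝒜] R) := by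
    refine (injective_iff_map_eq_zero _).2 fun F hF => eq_zero_of_aeval_mem ⊥ x hreg (fun c hc => ?_) F ?_
    · rw [bot_sup_eq] at hc
      have h := hc0 1 0 le_rfl _ hc
      rw [one_mul, cmp_of_mem 𝒜 (show algebraMap (deg0 𝒜) R c ∈ 𝒜 0 from c.2)] at h
      exact Subtype.ext h
    · rw [hF]; exact zero_mem _
  have hsurj : Function.Surjective (MvPolynomial.aeval x : MvPolynomial (Fin d) (deg0 𝒜) →ₐ[deg0 𝒜] R) := by
    let A := (MvPolynomial.aeval x : MvPolynomial (Fin d) (deg0 𝒜) →ₐ[deg0 𝒜] R).range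
    have key : ∀ (g : ℕ) (z : R), z ∈ 𝒜 (g : ℤ) → z ∈ A := by
      intro g
      induction g using Nat.strong_induction_on with
      | _ g ih =>
        intro z hz
        rcases Nat.eq_zero_or_pos g with rfl | hg
        · exact A.algebraMap_mem (⟨z, hz⟩ : deg0 𝒜)
        · obtain ⟨c, hc⟩ := (Submodule.mem_span_range_iff_exists_fun R).1 (hgen g (by omega) z hz)
          rw [← cmp_of_mem 𝒜 hz, ← hc, map_sum]
          refine sum_mem fun i _ => ?_
          rw [cmp_smul_mem (𝒜 := 𝒜) 𝒜 _ (hx i), smul_eq_mul]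
          refine mul_mem (ih (g - 1) (by omega) _ ?_) ⟨MvPolynomial.X i, MvPolynomial.aeval_X x i⟩
          rw [show ((g - 1 : ℕ) : ℤ) = (g : ℤ) - 1 by omega]
          exact cmp_mem 𝒜 _ _
    intro z
    obtain ⟨S, hS⟩ := exists_sum_cmp 𝒜 z
    suffices z ∈ A from this
    rw [hS]
    refine sum_mem fun g _ => ?_
    rcases lt_or_ge g 0 with hg | hg
    · rw [hpos g hg _ (cmp_mem 𝒜 g z)]; exact zero_mem _
    · obtain ⟨n, rfl⟩ := Int.eq_ofNat_of_zero_le hg
      exact key n _ (cmp_mem 𝒜 _ z)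
  exact ⟨AlgEquiv.ofBijective _ ⟨hinj, hsurj⟩, fun t => by
    rw [AlgEquiv.ofBijective_apply, MvPolynomial.aeval_X]; exact hx t⟩

end Sop

end GrothLib.GrLC.LinSop
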