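import Groth.Agent.Lib.GrLC.Cx
import Mathlib.Algebra.Module.LocalizedModule.Basic

/-!
# Localisation of graded modules at a homogeneous element
-/

universe u

open DirectSum

namespace GrothLib.GrLC

open _root_.GrLC (GMod IsGrHom IsStarInj)

variable {ι : Type} [AddCommGroup ι] [DecidableEq ι] {R : Type u} [CommRing R] {σ : Type u} [SetLike σ R]
  [AddSubgroupClass σ R] {𝒜 : ι → σ} [GradedRing 𝒜]

/-- a homogeneous element with its degree -/
structure HElt (𝒜 : ι → σ) : Type u where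
  /-- the element -/
  val : R
  /-- the degree -/
  deg : ι
  mem : val ∈ 𝒜 deg

variable (x : HElt 𝒜)

theorem HElt.pow_mem (n : ℕ) : x.val ^ n ∈ 𝒜 (n • x.deg) := SetLike.pow_mem_graded n x.mem

section Fr

variable {M : Type u} [AddCommGroup M] [Module R M] {N : Type u} [AddCommGroup N] [Module R N]

/-- `m / x^n` -/
noncomputable def fr (n : ℕ) (m : M) : LocalizedModule (Submonoid.powers x.val) M :=
  LocalizedModule.mk m ⟨x.val ^ n, n, rfl⟩

theorem exists_fr (q : LocalizedModule (Submonoid.powers x.val) M) : ∃ (n : ℕ) (m : M), fr x n m = q := by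
  induction q using LocalizedModule.induction_on with
  | h m s =>
    obtain ⟨_, n, rfl⟩ := s
    exact ⟨n, m, rfl⟩

theorem fr_eq_iff {n n' : ℕ} {m m' : M} :
    fr x n m = fr x n' m' ↔ ∃ k : ℕ, x.val ^ (k + n') • m = x.val ^ (k + n) • m' := by
  rw [fr, fr, LocalizedModule.mk_eq]
  constructor
  · rintro ⟨⟨_, k, rfl⟩, h⟩
    refine ⟨k, ?_⟩
    rw [pow_add, pow_add, mul_smul, mul_smul]
    exact h
  · rintro ⟨k, h⟩
    refine ⟨⟨_, k, rfl⟩, ?_⟩
    rw [pow_add, pow_add, mul_smul, mul_smul] at h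
    exact h

theorem fr_zero (n : ℕ) : fr x n (0 : M) = 0 := LocalizedModule.zero_mk _

theorem fr_eq_zero_iff {n : ℕ} {m : M} : fr x n m = 0 ↔ ∃ k : ℕ, x.val ^ k • m = 0 := by
  rw [← fr_zero x 0, fr_eq_iff]
  simp

theorem fr_smul (n : ℕ) (r : R) (m : M) : fr x n (r • m) = r • fr x n m := (LocalizedModule.smul'_mk r m _).symm

theorem fr_pow_smul (n k : ℕ) (m : M) : fr x (n + k) (x.val ^ k • m) = fr x n m :=
  (fr_eq_iff x).2 ⟨0, by rw [smul_smul, ← pow_add, zero_add, zero_add, add_comm]⟩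

theorem fr_add (n : ℕ) (a b : M) : fr x n (a + b) = fr x n a + fr x n b := by
  rw [fr, fr, fr, LocalizedModule.mk_add_mk, ← smul_add]
  exact (LocalizedModule.mk_cancel_common_left _ _ _).symm

theorem fr_neg (n : ℕ) (a : M) : fr x n (-a) = -fr x n a := by
  rw [eq_neg_iff_add_eq_zero, ← fr_add, neg_add_cancel, fr_zero]

theorem fr_sum (n : ℕ) {α : Type*} (S : Finset α) (f : α → M) : fr x n (∑ a ∈ S, f a) = ∑ a ∈ S, fr x n (f a) :=
  map_sum (AddMonoidHom.mk' (fr x n) (fr_add x n)) f S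

/-- the localised map -/
noncomputable def locMap (f : M →ₗ[R] N) :
    LocalizedModule (Submonoid.powers x.val) M →ₗ[R] LocalizedModule (Submonoid.powers x.val) N :=
  IsLocalizedModule.map (Submonoid.powers x.val) (LocalizedModule.mkLinearMap _ M)
    (LocalizedModule.mkLinearMap _ N) f

theorem locMap_fr (f : M →ₗ[R] N) (n : ℕ) (m : M) : locMap x f (fr x n m) = fr x n (f m) := by
  rw [fr, fr, IsLocalizedModule.mk_eq_mk', IsLocalizedModule.mk_eq_mk', locMap, IsLocalizedModule.map_mk']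

/-- the localisation map -/
noncomputable def toLoc : M →ₗ[R] LocalizedModule (Submonoid.powers x.val) M :=
  LocalizedModule.mkLinearMap _ M

theorem toLoc_apply (m : M) : toLoc x m = fr x 0 m := by
  rw [toLoc, LocalizedModule.mkLinearMap_apply, fr]
  exact congrArg (LocalizedModule.mk m) (Subtype.ext (pow_zero x.val).symm)

theorem toLoc_eq_zero_iff (m : M) : toLoc x m = 0 ↔ ∃ k : ℕ, x.val ^ k • m = 0 := by
  rw [toLoc_apply, fr_eq_zero_iff]

theorem locMap_toLoc (f : M →ₗ[R] N) (m : M) : locMap x f (toLoc x m) = toLoc x (f m) := by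
  rw [toLoc_apply, toLoc_apply, locMap_fr]

theorem locMap_injective {f : M →ₗ[R] N} (hf : Function.Injective f) : Function.Injective (locMap x f) :=
  IsLocalizedModule.map_injective _ _ _ f hf

theorem locMap_surjective {f : M →ₗ[R] N} (hf : Function.Surjective f) : Function.Surjective (locMap x f) :=
  IsLocalizedModule.map_surjective _ _ _ f hf

theorem locMap_exact {L : Type u} [AddCommGroup L] [Module R L] {f : M →ₗ[R] N} {g : N →ₗ[R] L}
    (h : Function.Exact f g) : Function.Exact (locMap x f) (locMap x g) := by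
  intro q
  obtain ⟨n, m, rfl⟩ := exists_fr x q
  rw [locMap_fr, fr_eq_zero_iff]
  constructor
  · rintro ⟨k, hk⟩
    rw [← map_smul] at hk
    obtain ⟨a, ha⟩ := (h _).1 hk
    exact ⟨fr x (n + k) a, by rw [locMap_fr, ha, fr_pow_smul]⟩
  · rintro ⟨q', hq'⟩
    obtain ⟨n', a, rfl⟩ := exists_fr x q'
    rw [locMap_fr, fr_eq_iff] at hq'
    obtain ⟨k, hk⟩ := hq'
    refine ⟨k + n', ?_⟩
    rw [← map_smul, ← hk, map_smul, (h (f a)).2 ⟨a, rfl⟩, smul_zero]

end Fr

section Loc

variable (X : GMod.{u} 𝒜)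

/-- the degree `g` part of the localisation -/
noncomputable def locP (g : ι) : AddSubgroup (LocalizedModule (Submonoid.powers x.val) X.carrier) where
  carrier := {q | ∃ n, ∃ m ∈ X.gr (g + n • x.deg), fr x n m = q}
  zero_mem' := ⟨0, 0, zero_mem _, fr_zero x 0⟩
  neg_mem' := by
    rintro q ⟨n, m, hm, rfl⟩
    exact ⟨n, -m, neg_mem hm, fr_neg x n m⟩
  add_mem' := by
    rintro p q ⟨n, a, ha, rfl⟩ ⟨n', b, hb, rfl⟩
    refine ⟨n + n', x.val ^ n' • a + x.val ^ n • b, add_mem ?_ ?_, ?_⟩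
    · have := smul_mem' (𝒜 := 𝒜) X.gr (x.pow_mem n') ha
      rwa [add_left_comm, ← add_nsmul, add_comm n' n] at this
    · have := smul_mem' (𝒜 := 𝒜) X.gr (x.pow_mem n) hb
      rwa [add_left_comm, ← add_nsmul] at this
    · rw [fr_add, fr_pow_smul, add_comm n n', fr_pow_smul]

theorem cmp_fr_congr {n n' : ℕ} {m m' : X.carrier} (h : fr x n m = fr x n' m') (g : ι) :
    fr x n (cmp X.gr (g + n • x.deg) m) = fr x n' (cmp X.gr (g + n' • x.deg) m') := by
  obtain ⟨k, hk⟩ := (fr_eq_iff x).1 h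
  refine (fr_eq_iff x).2 ⟨k, ?_⟩
  have := congrArg (cmp X.gr (g + (k + n + n') • x.deg)) hk
  rw [cmp_smul_of_mem X.gr (x.pow_mem _), cmp_smul_of_mem X.gr (x.pow_mem _)] at this
  convert this using 4 <;> simp only [add_nsmul] <;> abel

/-- the projection -/
noncomputable def locProjFun (g : ι) (q : LocalizedModule (Submonoid.powers x.val) X.carrier) :
    LocalizedModule (Submonoid.powers x.val) X.carrier :=
  fr x (exists_fr x q).choose (cmp X.gr (g + (exists_fr x q).choose • x.deg) (exists_fr x q).choose_spec.choose)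

theorem locProjFun_fr (g : ι) (n : ℕ) (m : X.carrier) :
    locProjFun x X g (fr x n m) = fr x n (cmp X.gr (g + n • x.deg) m) :=
  cmp_fr_congr x X (exists_fr x (fr x n m)).choose_spec.choose_spec g

/-- the projection -/
noncomputable def locProj (g : ι) :
    LocalizedModule (Submonoid.powers x.val) X.carrier →+ LocalizedModule (Submonoid.powers x.val) X.carrier :=
  AddMonoidHom.mk' (locProjFun x X g) fun p q => by
    obtain ⟨n, a, rfl⟩ := exists_fr x p
    obtain ⟨n', b, rfl⟩ := exists_fr x q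
    rw [← fr_pow_smul x n n' a, ← fr_pow_smul x n' n b, add_comm n' n, ← fr_add, locProjFun_fr, locProjFun_fr,
      locProjFun_fr, map_add, fr_add]

theorem locProj_fr (g : ι) (n : ℕ) (m : X.carrier) :
    locProj x X g (fr x n m) = fr x n (cmp X.gr (g + n • x.deg) m) := locProjFun_fr x X g n m

/-- the localisation as a graded module -/
noncomputable abbrev loc : GMod.{u} 𝒜 :=
  mkGMod (LocalizedModule (Submonoid.powers x.val) X.carrier) (locP x X)
    (isInternal_of_proj _ (locProj x X)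
      (fun g q hq => by
        obtain ⟨n, m, hm, rfl⟩ := hq
        rw [locProj_fr, cmp_of_mem _ hm])
      (fun g h hne q hq => by
        obtain ⟨n, m, hm, rfl⟩ := hq
        rw [locProj_fr, cmp_of_mem_ne _ hm (fun e => hne (add_right_cancel e)), fr_zero])
      (fun g q => by
        obtain ⟨n, m, rfl⟩ := exists_fr x q
        exact ⟨n, _, cmp_mem _ _ m, (locProj_fr x X g n m).symm⟩)
      (fun q => by
        classical
        obtain ⟨n, m, rfl⟩ := exists_fr x q
        obtain ⟨S, hS⟩ := exists_sum_cmp X.gr m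
        refine ⟨S.image (· - n • x.deg), ?_⟩
        rw [Finset.sum_image fun a _ b _ h => sub_left_injective h]
        simp only [locProj_fr, sub_add_cancel]
        rw [← fr_sum, ← hS]))
    fun i g r hr q hq => by
      obtain ⟨n, m, hm, rfl⟩ := hq
      exact ⟨n, r • m, by rw [add_assoc]; exact smul_mem' X.gr hr hm, fr_smul x n r m⟩

theorem isHom_toLoc : IsHom (X := X) (Y := loc x X) (toLoc x) := fun g m hm =>
  ⟨0, m, by rwa [zero_nsmul, add_zero], (toLoc_apply x m).symm⟩

variable {X} {Y : GMod.{u} 𝒜}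

theorem isHom_locMap {f : X.carrier →ₗ[R] Y.carrier} (hf : IsHom f) :
    IsHom (X := loc x X) (Y := loc x Y) (locMap x f) := by
  rintro g _ ⟨n, m, hm, rfl⟩
  exact ⟨n, f m, hf _ m hm, (locMap_fr x f n m).symm⟩

end Loc

/-- localisation of a complex -/
noncomputable abbrev GCx.loc (C : GCx.{u} 𝒜) : GCx.{u} 𝒜 where
  X n := GrLC.loc x (C.X n)
  d n := locMap x (C.d n)
  d_hom n := isHom_locMap x (C.d_hom n)
  d_d n q := by
    obtain ⟨k, m, rfl⟩ := exists_fr x q
    change locMap x (C.d (n + 1)) (locMap x (C.d n) (fr x k m)) = 0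
    rw [locMap_fr, locMap_fr, C.d_d, fr_zero]

theorem GCx.loc_acyclic (C : GCx.{u} 𝒜) {n : ℕ} (h : C.Acyclic n) : (C.loc x).Acyclic n := by
  intro z hz
  obtain ⟨j, m, rfl⟩ := exists_fr x z
  have h0 : fr x j (C.d n m) = 0 := (locMap_fr x (C.d n) j m).symm.trans hz
  obtain ⟨k, hk⟩ := (fr_eq_zero_iff x).1 h0
  have hm : x.val ^ k • m ∈ C.bdy n := h (by change C.d n _ = 0; rw [map_smul, hk])
  cases n with
  | zero =>
    refine (Submodule.mem_bot R).2 ((fr_eq_zero_iff x).2 ⟨k, ?_⟩)
    exact (Submodule.mem_bot R).1 hm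
  | succ n =>
    obtain ⟨b, hb⟩ := hm
    exact ⟨fr x (j + k) b, (locMap_fr x (C.d n) (j + k) b).trans (by rw [hb, fr_pow_smul])⟩

end GrothLib.GrLC
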