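import Groth.Agent.Lib.GrDual.Exists
import Groth.Agent.Lib.Segre.CMCriterion
import Groth.Agent.Lib.Segre.GorTools

/-!
# A graded ring with degree zero part a field, as a graded algebra over that field
-/

universe u

open DirectSum

namespace GrothLib.GrLC.OverField

open _root_.GrLC (GMod IsGrHom IsStarInj IsStarInjHull IsStarLocal IsStarCanonical StarInjRes quotGr deg0)
open GrothLib.GrLC (cmp cmp_mem cmp_of_mem cmp_of_mem_ne gr_induction smul_mem')

noncomputable section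

section Transfer

variable {R : Type u} [CommRing R] {σ : Type u} [SetLike σ R] [AddSubgroupClass σ R] {𝒜 : ℤ → σ} [GradedRing 𝒜]
  {σ' : Type u} [SetLike σ' R] [AddSubgroupClass σ' R] {ℬ : ℤ → σ'} [GradedRing ℬ]
  (hsame : ∀ (n : ℤ) (x : R), x ∈ ℬ n ↔ x ∈ 𝒜 n)

include hsame in
theorem cmp_same (n : ℤ) (x : R) : cmp ℬ n x = cmp 𝒜 n x := by
  induction x using gr_induction 𝒜 with
  | h0 => rw [map_zero, map_zero]
  | hadd a b ha hb => rw [map_add, map_add, ha, hb]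
  | hh i x hx =>
    by_cases hi : i = n
    · subst hi; rw [cmp_of_mem 𝒜 hx, cmp_of_mem ℬ ((hsame i x).2 hx)]
    · rw [cmp_of_mem_ne 𝒜 hx hi, cmp_of_mem_ne ℬ ((hsame i x).2 hx) hi]

/-- the same graded module over the same grading -/
def modTo (X : GMod.{u} 𝒜) : GMod.{u} ℬ where
  carrier := X.carrier
  gr := X.gr
  gsmul := ⟨fun {_ _ _ _} ha hb => smul_mem' (𝒜 := 𝒜) X.gr ((hsame _ _).1 ha) hb⟩

include hsame in
theorem starInj_to {M : Type u} [AddCommGroup M] [Module R M] {ℳ : ℤ → AddSubgroup M} [Decomposition ℳ]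
    [SetLike.GradedSMul 𝒜 ℳ] [SetLike.GradedSMul ℬ ℳ] (h : IsStarInj 𝒜 ℳ) : IsStarInj ℬ ℳ :=
  fun A B f hf hinj g hg =>
    h (modTo (fun n x => (hsame n x).symm) A) (modTo (fun n x => (hsame n x).symm) B) f hf hinj g hg

omit [GradedRing ℬ] in
include hsame in
theorem gsmul_to {M : Type u} [AddCommGroup M] [Module R M] (ℳ : ℤ → AddSubgroup M) [Decomposition ℳ]
    [SetLike.GradedSMul 𝒜 ℳ] : SetLike.GradedSMul ℬ ℳ :=
  ⟨fun {_ _ _ _} ha hb => smul_mem' (𝒜 := 𝒜) ℳ ((hsame _ _).1 ha) hb⟩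

/-- the same homogeneous ideal -/
def idealTo (m : HomogeneousIdeal 𝒜) : HomogeneousIdeal ℬ :=
  ⟨m.toIdeal, fun i r hr => by
    change cmp ℬ i r ∈ m.toIdeal
    rw [cmp_same hsame]
    exact m.isHomogeneous i hr⟩

@[simp] theorem toIdeal_idealTo (m : HomogeneousIdeal 𝒜) : (idealTo hsame m).toIdeal = m.toIdeal := rfl

/-- the same resolution of the ring -/
def resTo (I : StarInjRes 𝒜 𝒜) : StarInjRes ℬ ℬ where
  X n := modTo hsame (I.X n)
  d := I.d
  ε := I.ε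
  d_grHom := I.d_grHom
  ε_grHom := fun g x hx => I.ε_grHom g x ((hsame g x).1 hx)
  ε_injective := I.ε_injective
  exact_zero := I.exact_zero
  exact_succ := I.exact_succ
  starInj n := fun A B f hf hinj g hg =>
    I.starInj n (modTo (fun i x => (hsame i x).symm) A) (modTo (fun i x => (hsame i x).symm) B) f hf hinj g hg

theorem Hgr_resTo (I : StarInjRes 𝒜 𝒜) (m : HomogeneousIdeal 𝒜) (n : ℕ) :
    (resTo hsame I).Hgr (idealTo hsame m) n = I.Hgr m n := rfl

theorem quotGr_to (m : HomogeneousIdeal 𝒜) : quotGr ℬ (idealTo hsame m) = quotGr 𝒜 m := by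
  funext g
  refine le_antisymm ?_ ?_ <;> (rintro _ ⟨r, hr, rfl⟩; exact ⟨r, by first | exact (hsame g r).1 hr | exact (hsame g r).2 hr, rfl⟩)

theorem hull_to {m : HomogeneousIdeal 𝒜} {E : Type u} [AddCommGroup E] [Module R E] {𝓔 : ℤ → AddSubgroup E}
    [Decomposition 𝓔] [SetLike.GradedSMul 𝒜 𝓔] [SetLike.GradedSMul ℬ 𝓔] {e : (R ⧸ m.toIdeal) →ₗ[R] E}
    (he : IsStarInjHull 𝒜 (quotGr 𝒜 m) 𝓔 e) :
    IsStarInjHull (M := R ⧸ m.toIdeal) ℬ (quotGr ℬ (idealTo hsame m)) 𝓔 e := by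
  refine ⟨⟨he.injective, fun g x hx => he.grHom g x ?_, he.essential⟩, starInj_to hsame he.starInj⟩
  obtain ⟨r, hr, rfl⟩ := hx
  exact ⟨r, (hsame g r).1 hr, rfl⟩

theorem canonical_to {m : HomogeneousIdeal 𝒜} {n : ℕ} {I : StarInjRes 𝒜 𝒜} {E : Type u} [AddCommGroup E] [Module R E]
    {𝓔 : ℤ → AddSubgroup E} [Decomposition 𝓔] [SetLike.GradedSMul 𝒜 𝓔] [SetLike.GradedSMul ℬ 𝓔]
    {C : Type u} [AddCommGroup C] [Module R C] {𝒞 : ℤ → AddSubgroup C} [Decomposition 𝒞]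
    [SetLike.GradedSMul 𝒜 𝒞] [SetLike.GradedSMul ℬ 𝒞] (hC : IsStarCanonical 𝒜 𝒞 𝓔 m n I) :
    IsStarCanonical ℬ 𝒞 𝓔 (idealTo hsame m) n (resTo hsame I) := by
  obtain ⟨hfin, φ, hφ⟩ := hC
  exact ⟨hfin, φ, fun d f hf => hφ d f hf⟩

include hsame in
theorem isStarLocal_to {m : HomogeneousIdeal 𝒜} (hm : IsStarLocal 𝒜 m) : IsStarLocal ℬ (idealTo hsame m) := by
  have hsymm : ∀ (n : ℤ) (x : R), x ∈ 𝒜 n ↔ x ∈ ℬ n := fun n x => (hsame n x).symm
  have hco : ∀ J : HomogeneousIdeal ℬ, IsCoatom J → IsCoatom (idealTo hsymm J) := fun J hJ =>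
    ⟨fun h => hJ.1 (HomogeneousIdeal.toIdeal_injective (show J.toIdeal = _ by
      have := congrArg HomogeneousIdeal.toIdeal h
      rw [HomogeneousIdeal.toIdeal_top] at this ⊢
      exact this)),
      fun K hK => HomogeneousIdeal.toIdeal_injective (by
        have := congrArg HomogeneousIdeal.toIdeal (hJ.2 (idealTo hsame K) hK)
        rw [HomogeneousIdeal.toIdeal_top] at this ⊢
        exact this)⟩
  refine ⟨⟨fun h => hm.1.1 (HomogeneousIdeal.toIdeal_injective (show m.toIdeal = _ by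
      have := congrArg HomogeneousIdeal.toIdeal h
      rw [HomogeneousIdeal.toIdeal_top] at this ⊢
      exact this)),
    fun K hK => HomogeneousIdeal.toIdeal_injective (by
      have := congrArg HomogeneousIdeal.toIdeal (hm.1.2 (idealTo hsymm K) hK)
      rw [HomogeneousIdeal.toIdeal_top] at this ⊢
      exact this)⟩, fun J hJ => HomogeneousIdeal.toIdeal_injective ?_⟩
  have h2 := hm.2 _ (hco J hJ)
  exact (congrArg HomogeneousIdeal.toIdeal h2 : J.toIdeal = m.toIdeal)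

end Transfer

section Field

variable {R : Type u} [CommRing R] {σ : Type u} [SetLike σ R] [AddSubgroupClass σ R] (𝒜 : ℤ → σ) [GradedRing 𝒜]

/-- the pieces as subspaces over the degree zero field -/
abbrev alg : ℤ → Submodule (deg0 𝒜) R := fun n => _root_.GrLC.comp 𝒜 𝒜 n

theorem mem_alg (n : ℤ) (x : R) : x ∈ alg 𝒜 n ↔ x ∈ 𝒜 n := Iff.rfl

noncomputable instance algGraded : GradedAlgebra (alg 𝒜) :=
  { (isInternal_of_proj (fun n => (alg 𝒜 n).toAddSubgroup) (cmp 𝒜) (fun _ _ hx => cmp_of_mem 𝒜 hx)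
      (fun _ _ hne _ hx => cmp_of_mem_ne 𝒜 hx hne) (cmp_mem 𝒜) (GrothLib.GrLC.exists_sum_cmp 𝒜) :
      DirectSum.IsInternal (alg 𝒜)).chooseDecomposition with
    one_mem := SetLike.GradedOne.one_mem (A := 𝒜)
    mul_mem := fun {_ _ _ _} ha hb => SetLike.GradedMul.mul_mem (A := 𝒜) ha hb }

variable {𝒜}

theorem hpos_alg (hpos : ∀ n : ℤ, n < 0 → ∀ r ∈ 𝒜 n, r = 0) : ∀ n : ℤ, n < 0 → alg 𝒜 n = ⊥ :=
  fun n hn => (Submodule.eq_bot_iff _).2 (hpos n hn)

theorem zero_alg : alg 𝒜 0 = Submodule.span (deg0 𝒜) {(1 : R)} := by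
  refine le_antisymm (fun x hx => Submodule.mem_span_singleton.2 ⟨⟨x, hx⟩, mul_one x⟩)
    ((Submodule.span_singleton_le_iff_mem _ _).2 (SetLike.GradedOne.one_mem (A := alg 𝒜)))

theorem hmsp_alg {m : HomogeneousIdeal 𝒜}
    (hmsp : m.toIdeal = Ideal.span (⋃ n ∈ Set.Ioi (0 : ℤ), (𝒜 n : Set R))) :
    (idealTo (mem_alg 𝒜) m).toIdeal = Ideal.span (⋃ n ∈ Set.Ioi (0 : ℤ), (alg 𝒜 n : Set R)) := hmsp

theorem hstd_alg (hstd : Ideal.span (⋃ n ∈ Set.Ioi (0 : ℤ), (𝒜 n : Set R)) = Ideal.span (𝒜 1 : Set R)) :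
    Ideal.span (⋃ n ∈ Set.Ioi (0 : ℤ), (alg 𝒜 n : Set R)) = Ideal.span (alg 𝒜 1 : Set R) := hstd

/-- A Noetherian positively graded ring is of finite type over its degree zero part. -/
theorem finiteType_alg [IsNoetherianRing R] (hpos : ∀ n : ℤ, n < 0 → ∀ r ∈ 𝒜 n, r = 0) :
    Algebra.FiniteType (deg0 𝒜) R := by
  classical
  let m : HomogeneousIdeal 𝒜 := ⟨Ideal.span (⋃ n ∈ Set.Ioi (0 : ℤ), (𝒜 n : Set R)),
    Ideal.homogeneous_span _ _ fun x hx => by
      obtain ⟨i, -, hx⟩ := Set.mem_iUnion₂.1 hx; exact ⟨i, hx⟩⟩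
  obtain ⟨l, hl, -, hgen⟩ := GrothLib.GrLC.exists_pos_list hpos m fun n hn r hr =>
    Ideal.subset_span (Set.mem_iUnion₂.2 ⟨n, hn, hr⟩)
  let E : Finset R := (l.map HElt.val).toFinset
  let A := Algebra.adjoin (deg0 𝒜) (E : Set R)
  refine ⟨E, eq_top_iff.2 fun x _ => ?_⟩
  suffices key : ∀ (s : ℕ) (n : ℤ), n < s → ∀ t ∈ 𝒜 n, t ∈ A by
    clear * - key
    induction x using gr_induction 𝒜 with
    | h0 => exact zero_mem _
    | hadd a b ha hb => exact add_mem ha hb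
    | hh n x hx => exact key (n.toNat + 1) n (by omega) x hx
  intro s
  induction s with
  | zero => intro n hn t ht; rw [hpos n (by simpa using hn) t ht]; exact zero_mem _
  | succ s ih =>
    intro n hn t ht
    rcases lt_trichotomy n 0 with h | rfl | h
    · rw [hpos n h t ht]; exact zero_mem _
    · exact A.algebraMap_mem ⟨t, ht⟩
    · have h' := hgen n h t ht
      rw [← cmp_of_mem 𝒜 ht]
      clear ht
      induction h' using Submodule.span_induction with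
      | mem r hr =>
        obtain ⟨y, hy, hd, rfl⟩ := hr
        by_cases hyn : y.deg = n
        · subst hyn
          rw [cmp_of_mem 𝒜 y.mem]
          exact Algebra.subset_adjoin (List.mem_toFinset.2 (List.mem_map.2 ⟨y, hy, rfl⟩))
        · rw [cmp_of_mem_ne 𝒜 y.mem hyn]; exact zero_mem _
      | zero => rw [map_zero]; exact zero_mem _
      | add a b _ _ ha hb => rw [map_add]; exact add_mem ha hb
      | smul c r hr ihr =>
        clear ihr
        induction hr using Submodule.span_induction generalizing c with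
        | mem r hr =>
          obtain ⟨y, hy, hd, rfl⟩ := hr
          rw [smul_eq_mul, mul_comm, ← smul_eq_mul, GrothLib.GrLC.cmp_smul_of_mem 𝒜 y.mem, smul_eq_mul]
          exact mul_mem (Algebra.subset_adjoin (List.mem_toFinset.2 (List.mem_map.2 ⟨y, hy, rfl⟩)))
            (ih _ (by omega) _ (cmp_mem 𝒜 _ c))
        | zero => rw [smul_zero, map_zero]; exact zero_mem _
        | add a b _ _ ha hb => rw [smul_add, map_add]; exact add_mem (ha c) (hb c)
        | smul e a _ ha => rw [smul_smul]; exact ha (c * e)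

end Field

end

end GrothLib.GrLC.OverField

namespace GrothLib.GrDual

open _root_.GrLC (GMod IsStarInjHull IsStarCanonical quotGr StarInjRes)

open scoped GrothLib.Segre

noncomputable section

variable {k : Type u} [Field k] {R : Type u} [CommRing R] [Algebra k R] [Nontrivial R] {𝒜 : ℤ → Submodule k R}
  [GradedAlgebra 𝒜]

/-- The top local cohomology is the graded dual of any *canonical module. -/
theorem exists_isGDual_of_canonical (hpos : ∀ n : ℤ, n < 0 → 𝒜 n = ⊥) (h0 : 𝒜 0 = Submodule.span k {(1 : R)})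
    {m : HomogeneousIdeal 𝒜} (hm : m.toIdeal = Ideal.span (⋃ n ∈ Set.Ioi (0 : ℤ), (𝒜 n : Set R))) {n : ℕ}
    {I : StarInjRes 𝒜 𝒜} {E C : GMod.{u} 𝒜} {e : (R ⧸ m.toIdeal) →ₗ[R] E.carrier}
    (he : IsStarInjHull 𝒜 (quotGr 𝒜 m) E.gr e) (hC : IsStarCanonical 𝒜 C.gr E.gr m n I) :
    ∃ β : (GrothLib.GrLC.EH I m n).carrier →ₗ[k] C.carrier →ₗ[k] k,
      GrSeg.IsGDual R C.gr (GrothLib.GrLC.EH I m n).gr β := by
  obtain ⟨βE, hE⟩ := exists_isGDual_hull hpos h0 hm (one_notMem_irrel _ hpos hm) he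
  obtain ⟨hfin, Φ, hΦ⟩ := hC
  let e' : (C.carrier →ₗ[R] E.carrier) ≃ₗ[R] (GrothLib.GrLC.EH I m n).carrier := Φ
  exact exists_isGDual_of_equiv hE (ℳ := C.gr) (ℋ := (GrothLib.GrLC.EH I m n).gr) e'
    fun d g hg => (GrothLib.GrLC.EH_gr_iff I m n d _).1 (hΦ d g hg)

end

end GrothLib.GrDual
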