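import Groth.Agent.Lib.GrLC.Pieces
import Mathlib.RingTheory.Finiteness.Cardinality

/-!
# Finiteness of the pieces of graded local cohomology
-/

universe u

open DirectSum

namespace GrothLib.GrLC

open _root_.GrLC (GMod IsGrHom deg0 comp StarInjRes)

theorem isArtinian_of_torsion_of_ker {S A : Type*} [CommRing S] [AddCommGroup A] [Module S A] (c : S)
    (ht : ∀ a : A, ∃ k : ℕ, c ^ k • a = 0) (h : IsArtinian S (LinearMap.ker (LinearMap.lsmul S A c))) :
    IsArtinian S A := by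
  refine monotone_stabilizes_iff_artinian.1 fun N => ?_
  let K := LinearMap.ker (LinearMap.lsmul S A c)
  let F : ℕ → ℕ → Submodule S K := fun n j =>
    ((OrderDual.ofDual (N j)).map (LinearMap.lsmul S A (c ^ n))).comap K.subtype
  have hn : ∀ j n n', n ≤ n' → F n' j ≤ F n j := fun j n n' hle x hx => by
    obtain ⟨y, hy, e⟩ := hx
    refine ⟨c ^ (n' - n) • y, Submodule.smul_mem _ _ hy, ?_⟩
    change c ^ n • c ^ (n' - n) • y = x
    rw [smul_smul, ← pow_add, Nat.add_sub_cancel' hle]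
    exact e
  have hj : ∀ n j j', j ≤ j' → F n j' ≤ F n j := fun n j j' hle =>
    Submodule.comap_mono (Submodule.map_mono (N.monotone hle : OrderDual.ofDual (N j') ≤ OrderDual.ofDual (N j)))
  obtain ⟨_, ⟨⟨n₀, j₀⟩, rfl⟩, hmin⟩ := IsArtinian.set_has_minimal (Set.range fun p : ℕ × ℕ => F p.1 p.2) ⟨_, (0, 0), rfl⟩
  have hconst : ∀ n, n₀ ≤ n → ∀ j, j₀ ≤ j → F n j = F n₀ j₀ := fun n h1 j h2 =>
    le_antisymm ((hn j n₀ n h1).trans (hj n₀ j₀ j h2)) (by
      by_contra hlt
      exact hmin _ ⟨(n, j), rfl⟩ (lt_of_le_not_ge ((hn j n₀ n h1).trans (hj n₀ j₀ j h2)) hlt))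
  choose J hJ using fun n => IsArtinian.monotone_stabilizes
    ⟨fun j => OrderDual.toDual (F n j), fun j j' h => hj n j j' h⟩
  refine ⟨max j₀ ((Finset.range n₀).sup J), fun j hle => ?_⟩
  set j₁ := max j₀ ((Finset.range n₀).sup J) with hj₁
  have hstab : ∀ n, F n j₁ = F n j := fun n => by
    rcases lt_or_ge n n₀ with h | h
    · have h1 : J n ≤ j₁ := (Finset.le_sup (f := J) (Finset.mem_range.2 h)).trans (le_max_right _ _)
      exact ((hJ n j₁ h1).symm.trans (hJ n j (h1.trans hle)) : OrderDual.toDual (F n j₁) = OrderDual.toDual (F n j))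
    · rw [hconst n h j₁ (le_max_left _ _), hconst n h j ((le_max_left _ _).trans hle)]
  refine le_antisymm (N.monotone hle) ?_
  have hsub : OrderDual.ofDual (N j) ≤ OrderDual.ofDual (N j₁) := N.monotone hle
  suffices key : ∀ n, ∀ y ∈ OrderDual.ofDual (N j₁), c ^ n • y = 0 → y ∈ OrderDual.ofDual (N j) by
    intro y hy
    obtain ⟨n, hy0⟩ := ht y
    exact key n y hy hy0
  intro n
  induction n with
  | zero =>
    intro y _ h0
    rw [pow_zero, one_smul] at h0
    rw [h0]; exact zero_mem _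
  | succ n ih =>
    intro y hy h0
    have hmem : c • c ^ n • y = 0 := by rw [smul_smul, ← pow_succ', h0]
    obtain ⟨y', hy', e⟩ := (hstab n).le (show (⟨c ^ n • y, hmem⟩ : K) ∈ F n j₁ from ⟨y, hy, rfl⟩)
    have h1 : y - y' ∈ OrderDual.ofDual (N j) := ih (y - y') (sub_mem hy (hsub hy')) (by
      change c ^ n • y' = c ^ n • y at e
      rw [smul_sub, e, sub_self])
    simpa using add_mem h1 hy'

variable {R : Type u} [CommRing R] {σ : Type u} [SetLike σ R] [AddSubgroupClass σ R] {𝒜 : ℤ → σ} [GradedRing 𝒜]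

section Devissage

variable (P : ∀ (A : Type u) [AddCommGroup A] [Module (deg0 𝒜) A], Prop)
  (hmid : ∀ {A B C : Type u} [AddCommGroup A] [Module (deg0 𝒜) A] [AddCommGroup B] [Module (deg0 𝒜) B]
    [AddCommGroup C] [Module (deg0 𝒜) C] (f : A →ₗ[deg0 𝒜] B) (g : B →ₗ[deg0 𝒜] C),
      LinearMap.range f = LinearMap.ker g → P A → P C → P B)
  (hsub : ∀ {A : Type u} [AddCommGroup A] [Module (deg0 𝒜) A], Subsingleton A → P A)

include hmid hsub

theorem good_ker {A B C : Type u} [AddCommGroup A] [Module (deg0 𝒜) A] [AddCommGroup B] [Module (deg0 𝒜) B]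
    [AddCommGroup C] [Module (deg0 𝒜) C] (f : A →ₗ[deg0 𝒜] B) (g : B →ₗ[deg0 𝒜] C)
    (h : LinearMap.range f = LinearMap.ker g) (hA : P A) : P (LinearMap.ker g) := by
  refine hmid (C := PUnit.{u + 1}) (f.codRestrict (LinearMap.ker g) fun a => h.le ⟨a, rfl⟩) 0 ?_ hA (hsub inferInstance)
  rw [LinearMap.ker_zero, eq_top_iff]
  rintro ⟨b, hb⟩ -
  obtain ⟨a, ha⟩ := h.ge hb
  exact ⟨a, Subtype.ext ha⟩

theorem good_equiv {A B : Type u} [AddCommGroup A] [Module (deg0 𝒜) A] [AddCommGroup B] [Module (deg0 𝒜) B]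
    (e : A ≃ₗ[deg0 𝒜] B) (hA : P A) : P B :=
  hmid (C := PUnit.{u + 1}) e.toLinearMap 0 (by rw [LinearMap.ker_zero, LinearEquiv.range]) hA (hsub inferInstance)

theorem good_ker_comp {A B C : Type u} [AddCommGroup A] [Module (deg0 𝒜) A] [AddCommGroup B] [Module (deg0 𝒜) B]
    [AddCommGroup C] [Module (deg0 𝒜) C] (f : A →ₗ[deg0 𝒜] B) (g : B →ₗ[deg0 𝒜] C) (hf : P (LinearMap.ker f))
    (hg : P (LinearMap.ker g)) : P (LinearMap.ker (g ∘ₗ f)) := by
  refine hmid (Submodule.inclusion (LinearMap.ker_le_ker_comp f g))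
    ((f ∘ₗ (LinearMap.ker (g ∘ₗ f)).subtype).codRestrict (LinearMap.ker g) fun a => a.2) ?_ hf hg
  ext a
  simp only [LinearMap.mem_range, LinearMap.mem_ker]
  constructor
  · rintro ⟨b, rfl⟩
    exact Subtype.ext (b.2 : f b.1 = 0)
  · exact fun ha => ⟨⟨a.1, congrArg Subtype.val ha⟩, rfl⟩

variable [IsNoetherianRing R]

theorem good_devissage {l : List (HElt 𝒜)} (hl : ∀ y ∈ l, 0 ≤ y.deg)
    (hgen : ∀ n : ℤ, 0 < n → ∀ r ∈ 𝒜 n, r ∈ Ideal.span {r | ∃ y ∈ l, 0 < y.deg ∧ y.val = r})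
    (hbase : ∀ X : GMod.{u} 𝒜, IsNoetherian R X.carrier → (∀ y ∈ l, ∀ m : X.carrier, y.val • m = 0) →
      ∀ g, P (comp 𝒜 X.gr g))
    (hzero : ∀ y ∈ l, y.deg = 0 → y.val = 0 ∨ ∀ (A : Type u) [AddCommGroup A] [Module (deg0 𝒜) A] (c : deg0 𝒜),
      (∀ a : A, ∃ k : ℕ, c ^ k • a = 0) → P (LinearMap.ker (LinearMap.lsmul (deg0 𝒜) A c)) → P A) :
    ∀ (X : GMod.{u} 𝒜), IsNoetherian R X.carrier → ∀ (i : ℕ) (g : ℤ), P (HP (cech X l) i g) := by
  suffices H : ∀ J : Ideal R, ∀ (X : GMod.{u} 𝒜), IsNoetherian R X.carrier →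
      (∀ r ∈ J, ∀ m : X.carrier, r • m = 0) → ∀ (i : ℕ) (g : ℤ), P (HP (cech X l) i g) from
    fun X hX => H ⊥ X hX fun r hr m => by rw [(Submodule.mem_bot R).1 hr, zero_smul]
  intro J
  induction J using WellFoundedGT.induction with
  | _ J ih =>
    intro X hX hJ i g
    by_cases hall : ∀ y ∈ l, y.val ∈ J
    · have hk : ∀ y ∈ l, ∀ m : X.carrier, y.val • m = 0 := fun y hy m => hJ _ (hall y hy) m
      have ht : ∀ y ∈ l, ∀ m : X.carrier, ∃ k : ℕ, y.val ^ k • m = 0 :=
        fun y hy m => ⟨1, by rw [pow_one]; exact hk y hy m⟩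
      rcases i with _ | i
      · let f : comp 𝒜 X.gr g →ₗ[deg0 𝒜] HP (cech X l) 0 g := Submodule.mkQ _ ∘ₗ
          (((inc0 X l).restrictScalars (deg0 𝒜)) ∘ₗ (comp 𝒜 X.gr g).subtype).codRestrict (ZP (cech X l) 0 g)
            (fun m => ⟨isHom_inc0 X l g _ m.2, (mem_cyc_zero l _).2 ((forall_list_iff_mem_gam l _).1 fun y hy => ht y hy _)⟩)
        refine hmid (C := PUnit.{u + 1}) f 0 ?_ (hbase X hX hk g) (hsub inferInstance)
        rw [LinearMap.ker_zero, LinearMap.range_eq_top]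
        intro q
        obtain ⟨⟨z, hzg, hzc⟩, rfl⟩ := Submodule.Quotient.mk_surjective _ q
        obtain ⟨m, rfl⟩ := (inc0_bijective X l).2 z
        have hm : m = cmp X.gr g m := (inc0_bijective X l).1
          (((isHom_inc0 X l).cmp g m).trans (cmp_of_mem _ hzg)).symm
        exact ⟨⟨m, hm ▸ cmp_mem X.gr g m⟩, rfl⟩
      · exact hsub (subsingleton_HP _ (van_torsion ht (Nat.succ_pos i)))
    · push_neg at hall
      obtain ⟨x, hx, hxJ⟩ := hall
      have hlt : J < J ⊔ Ideal.span {x.val} := left_lt_sup.2 fun h => hxJ (h (Ideal.mem_span_singleton_self _))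
      obtain ⟨T, θ, hθ, hθinj, hθr⟩ : ∃ (T : GMod.{u} 𝒜) (θ : T.carrier →ₗ[R] (shift X (-x.deg)).carrier),
          IsHom θ ∧ Function.Injective θ ∧ LinearMap.range θ = LinearMap.ker (mulShift X x) :=
        ⟨sub (shift X (-x.deg)) _ (isHomogeneous_ker (isHom_mulShift X x)), Submodule.subtype _,
          isHom_subtype (shift X (-x.deg)) _ (isHomogeneous_ker (isHom_mulShift X x)),
          Submodule.injective_subtype _, Submodule.range_subtype _⟩
      obtain ⟨W, q, j, hq, hj, hqs, hjinj, hjq⟩ : ∃ (W : GMod.{u} 𝒜) (q : (shift X (-x.deg)).carrier →ₗ[R] W.carrier)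
          (j : W.carrier →ₗ[R] X.carrier), IsHom q ∧ IsHom j ∧ Function.Surjective q ∧ Function.Injective j ∧
            j ∘ₗ q = mulShift X x :=
        ⟨sub X _ (isHomogeneous_range (isHom_mulShift X x)), (mulShift X x).rangeRestrict, Submodule.subtype _,
          fun g m hm => isHom_mulShift X x g m hm, isHom_subtype X _ (isHomogeneous_range (isHom_mulShift X x)),
          LinearMap.surjective_rangeRestrict _, Submodule.injective_subtype _, rfl⟩
      obtain ⟨N, p, hp, hps, hpk⟩ : ∃ (N : GMod.{u} 𝒜) (p : X.carrier →ₗ[R] N.carrier), IsHom p ∧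
          Function.Surjective p ∧ LinearMap.ker p = LinearMap.range (mulShift X x) :=
        ⟨quot X _ (isHomogeneous_range (isHom_mulShift X x)), Submodule.mkQ _,
          isHom_mkQ X _ (isHomogeneous_range (isHom_mulShift X x)), Submodule.mkQ_surjective _, Submodule.ker_mkQ _⟩
      have hkill : ∀ r ∈ J ⊔ Ideal.span {x.val}, ∀ m : X.carrier, (x.val • m = 0 → r • m = 0) ∧
          (r • m ∈ LinearMap.range (mulShift X x)) := by
        intro r hr m
        obtain ⟨a, ha, c, hc, rfl⟩ := Submodule.mem_sup.1 hr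
        obtain ⟨d, rfl⟩ := Ideal.mem_span_singleton'.1 hc
        rw [add_smul, hJ a ha, zero_add, mul_smul]
        exact ⟨fun h => by rw [h, smul_zero], ⟨d • m, smul_comm x.val d m⟩⟩
      have hS : IsNoetherian R (shift X (-x.deg)).carrier := hX
      have hT : ∀ i g, P (HP (cech T l) i g) := ih _ hlt T (isNoetherian_of_injective θ hθinj) fun r hr v =>
        hθinj (by
          rw [map_smul, map_zero]
          exact (hkill r hr (θ v)).1 (hθr.le ⟨v, rfl⟩))
      have hN : ∀ i g, P (HP (cech N l) i g) := ih _ hlt N (isNoetherian_of_surjective p (LinearMap.range_eq_top.2 hps)) fun r hr v => by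
        obtain ⟨m, rfl⟩ := hps v
        rw [← map_smul]
        exact hpk.ge (hkill r hr m).2
      have S₁ := cechMap_ses (X := T) (Y := shift X (-x.deg)) (Z := W) hθ hq hθinj hqs (LinearMap.exact_iff.2 (by
        rw [hθr, ← hjq, LinearMap.ker_comp_of_ker_eq_bot _ (LinearMap.ker_eq_bot.2 hjinj)])) l
      have S₂ := cechMap_ses (X := W) (Y := X) (Z := N) hj hp hjinj hps (LinearMap.exact_iff.2 (by
        rw [hpk, ← hjq, LinearMap.range_comp_of_range_eq_top _ (LinearMap.range_eq_top.2 hqs)])) l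
      have hkμ : ∀ (n : ℕ) (e : ℤ),
          P (LinearMap.ker ((cechMap (mulShift X x) (isHom_mulShift X x) l).HPmap n e)) := by
        intro n e
        have hcomp : (cechMap (mulShift X x) (isHom_mulShift X x) l).HPmap n e =
            (cechMap j hj l).HPmap n e ∘ₗ (cechMap q hq l).HPmap n e := by
          refine LinearMap.ext fun z => ?_
          obtain ⟨z, rfl⟩ := Submodule.Quotient.mk_surjective _ z
          rw [LinearMap.comp_apply, Mor.HPmap_mk, Mor.HPmap_mk, Mor.HPmap_mk]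
          refine congrArg Submodule.Quotient.mk (Subtype.ext ?_)
          exact ((cechMap_comp q hq j hj l n z.1).trans (cechMap_congr _ _ _ _ hjq l n z.1)).symm
        rw [hcomp]
        refine good_ker_comp P hmid hsub _ _ (good_ker P hmid hsub _ _ (S₁.HP_exact n e) (hT n e)) ?_
        rcases n with _ | n
        · refine hsub (subsingleton_of_forall_eq 0 ?_)
          rintro ⟨z, hz⟩
          obtain ⟨z, rfl⟩ := Submodule.Quotient.mk_surjective _ z
          rw [LinearMap.mem_ker, Mor.HPmap_mk, HP_mk_eq_zero] at hz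
          refine Subtype.ext ((HP_mk_eq_zero _ z).2 ((Submodule.mem_bot R).2 (S₂.inj 0 ?_)))
          rw [map_zero]
          exact (Submodule.mem_bot R).1 hz
        · obtain ⟨δ, hδ⟩ := S₂.HP_exact_left n e
          exact good_ker P hmid hsub δ _ hδ (hN n e)
      rcases (hl x hx).lt_or_eq with hd | hd
      · obtain ⟨b, hb⟩ := exists_high_van hl hgen X inferInstance
        suffices key : ∀ (t : ℕ) (e : ℤ), b ≤ e + t → P (HP (cech X l) i e) from
          key (b - g).toNat g (by omega)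
        intro t
        induction t with
        | zero => exact fun e he => hsub (subsingleton_HP _ (hb i e (by simpa using he)))
        | succ t iht =>
          intro e he
          obtain ⟨σe, -⟩ := exists_HP_shift l X (-x.deg) i (e + x.deg)
          have h1 : P (HP (cech (shift X (-x.deg)) l) i (e + x.deg)) :=
            hmid (LinearMap.ker ((cechMap (mulShift X x) (isHom_mulShift X x) l).HPmap i (e + x.deg))).subtype
              ((cechMap (mulShift X x) (isHom_mulShift X x) l).HPmap i (e + x.deg)) (Submodule.range_subtype _)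
              (hkμ i (e + x.deg)) (iht (e + x.deg) (by push_cast at he; omega))
          have h2 := good_equiv P hmid hsub σe h1
          rwa [add_neg_cancel_right] at h2
      · rcases hzero x hx hd.symm with h0 | h0
        · exact absurd (h0 ▸ zero_mem J) hxJ
        let c : deg0 𝒜 := ⟨x.val, by have := x.mem; rwa [← hd] at this⟩
        obtain ⟨σe, hσe⟩ := exists_HP_shift l X (-x.deg) i g
        have hgg : g + -x.deg = g := by rw [← hd, neg_zero, add_zero]
        refine h0 (HP (cech X l) i g) c (fun a => ?_) ?_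
        · obtain ⟨⟨z, hzg, hzc⟩, rfl⟩ := Submodule.Quotient.mk_surjective _ a
          obtain ⟨k, hk⟩ := exists_pow_smul_mem_bdy hzc hx
          refine ⟨k, ?_⟩
          rw [← Submodule.Quotient.mk_smul]
          refine (HP_mk_eq_zero _ _).2 ?_
          change ((c ^ k : deg0 𝒜) : R) • z ∈ (cech X l).bdy i
          rwa [SubmonoidClass.coe_pow]
        · let κ : LinearMap.ker ((cechMap (mulShift X x) (isHom_mulShift X x) l).HPmap i g) →ₗ[deg0 𝒜]
              HP (cech X l) i (g + -x.deg) := σe.toLinearMap ∘ₗ Submodule.subtype _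
          have hcast : P (LinearMap.ker (LinearMap.lsmul (deg0 𝒜) (HP (cech X l) i (g + -x.deg)) c)) := by
            refine hmid (A := LinearMap.ker ((cechMap (mulShift X x) (isHom_mulShift X x) l).HPmap i g))
              (C := PUnit.{u + 1}) (κ.codRestrict _ ?_) 0 ?_ (hkμ i g) (hsub inferInstance)
            · rintro ⟨v, hv⟩
              obtain ⟨z, rfl⟩ := Submodule.Quotient.mk_surjective _ v
              obtain ⟨h, e⟩ := hσe z
              rw [LinearMap.mem_ker]
              change c • σe (Submodule.Quotient.mk z) = 0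
              rw [e, ← Submodule.Quotient.mk_smul]
              refine (HP_mk_eq_zero _ _).2 ?_
              rw [LinearMap.mem_ker, Mor.HPmap_mk, HP_mk_eq_zero] at hv
              change (cechMap (mulShift X x) (isHom_mulShift X x) l).f i z.1 ∈ _ at hv
              rw [cechMap_mulShift X x l i] at hv
              exact hv
            · rw [LinearMap.ker_zero, LinearMap.range_eq_top]
              rintro ⟨v, hv⟩
              obtain ⟨z, hz⟩ := Submodule.Quotient.mk_surjective _ (σe.symm v)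
              obtain ⟨h, e⟩ := hσe z
              refine ⟨⟨σe.symm v, ?_⟩, Subtype.ext (σe.apply_symm_apply v)⟩
              rw [← hz, LinearMap.mem_ker, Mor.HPmap_mk, HP_mk_eq_zero]
              change (cechMap (mulShift X x) (isHom_mulShift X x) l).f i z.1 ∈ _
              rw [cechMap_mulShift X x l i]
              have hv' : c • v = 0 := hv
              rw [← σe.apply_symm_apply v, ← hz, e, ← Submodule.Quotient.mk_smul, HP_mk_eq_zero] at hv'
              exact hv'
          rwa [hgg] at hcast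

end Devissage

section Apply

variable [IsNoetherianRing R] {M : Type u} [AddCommGroup M] [Module R M] [Module.Finite R M] {τ : Type u}
  [SetLike τ M] [AddSubgroupClass τ M] {ℳ : ℤ → τ} [Decomposition ℳ] [SetLike.GradedSMul 𝒜 ℳ]
  (E : StarInjRes 𝒜 ℳ) (hpos : ∀ n : ℤ, n < 0 → ∀ r ∈ 𝒜 n, r = 0) (a : HomogeneousIdeal 𝒜)

include hpos

theorem finite_Hcomp (ha : a.toIdeal = Ideal.span (⋃ n ∈ Set.Ioi (0 : ℤ), (𝒜 n : Set R))) (i : ℕ) (g : ℤ) :
    Module.Finite (deg0 𝒜) (E.Hcomp a i g) := by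
  classical
  obtain ⟨L, hL, hspan, hgen⟩ := exists_pos_list hpos a
    (fun n hn r hr => ha ▸ Ideal.subset_span (Set.mem_biUnion (Set.mem_Ioi.2 hn) hr))
  let l := L.filter fun y => decide (0 < y.deg)
  have hl' : ∀ y ∈ l, 0 < y.deg := fun y hy => of_decide_eq_true (p := 0 < y.deg) (List.mem_filter.1 hy).2
  have hgen' : ∀ n : ℤ, 0 < n → ∀ r ∈ 𝒜 n, r ∈ Ideal.span {r | ∃ y ∈ l, 0 < y.deg ∧ y.val = r} :=
    fun n hn r hr => Ideal.span_mono (by
      rintro r ⟨y, hy, hd, rfl⟩
      exact ⟨y, List.mem_filter.2 ⟨hy, decide_eq_true hd⟩, hd, rfl⟩) (hgen n hn r hr)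
  have hspan' : (GrLC.hspan l).toIdeal = a.toIdeal := by
    refine le_antisymm ?_ ?_
    · rw [← hspan]
      exact Ideal.span_mono (by rintro r ⟨y, hy, rfl⟩; exact ⟨y, (List.mem_filter.1 hy).1, rfl⟩)
    · rw [ha]
      refine Ideal.span_le.2 fun r hr => ?_
      obtain ⟨n, hn, hr⟩ := Set.mem_iUnion₂.1 hr
      exact Ideal.span_mono (by rintro r ⟨y, hy, -, rfl⟩; exact ⟨y, hy, rfl⟩) (hgen' n hn r hr)
  have hX : IsNoetherian R (gmod 𝒜 ℳ).carrier := isNoetherian_of_isNoetherianRing_of_finite R M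
  have h := good_devissage (𝒜 := 𝒜) (fun A _ _ => IsNoetherian (deg0 𝒜) A)
    (fun f g h hA hC => isNoetherian_of_range_eq_ker f g h) (fun h => inferInstance)
    (fun y hy => (hl' y hy).le) hgen' (fun X hX _ g => isNoetherian_comp X.gr g)
    (fun y hy h0 => absurd h0 (hl' y hy).ne') (gmod 𝒜 ℳ) hX i g
  obtain ⟨e⟩ := nonempty_HP_equiv_Hcomp E hspan' i g
  exact Module.Finite.equiv e

omit [Module.Finite R M] in
theorem isMaximal_deg0 {m : HomogeneousIdeal 𝒜} (hm : _root_.GrLC.IsStarLocal 𝒜 m) :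
    (m.toIdeal.comap (deg0 𝒜).subtype).IsMaximal := by
  rw [Ideal.isMaximal_iff]
  refine ⟨fun h => hm.1.1 (HomogeneousIdeal.toIdeal_injective ?_), fun K c hle hc hcK => ?_⟩
  · rw [HomogeneousIdeal.toIdeal_top, Ideal.eq_top_iff_one]
    exact h
  let P : HomogeneousIdeal 𝒜 := ⟨Ideal.span {(c : R)}, Ideal.homogeneous_span _ _
    fun x hx => by rw [Set.mem_singleton_iff.1 hx]; exact ⟨0, c.2⟩⟩
  have hlt : m < m ⊔ P := left_lt_sup.2 fun h => hc (h (Ideal.mem_span_singleton_self (c : R)))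
  have htop : (1 : R) ∈ (m ⊔ P).toIdeal := by rw [hm.1.2 _ hlt]; exact Submodule.mem_top
  rw [HomogeneousIdeal.toIdeal_sup, Submodule.mem_sup] at htop
  obtain ⟨u, hu, v, hv, e⟩ := htop
  obtain ⟨d, rfl⟩ := Ideal.mem_span_singleton'.1 hv
  have h1 := congrArg (cmp 𝒜 0) e
  rw [map_add, cmp_of_mem 𝒜 (SetLike.GradedOne.one_mem : (1 : R) ∈ 𝒜 0), mul_comm d (c : R), ← smul_eq_mul (a := (c : R)),
    cmp_smul_of_mem 𝒜 (show (c : R) ∈ 𝒜 0 from c.2), sub_zero, smul_eq_mul] at h1
  let u₀ : deg0 𝒜 := ⟨cmp 𝒜 0 u, cmp_mem 𝒜 0 u⟩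
  let d₀ : deg0 𝒜 := ⟨cmp 𝒜 0 d, cmp_mem 𝒜 0 d⟩
  rw [show (1 : deg0 𝒜) = u₀ + c * d₀ from Subtype.ext h1.symm]
  exact add_mem (hle (show (u₀ : R) ∈ m.toIdeal from m.isHomogeneous 0 hu)) (K.mul_mem_right _ hcK)

theorem isArtinian_Hcomp {m : HomogeneousIdeal 𝒜} (hm : _root_.GrLC.IsStarLocal 𝒜 m) (i : ℕ) (g : ℤ) :
    IsArtinian (deg0 𝒜) (E.Hcomp m i g) := by
  obtain ⟨l, hl, hspan, hgen⟩ := exists_pos_list hpos m (pos_mem_of_isStarLocal hpos hm)
  have := isMaximal_deg0 hpos hm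
  have hbase : ∀ X : GMod.{u} 𝒜, IsNoetherian R X.carrier → (∀ y ∈ l, ∀ v : X.carrier, y.val • v = 0) →
      ∀ g, IsArtinian (deg0 𝒜) (comp 𝒜 X.gr g) := by
    intro X hX hk g
    have hkill : ∀ r ∈ m.toIdeal, ∀ v : X.carrier, r • v = 0 := by
      intro r hr v
      rw [← hspan] at hr
      induction hr using Submodule.span_induction with
      | mem r hr => obtain ⟨y, hy, rfl⟩ := hr; exact hk y hy v
      | zero => rw [zero_smul]
      | add a b _ _ ha hb => rw [add_smul, ha, hb, add_zero]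
      | smul c a _ ha => rw [smul_eq_mul, mul_smul, ha, smul_zero]
    have := isNoetherian_comp (𝒜 := 𝒜) X.gr g
    obtain ⟨n, v, hv⟩ := Module.Finite.exists_fin (R := deg0 𝒜) (M := comp 𝒜 X.gr g)
    let m₀ := m.toIdeal.comap (deg0 𝒜).subtype
    let F := deg0 𝒜 ⧸ m₀
    letI : Field F := Ideal.Quotient.field m₀
    have hA : IsArtinian (deg0 𝒜) F := isArtinian_of_surjective_algebraMap (R := F) Ideal.Quotient.mk_surjective
    let σ : Fin n → (F →ₗ[deg0 𝒜] comp 𝒜 X.gr g) := fun a =>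
      Submodule.liftQ m₀ (LinearMap.toSpanSingleton (deg0 𝒜) _ (v a)) fun r hr =>
        Subtype.ext (hkill (r : R) hr (v a).1)
    refine isArtinian_of_surjective (Fin n → F) (∑ a, (σ a).comp (LinearMap.proj a)) ?_
    intro y
    obtain ⟨c, rfl⟩ := (Submodule.mem_span_range_iff_exists_fun (deg0 𝒜)).1 (hv ▸ Submodule.mem_top : y ∈ _)
    refine ⟨fun a => Ideal.Quotient.mk _ (c a), ?_⟩
    rw [LinearMap.coe_sum, Finset.sum_apply]
    rfl
  have hX : IsNoetherian R (gmod 𝒜 ℳ).carrier := isNoetherian_of_isNoetherianRing_of_finite R M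
  have h := good_devissage (𝒜 := 𝒜) (fun A _ _ => IsArtinian (deg0 𝒜) A)
    (fun f g h hA hC => isArtinian_of_range_eq_ker f g h) (fun h => inferInstance)
    hl hgen hbase (fun y _ _ => Or.inr fun A _ _ c ht hk => isArtinian_of_torsion_of_ker c ht hk)
    (gmod 𝒜 ℳ) hX i g
  obtain ⟨e⟩ := nonempty_HP_equiv_Hcomp E hspan i g
  exact isArtinian_of_linearEquiv e

end Apply

end GrothLib.GrLC
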