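import Groth.Agent.Lib.GrLC.VerCM
import Groth.Agent.Lib.GrLC.Pos
import Groth.Agent.Lib.GrLC.PolyTop
import Groth.Agent.Lib.GrSyz.Hilbert
import Groth.Agent.S18672
import Mathlib.RingTheory.RegularLocalRing.Polynomial
import Mathlib.RingTheory.KrullDimension.Polynomial

/-!
# Standard graded polynomial rings characterised by the a-invariant
-/

universe u

open DirectSum MvPolynomial

namespace GrothLib.GrLC.PolyChar

open _root_.GrLC (GMod StarInjRes IsStarLocal)
open GrothLib.GrLC (cmp cmp_mem cmp_of_mem cmp_of_mem_ne gr_induction cmp_smul_mem smul_mem' HElt hspan gmod VMap Van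
  cech varL mapElt)

noncomputable section

variable {k : Type u} [Field k] {R : Type u} [CommRing R] [Algebra k R] {𝒜 : ℤ → Submodule k R} [GradedAlgebra 𝒜]
  (hpos : ∀ n : ℤ, n < 0 → 𝒜 n = ⊥) (h0 : 𝒜 0 = Submodule.span k {(1 : R)})

include hpos h0 in
/-- The pieces of a Noetherian graded algebra over a field are finite dimensional. -/
theorem finite_piece [Algebra.FiniteType k R] (n : ℤ) : Module.Finite k (𝒜 n) := by
  haveI : Module.Finite R R := inferInstance
  have h := GrothLib.GrDual.finiteDimensional_piece (k := k) (M := R) (𝒜 := 𝒜) hpos h0 𝒜 n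
  exact h

variable {s : ℕ} (b : Fin s → R) (hb : ∀ i, b i ∈ 𝒜 1)

include hb in
/-- Evaluation at elements of degree one respects degrees. -/
theorem aeval_mem (g : ℤ) (p : MvPolynomial (Fin s) k) (hp : p ∈ GrSyz.stdGr k (Fin s) g) :
    aeval b p ∈ 𝒜 g := by
  rw [p.as_sum, map_sum]
  refine Submodule.sum_mem _ fun e he => ?_
  rw [aeval_monomial]
  have hw := (show p ∈ GrSyz.stdGr k (Fin s) g from hp) (mem_support_iff.1 he)
  rw [Finsupp.weight_apply, Finsupp.sum] at hw
  rw [← hw, ← Algebra.smul_def, Finsupp.prod]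
  exact Submodule.smul_mem _ _ (SetLike.prod_mem_graded 𝒜 (fun i => e i • (1 : ℤ)) (fun i => b i ^ e i) fun i _ =>
    SetLike.pow_mem_graded (e i) (hb i))

include hpos h0 hb in
/-- Degree-one generators generate. -/
theorem aeval_surjective
    (hstd : Ideal.span (⋃ n ∈ Set.Ioi (0 : ℤ), (𝒜 n : Set R)) = Ideal.span ((𝒜 1 : Submodule k R) : Set R))
    (hspan : ∀ x ∈ 𝒜 1, x ∈ Submodule.span k (Set.range b)) :
    Function.Surjective (aeval b : MvPolynomial (Fin s) k →ₐ[k] R) := by
  let A := (aeval b : MvPolynomial (Fin s) k →ₐ[k] R).range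
  have h1 : ∀ x ∈ 𝒜 1, x ∈ A := fun x hx =>
    (Submodule.span_le (p := Subalgebra.toSubmodule A)).2 (by
      rintro _ ⟨i, rfl⟩
      exact ⟨X i, aeval_X b i⟩) (hspan x hx)
  have key : ∀ (j : ℕ) (x : R), x ∈ 𝒜 (j : ℤ) → x ∈ A := by
    intro j
    induction j with
    | zero =>
      intro x hx
      obtain ⟨c, rfl⟩ := Submodule.mem_span_singleton.1 (h0.le hx)
      exact A.smul_mem (one_mem _) c
    | succ j ih =>
      intro x hx
      let 𝒜₀ : ℤ → AddSubgroup R := fun n => (𝒜 n).toAddSubgroup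
      have hx' : x ∈ Ideal.span ((𝒜 1 : Submodule k R) : Set R) :=
        hstd.le (Ideal.subset_span (Set.mem_iUnion₂.2 ⟨((j + 1 : ℕ) : ℤ), by
          simp only [Set.mem_Ioi]; omega, hx⟩))
      rw [← cmp_of_mem 𝒜 hx]
      clear hx
      suffices h : ∀ y ∈ Ideal.span ((𝒜 1 : Submodule k R) : Set R), ∀ c, cmp 𝒜 ((j + 1 : ℕ) : ℤ) (c * y) ∈ A by
        simpa using h x hx' 1
      intro y hy
      induction hy using Submodule.span_induction with
      | mem y hy =>
        intro c
        rw [← smul_eq_mul c y, cmp_smul_mem (𝒜 := 𝒜) 𝒜 c hy, smul_eq_mul,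
          show ((j + 1 : ℕ) : ℤ) - 1 = (j : ℤ) by push_cast; ring]
        exact mul_mem (ih _ (cmp_mem 𝒜 _ c)) (h1 y hy)
      | zero => intro c; rw [mul_zero, map_zero]; exact zero_mem _
      | add u v _ _ hu hv => intro c; rw [mul_add, map_add]; exact add_mem (hu c) (hv c)
      | smul e u _ hu => intro c; rw [smul_eq_mul, ← mul_assoc]; exact hu (c * e)
  intro x
  induction x using gr_induction 𝒜 with
  | h0 => exact ⟨0, map_zero _⟩
  | hadd u v hu hv =>
    obtain ⟨p, hp⟩ := hu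
    obtain ⟨p', hp'⟩ := hv
    exact ⟨p + p', by rw [map_add, hp, hp']⟩
  | hh n x hx =>
    rcases lt_or_ge n 0 with h | h
    · exact ⟨0, by rw [map_zero, GrothLib.Segre.pos' hpos n h x hx]⟩
    · obtain ⟨j, rfl⟩ := Int.eq_ofNat_of_zero_le h
      exact key j x hx

variable (𝒜) in
/-- `R` as a graded module over the polynomial ring. -/
theorem exists_comparison (hsurj : Function.Surjective (aeval b : MvPolynomial (Fin s) k →ₐ[k] R))
    (hb : ∀ i, b i ∈ 𝒜 1) :
    ∃ (X' : GMod.{u} (GrSyz.stdGr k (Fin s))) (π : (gmod (GrSyz.stdGr k (Fin s)) (GrSyz.stdGr k (Fin s))).carrier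
        →ₗ[MvPolynomial (Fin s) k] X'.carrier) (L : List (HElt 𝒜)),
      GrothLib.GrLC.IsHom π ∧ Function.Surjective π ∧ (∀ p, π p = 0 ↔ aeval b p = 0) ∧
      (hspan L).toIdeal = Ideal.span (⋃ n ∈ Set.Ioi (0 : ℤ), (𝒜 n : Set R)) ∧
      ∀ (i : ℕ) (g : ℤ), Van (varL k s) X' i g ↔ Van L (gmod 𝒜 𝒜) i g := by
  classical
  let ψ : MvPolynomial (Fin s) k →+* R := (aeval b : MvPolynomial (Fin s) k →ₐ[k] R).toRingHom
  letI : Module (MvPolynomial (Fin s) k) R := Module.compHom R ψ
  let ℳ : ℤ → AddSubgroup R := fun n => (𝒜 n).toAddSubgroup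
  have hint : DirectSum.IsInternal ℳ := GrothLib.GrLC.isInternal_of_proj ℳ (cmp 𝒜)
    (fun _ _ hx => cmp_of_mem 𝒜 hx) (fun _ _ hne _ hx => cmp_of_mem_ne 𝒜 hx hne) (cmp_mem 𝒜)
    (GrothLib.GrLC.exists_sum_cmp 𝒜)
  let X' : GMod.{u} (GrSyz.stdGr k (Fin s)) := GrothLib.GrLC.mkGMod R ℳ hint fun i g r hr x hx => by
    have := SetLike.mul_mem_graded (aeval_mem b hb i r hr) hx
    exact this
  let π : (gmod (GrSyz.stdGr k (Fin s)) (GrSyz.stdGr k (Fin s))).carrier →ₗ[MvPolynomial (Fin s) k] X'.carrier :=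
    { toFun := fun p => ψ p
      map_add' := fun p q => map_add ψ (p : MvPolynomial (Fin s) k) q
      map_smul' := fun p q => map_mul ψ p (q : MvPolynomial (Fin s) k) }
  have hφ : ∀ j : ℤ, ∀ r ∈ GrSyz.stdGr k (Fin s) j, ψ r ∈ 𝒜 (j * ((1 : ℕ) : ℤ)) := fun j r hr => by
    rw [Nat.cast_one, mul_one]
    exact aeval_mem b hb j r hr
  let v : VMap ψ 1 X' (gmod 𝒜 𝒜) :=
    { f := AddMonoidHom.id R
      smul := fun _ _ => rfl
      inj := fun _ _ h => h
      hom := fun j x hx => by rw [Nat.cast_one, mul_one]; exact hx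
      onto := fun j y hy => by
        rw [Nat.cast_one, mul_one] at hy
        exact ⟨y, hy, rfl⟩ }
  refine ⟨X', π, (varL k s).map (mapElt hφ), fun g p hp => aeval_mem b hb g p hp, hsurj, fun p => Iff.rfl, ?_,
    fun i g => ?_⟩
  · rw [GrothLib.GrLC.toIdeal_hspan]
    refine le_antisymm (Ideal.span_le.2 ?_) (Ideal.span_le.2 fun x hx => ?_)
    · rintro _ ⟨y, hy, rfl⟩
      obtain ⟨z, hz, rfl⟩ := List.mem_map.1 hy
      refine Ideal.subset_span (Set.mem_iUnion₂.2 ⟨1, (one_pos : (0 : ℤ) < 1), ?_⟩)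
      have := aeval_mem b hb _ _ z.mem
      rwa [GrothLib.GrLC.deg_varL k s z hz] at this
    · obtain ⟨n, hn, hx⟩ := Set.mem_iUnion₂.1 hx
      obtain ⟨p, rfl⟩ := hsurj x
      rw [← cmp_of_mem 𝒜 hx]
      have hp' : ∀ p : MvPolynomial (Fin s) k, aeval b p - algebraMap k R (constantCoeff p) ∈
          Ideal.span {r : R | ∃ y ∈ (varL k s).map (mapElt hφ), y.val = r} := fun p => by
        induction p using MvPolynomial.induction_on with
        | C a => simp
        | add u w hu hw =>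
          rw [map_add, map_add, map_add, add_sub_add_comm]
          exact add_mem hu hw
        | mul_X u i hu =>
          rw [map_mul, map_mul, constantCoeff_X, mul_zero, map_zero, sub_zero, aeval_X]
          refine Ideal.mul_mem_left _ _ (Ideal.subset_span
            ⟨_, List.mem_map_of_mem (GrothLib.GrLC.varE_mem k s i), aeval_X b i⟩)
      have hhom : (Ideal.span {r : R | ∃ y ∈ (varL k s).map (mapElt hφ), y.val = r}).IsHomogeneous 𝒜 :=
        Ideal.homogeneous_span _ _ fun r ⟨y, _, hy⟩ => ⟨y.deg, hy ▸ y.mem⟩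
      have h1 : cmp 𝒜 n (aeval b p - algebraMap k R (constantCoeff p)) ∈
          Ideal.span {r : R | ∃ y ∈ (varL k s).map (mapElt hφ), y.val = r} := hhom n (hp' p)
      rwa [map_sub, cmp_of_mem_ne 𝒜 (SetLike.algebraMap_mem_graded 𝒜 _) (ne_of_lt (show (0 : ℤ) < n from hn)),
        sub_zero] at h1
  · obtain ⟨w⟩ : Nonempty (VMap ψ 1 ((cech X' (varL k s)).H i) ((cech (gmod 𝒜 𝒜) ((varL k s).map (mapElt hφ))).H i)) :=
      ⟨(GrothLib.GrLC.vcech hφ v (varL k s)).hmap Nat.one_pos i⟩
    rw [Van, Van, GrothLib.GrLC.GCx.vanish_iff, GrothLib.GrLC.GCx.vanish_iff, AddSubgroup.eq_bot_iff_forall,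
      AddSubgroup.eq_bot_iff_forall]
    refine ⟨fun h y hy => ?_, fun h x hx => w.inj ((h _ ?_).trans (map_zero w.f).symm)⟩
    · obtain ⟨x, hx, rfl⟩ := w.onto g y (by rwa [Nat.cast_one, mul_one])
      rw [h x hx, map_zero]
    · have := w.hom g x hx
      rwa [Nat.cast_one, mul_one] at this

/-- A polynomial of degree at most one vanishing at independent elements is zero. -/
theorem eq_zero_of_low [Nontrivial R] {s : ℕ} {b : Fin s → R} (hli : LinearIndependent k b) {g : ℤ} (hg : g < 2)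
    {p : MvPolynomial (Fin s) k} (hp : p ∈ GrSyz.stdGr k (Fin s) g) (hzero : aeval b p = 0) : p = 0 := by
  classical
  rcases lt_trichotomy g 0 with h | rfl | h
  · exact GrothLib.GrSyz.eq_zero_of_mem_neg h hp
  · rw [GrothLib.GrSyz.mem_zero_eq_C hp] at hzero ⊢
    rw [aeval_C] at hzero
    rw [(map_eq_zero_iff _ (algebraMap k R).injective).1 hzero, map_zero]
  · obtain rfl : g = 1 := by omega
    have hsupp : ∀ e ∈ p.support, ∃ i, e = Finsupp.single i 1 := fun e he => by
      have hw := hp (mem_support_iff.1 he)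
      rw [GrothLib.GrSyz.weight_one, Nat.cast_eq_one] at hw
      exact (Finsupp.sum_eq_one_iff e).1 hw
    have hp' : p = ∑ i, coeff (Finsupp.single i 1) p • X i := by
      refine MvPolynomial.ext _ _ fun e => ?_
      simp only [coeff_sum, coeff_smul, coeff_X, smul_eq_mul]
      by_cases he : e ∈ p.support
      · obtain ⟨i, rfl⟩ := hsupp e he
        rw [Finset.sum_eq_single i]
        · simp
        · intro j _ hji
          rw [if_neg fun h => hji (Finsupp.single_left_injective one_ne_zero h), mul_zero]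
        · simp
      · rw [notMem_support_iff.1 he, Finset.sum_eq_zero]
        intro i _
        split_ifs with h
        · rw [h, notMem_support_iff.1 he, zero_mul]
        · rw [mul_zero]
    rw [hp', map_sum] at hzero
    simp only [map_smul, aeval_X] at hzero
    rw [hp']
    exact Finset.sum_eq_zero fun i _ => by rw [(Fintype.linearIndependent_iff.1 hli) _ hzero i, zero_smul]

section Main

variable {hpos h0}
  (hstd : Ideal.span (⋃ n ∈ Set.Ioi (0 : ℤ), (𝒜 n : Set R)) = Ideal.span ((𝒜 1 : Submodule k R) : Set R))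
  {m : HomogeneousIdeal 𝒜} (hm : m.toIdeal = Ideal.span (⋃ n ∈ Set.Ioi (0 : ℤ), (𝒜 n : Set R)))
  {r : ℕ} (hr : ringKrullDim R = r) (I : StarInjRes 𝒜 𝒜)

include hpos h0 hstd hm hr in
/-- Cohomology only in the top spot and only in degrees at most minus the dimension forces a polynomial ring. -/
theorem exists_algEquiv [Algebra.FiniteType k R]
    (hvan : ∀ i g, (i = r → -(r : ℤ) < g) → I.Hgr m i g = ⊥) :
    ∃ e : MvPolynomial (Fin r) k ≃ₐ[k] R, ∀ i, e (X i) ∈ 𝒜 1 := by
  classical
  have : IsNoetherianRing R := Algebra.FiniteType.isNoetherianRing k R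
  haveI := finite_piece hpos h0 (1 : ℤ)
  obtain ⟨s, ⟨B⟩⟩ : ∃ s : ℕ, Nonempty (Module.Basis (Fin s) k (𝒜 1)) :=
    ⟨_, ⟨Module.finBasis k (𝒜 1)⟩⟩
  let b : Fin s → R := fun i => (B i : R)
  have hb : ∀ i, b i ∈ 𝒜 1 := fun i => (B i).2
  have hspan : ∀ x ∈ 𝒜 1, x ∈ Submodule.span k (Set.range b) := fun x hx => by
    have h := congrArg (fun y : 𝒜 1 => (y : R)) (B.sum_repr ⟨x, hx⟩)
    simp only [Submodule.coe_sum, Submodule.coe_smul] at h
    rw [← h]
    exact Submodule.sum_mem _ fun i _ => Submodule.smul_mem _ _ (Submodule.subset_span ⟨i, rfl⟩)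
  have hsurj := aeval_surjective hpos h0 b hb hstd hspan
  obtain ⟨X', π, L, hπ, hπsurj, hπ0, hL, hVan⟩ := exists_comparison 𝒜 b hsurj hb
  let K : Submodule (MvPolynomial (Fin s) k) (gmod (GrSyz.stdGr k (Fin s)) (GrSyz.stdGr k (Fin s))).carrier :=
    LinearMap.ker π
  let J := GrothLib.GrLC.sub (gmod (GrSyz.stdGr k (Fin s)) (GrSyz.stdGr k (Fin s))) K (GrothLib.GrLC.isHomogeneous_ker hπ)
  have S := GrothLib.GrLC.cechMap_ses (X := J) (f := K.subtype) (GrothLib.GrLC.isHom_subtype _ K _) (g := π) hπ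
    (Submodule.subtype_injective _) hπsurj
    (fun x => ⟨fun h => ⟨(⟨x, LinearMap.mem_ker.2 h⟩ : K), rfl⟩, by rintro ⟨z, rfl⟩; exact LinearMap.mem_ker.1 z.2⟩)
    (varL k s)
  haveI : Module.Finite (MvPolynomial (Fin s) k) (gmod (GrSyz.stdGr k (Fin s)) (GrSyz.stdGr k (Fin s))).carrier :=
    inferInstanceAs (Module.Finite (MvPolynomial (Fin s) k) (MvPolynomial (Fin s) k))
  haveI : Module.Finite (MvPolynomial (Fin s) k) J.carrier :=
    Module.Finite.iff_fg.2 (IsNoetherian.noetherian K)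
  have hgen := GrothLib.GrLC.mem_span_low (fun n hn a ha => GrothLib.GrSyz.eq_zero_of_mem_neg hn ha)
    (GrothLib.GrLC.deg_varL k s) J (fun g => g < 2) fun g hg i j hj => by
      have hS : Van (varL k s) (gmod (GrSyz.stdGr k (Fin s)) (GrSyz.stdGr k (Fin s))) i j :=
        GrothLib.GrLC.van_S k s fun h => by omega
      rcases i with _ | i
      · exact S.vanish_left_zero hS
      · exact S.vanish_left ((hVan i j).2 ((GrothLib.GrLC.Hgr_eq_bot_iff_van I (hL.trans hm.symm) i j).1
          (hvan i j fun h => by omega))) hS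
  haveI : Nontrivial R := not_subsingleton_iff_nontrivial.1 fun h' => by
    rw [ringKrullDim_eq_bot_of_subsingleton] at hr; exact WithBot.bot_ne_coe hr
  have hlow : ∀ g, g < 2 → ∀ z ∈ J.gr g, z = 0 := fun g hg z hz =>
    Subtype.ext (eq_zero_of_low (B.linearIndependent.map' (𝒜 1).subtype (Submodule.ker_subtype _)) hg hz
      ((hπ0 _).1 z.2))
  have hbot : ∀ z : J.carrier, z = 0 := fun z => by
    have hz : z ∈ (⊤ : Submodule (MvPolynomial (Fin s) k) J.carrier) := Submodule.mem_top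
    rw [← hgen] at hz
    refine (Submodule.span_eq_bot.2 fun w hw => ?_).le hz
    obtain ⟨g, hg, hw⟩ := Set.mem_iUnion₂.1 hw
    exact hlow g hg w hw
  have hinj : Function.Injective (aeval b : MvPolynomial (Fin s) k →ₐ[k] R) :=
    (injective_iff_map_eq_zero _).2 fun p hp =>
      congrArg Subtype.val (hbot (⟨p, LinearMap.mem_ker.2 ((hπ0 p).2 hp)⟩ : K))
  let e := AlgEquiv.ofBijective (aeval b : MvPolynomial (Fin s) k →ₐ[k] R) ⟨hinj, hsurj⟩
  have hsr : s = r := by
    have h := ringKrullDim_eq_of_ringEquiv e.toRingEquiv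
    rw [MvPolynomial.ringKrullDim_of_isNoetherianRing, ringKrullDim_eq_zero_of_field, hr, zero_add, Nat.card_fin] at h
    exact_mod_cast h
  subst hsr
  exact ⟨e, fun i => by rw [AlgEquiv.ofBijective_apply, aeval_X]; exact hb i⟩

include hpos h0 hstd hm hr in
/-- A standard graded polynomial ring has cohomology in degrees at most minus the dimension. -/
theorem endDeg_eq_of_isRegularRing [Algebra.FiniteType k R] [IsRegularRing R] :
    GrLC.endDeg (I.Hgr m r) = (((-(r : ℤ) : ℤ) : WithTop ℤ) : WithBot (WithTop ℤ)) := by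
  classical
  have : IsNoetherianRing R := Algebra.FiniteType.isNoetherianRing k R
  haveI : Nontrivial R := not_subsingleton_iff_nontrivial.1 fun h => by
    rw [ringKrullDim_eq_bot_of_subsingleton] at hr; exact WithBot.bot_ne_coe hr
  haveI hmax : m.toIdeal.IsMaximal := GrothLib.Segre.isMaximal hpos h0 hm
  let A := Localization.AtPrime m.toIdeal
  have hA : (IsLocalRing.maximalIdeal A).spanFinrank = r := by
    have h := (IsRegularRing.isRegularLocalRing_localization (R := R) m.toIdeal).spanFinrank_maximalIdeal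
    rw [GrothLib.GrLC.ringKrullDim_localization (GrothLib.Segre.pos' hpos)
      (GrothLib.Segre.isStarLocal_irrel hpos h0 hm) hr] at h
    exact_mod_cast h
  have hfg : (IsLocalRing.maximalIdeal A).FG := IsNoetherian.noetherian _
  obtain ⟨T, hTcard, hT⟩ : ∃ T : Set A, T.ncard = r ∧ T.Finite ∧ Ideal.span T = IsLocalRing.maximalIdeal A := by
    refine ⟨Submodule.generators (IsLocalRing.maximalIdeal A), ?_, Submodule.FG.finite_generators hfg,
      Submodule.span_generators _⟩
    rw [Submodule.FG.generators_ncard hfg, hA]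
  obtain ⟨hTfin, hT⟩ := hT
  choose u hu using fun t : A => IsLocalization.mk'_surjective m.toIdeal.primeCompl t
  have humem : ∀ t ∈ T, (u t).1 ∈ m.toIdeal := fun t ht => by
    have h : t ∈ IsLocalRing.maximalIdeal A := hT ▸ Ideal.subset_span ht
    rw [← hu t] at h
    exact (IsLocalization.AtPrime.mk'_mem_maximal_iff A m.toIdeal _ _).1 h
  let w : T → R := fun t => cmp 𝒜 1 (u t.1).1
  haveI := hTfin.fintype
  have hcmp0 : ∀ a ∈ m.toIdeal, cmp 𝒜 0 a = 0 := fun a ha =>
    GrothLib.Segre.coe_decompose_zero_of_mem_irrel 𝒜 hpos (hm.le ha)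
  have hspan1 : ∀ x ∈ 𝒜 1, x ∈ Submodule.span k (Set.range w) := by
    intro x hx
    have hxm : algebraMap R A x ∈ IsLocalRing.maximalIdeal A :=
      (IsLocalization.AtPrime.to_map_mem_maximal_iff A m.toIdeal x).2
        (hm.ge (Ideal.subset_span (Set.mem_iUnion₂.2 ⟨1, (one_pos : (0 : ℤ) < 1), hx⟩)))
    have hle : IsLocalRing.maximalIdeal A ≤ (Ideal.span (Set.range fun t : T => (u t.1).1)).map (algebraMap R A) := by
      rw [← hT, Ideal.span_le]
      intro t ht
      rw [SetLike.mem_coe, ← hu t]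
      dsimp only
      rw [IsLocalization.mk'_eq_mul_mk'_one]
      exact Ideal.mul_mem_right _ _ (Ideal.mem_map_of_mem _ (Ideal.subset_span ⟨⟨t, ht⟩, rfl⟩))
    obtain ⟨⟨a, sx⟩, hax⟩ := (IsLocalization.mem_map_algebraMap_iff m.toIdeal.primeCompl A).1 (hle hxm)
    rw [← map_mul] at hax
    obtain ⟨sy, hsy⟩ := (IsLocalization.eq_iff_exists m.toIdeal.primeCompl A).1 hax
    have hmem : (sy : R) * (x * sx) ∈ Ideal.span (Set.range fun t : T => (u t.1).1) := hsy ▸ Ideal.mul_mem_left _ _ a.2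
    have hcl : ∀ z ∈ Ideal.span (Set.range fun t : T => (u t.1).1), cmp 𝒜 1 z ∈ Submodule.span k (Set.range w) := by
      intro z hz
      obtain ⟨c, rfl⟩ := (Submodule.mem_span_range_iff_exists_fun R).1 hz
      rw [map_sum]
      refine Submodule.sum_mem _ fun t _ => ?_
      generalize c t = d
      have hu0 : cmp 𝒜 0 (u t.1).1 = 0 := hcmp0 _ (humem _ t.2)
      induction d using gr_induction 𝒜 with
      | h0 => simp
      | hadd d d' hd hd' => rw [add_smul, map_add]; exact Submodule.add_mem _ hd hd'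
      | hh j d hd =>
        rw [GrothLib.GrLC.cmp_smul_of_mem (𝒜 := 𝒜) 𝒜 hd]
        rcases lt_trichotomy j 0 with hj | rfl | hj
        · rw [GrothLib.Segre.pos' hpos j hj d hd, zero_smul]; exact zero_mem _
        · obtain ⟨e, rfl⟩ := Submodule.mem_span_singleton.1 (h0.le hd)
          rw [sub_zero, smul_eq_mul, smul_one_mul]
          exact Submodule.smul_mem _ _ (Submodule.subset_span ⟨t, rfl⟩)
        · rcases eq_or_lt_of_le (show (1 : ℤ) ≤ j from hj) with rfl | hj'
          · rw [sub_self, hu0, smul_zero]; exact zero_mem _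
          · rw [GrothLib.Segre.pos' hpos _ (by omega) _ (cmp_mem 𝒜 (1 - j) _), smul_zero]; exact zero_mem _
    have hunit : IsUnit (cmp 𝒜 0 ((sy : R) * sx)) :=
      GrothLib.GrLC.isUnit_cmp_zero (GrothLib.Segre.pos' hpos) (GrothLib.Segre.isField_deg0 h0)
        (GrothLib.Segre.irr' hm) (m.toIdeal.primeCompl.mul_mem sy.2 sx.2)
    have h1 := hcl _ hmem
    rw [show (sy : R) * (x * sx) = ((sy : R) * sx) • x by rw [smul_eq_mul]; ring,
      cmp_smul_mem (𝒜 := 𝒜) 𝒜 _ hx, sub_self] at h1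
    obtain ⟨e, he⟩ := Submodule.mem_span_singleton.1 (h0.le (cmp_mem 𝒜 0 ((sy : R) * sx)))
    rw [← he] at h1 hunit
    rw [smul_eq_mul, smul_one_mul] at h1
    have he0 : e ≠ 0 := fun h => by
      rw [h, zero_smul] at hunit
      exact not_isUnit_zero hunit
    simpa [smul_smul, he0] using Submodule.smul_mem _ e⁻¹ h1
  let σ : Fin r ≃ T := (Fintype.equivFinOfCardEq (by rw [← Nat.card_eq_fintype_card, Nat.card_coe_set_eq, hTcard])).symm
  let b : Fin r → R := w ∘ σ
  have hb : ∀ i, b i ∈ 𝒜 1 := fun i => cmp_mem 𝒜 1 _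
  have hsurj := aeval_surjective hpos h0 b hb hstd fun x hx => by
    rw [show Set.range b = Set.range w from σ.surjective.range_comp w]
    exact hspan1 x hx
  have hinj : Function.Injective (aeval b : MvPolynomial (Fin r) k →ₐ[k] R) := by
    refine (injective_iff_map_eq_zero _).2 fun p hp => by_contra fun hne => ?_
    have h := (ringKrullDim_quotient_succ_le_of_nonZeroDivisor (mem_nonZeroDivisors_of_ne_zero hne))
    have h2 : ringKrullDim R ≤ ringKrullDim (MvPolynomial (Fin r) k ⧸ Ideal.span {p}) :=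
      ringKrullDim_le_of_surjective (Ideal.Quotient.lift _ (aeval b : MvPolynomial (Fin r) k →ₐ[k] R).toRingHom
        (fun q hq => by
          obtain ⟨c, rfl⟩ := Ideal.mem_span_singleton'.1 hq
          rw [AlgHom.toRingHom_eq_coe, RingHom.coe_coe, map_mul, hp, mul_zero])) fun x => by
            obtain ⟨q, hq⟩ := hsurj x
            exact ⟨Ideal.Quotient.mk _ q, hq⟩
    rw [MvPolynomial.ringKrullDim_of_isNoetherianRing, ringKrullDim_eq_zero_of_field, zero_add, Nat.card_fin] at h
    rw [hr] at h2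
    have h3 := (add_le_add_left h2 1).trans h
    norm_cast at h3
    omega
  obtain ⟨X', π, L, hπ, hπsurj, hπ0, hL, hVan⟩ := exists_comparison 𝒜 b hsurj hb
  have hπinj : Function.Injective π := (injective_iff_map_eq_zero π).2 fun p hp => hinj (((hπ0 p).1 hp).trans (map_zero _).symm)
  have hiff : ∀ g, I.Hgr m r g = ⊥ ↔ Van (varL k r) (gmod (GrSyz.stdGr k (Fin r)) (GrSyz.stdGr k (Fin r))) r g :=
    fun g => ((GrothLib.GrLC.Hgr_eq_bot_iff_van I (hL.trans hm.symm) r g).trans (hVan r g).symm).trans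
      (GrothLib.GrLC.van_congr_hom π hπ ⟨hπinj, hπsurj⟩ r g).symm
  exact le_antisymm ((GrothLib.GrLC.endDeg_le_iff _ _).2 fun g hg => (hiff g).2 (GrothLib.GrLC.van_S k r fun _ => hg))
    (GrothLib.GrLC.le_endDeg _ fun h => GrothLib.GrLC.not_van_S k r ((hiff _).1 h))

end Main

end

end GrothLib.GrLC.PolyChar
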