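import Groth.Agent.Lib.GrLC.PolyTop
import Mathlib.RingTheory.MvPolynomial.WeightedHomogeneous

/-!
# The top cohomology of a weighted polynomial ring
-/

universe u

attribute [local instance] MvPolynomial.weightedGradedAlgebra

open DirectSum MvPolynomial

namespace GrothLib.GrLC.Weighted

open GrothLib.GrLC
open _root_.GrLC (GMod IsGrHom StarInjRes)

noncomputable section

variable (k : Type u) [CommRing k] (n : ℕ) (w : Fin n → ℤ)

local notation "S" => MvPolynomial (Fin n) k
local notation "𝒮" => MvPolynomial.weightedHomogeneousSubmodule k w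

/-- a variable as a homogeneous element -/
noncomputable def varE (i : Fin n) : HElt 𝒮 := ⟨X i, w i, isWeightedHomogeneous_X k _ i⟩

/-- the variables -/
noncomputable def varL : List (HElt 𝒮) := List.ofFn (varE k n w)

theorem varE_mem (i : Fin n) : varE k n w i ∈ varL k n w := List.mem_ofFn.2 ⟨i, rfl⟩

theorem length_varL : (varL k n w).length = n := List.length_ofFn

theorem hspan_varL (hw : ∀ i, 0 < w i) :
    (hspan (varL k n w)).toIdeal = Ideal.span (⋃ g ∈ Set.Ioi (0 : ℤ), (𝒮 g : Set S)) := by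
  rw [toIdeal_hspan]
  refine le_antisymm (Ideal.span_le.2 ?_) (Ideal.span_le.2 fun p hp => ?_)
  · rintro r ⟨y, hy, rfl⟩
    obtain ⟨i, rfl⟩ := List.mem_ofFn.1 hy
    exact Ideal.subset_span (Set.mem_iUnion₂.2 ⟨w i, hw i, isWeightedHomogeneous_X k _ i⟩)
  · obtain ⟨g, hg, hp⟩ := Set.mem_iUnion₂.1 hp
    have h : p ∈ Ideal.span (X '' (Set.univ : Set (Fin n)) : Set S) := by
      rw [mem_ideal_span_X_image]
      intro m hm
      by_contra h
      push_neg at h
      have hm0 : m = 0 := Finsupp.ext fun i => h i trivial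
      have h0 := (show p ∈ 𝒮 g from hp) (mem_support_iff.1 hm)
      rw [hm0, map_zero] at h0
      exact (ne_of_gt (show 0 < g from hg)) h0.symm
    refine Ideal.span_mono ?_ h
    rintro _ ⟨i, -, rfl⟩
    exact ⟨varE k n w i, varE_mem k n w i, rfl⟩

/-- the weight of the variables from `j` on -/
def tailWt (j : ℕ) : ℤ := ∑ i ∈ Finset.univ.filter (fun i : Fin n => j ≤ i.1), w i

theorem tailWt_self : tailWt n w n = 0 :=
  Finset.sum_eq_zero fun i hi => absurd (Finset.mem_filter.1 hi).2 (not_le.2 i.2)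

theorem tailWt_succ {j : ℕ} (hj : j < n) : tailWt n w j = w ⟨j, hj⟩ + tailWt n w (j + 1) := by
  unfold tailWt
  rw [show Finset.univ.filter (fun i : Fin n => j ≤ i.1) =
      insert ⟨j, hj⟩ (Finset.univ.filter fun i : Fin n => j + 1 ≤ i.1) from Finset.ext fun i => by
        simp only [Finset.mem_filter, Finset.mem_univ, true_and, Finset.mem_insert, Fin.ext_iff]; omega,
    Finset.sum_insert (show (⟨j, hj⟩ : Fin n) ∉ _ from fun h => Nat.not_succ_le_self j (Finset.mem_filter.1 h).2)]

theorem tailWt_zero : tailWt n w 0 = (Finset.univ : Finset (Fin n)).sum w :=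
  Finset.sum_congr (Finset.filter_true_of_mem fun i _ => Nat.zero_le _) fun _ _ => rfl

/-- the ideal of the first `j` variables -/
noncomputable def vI (j : ℕ) : HomogeneousIdeal 𝒮 :=
  ⟨Ideal.span (X '' {i : Fin n | i.1 < j}), Ideal.homogeneous_span _ _
    fun _ hr => by obtain ⟨i, -, rfl⟩ := hr; exact ⟨w i, isWeightedHomogeneous_X k _ i⟩⟩

theorem mem_vI {j : ℕ} {p : S} : p ∈ (vI k n w j).toIdeal ↔ ∀ m ∈ p.support, ∃ i : Fin n, i.1 < j ∧ m i ≠ 0 :=
  mem_ideal_span_X_image

theorem vI_succ {j : ℕ} (hj : j < n) :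
    (vI k n w (j + 1)).toIdeal = (vI k n w j).toIdeal ⊔ Ideal.span {X ⟨j, hj⟩} := by
  change Ideal.span _ = Ideal.span _ ⊔ _
  rw [← Ideal.span_union]
  congr 1
  ext p
  simp only [Set.mem_image, Set.mem_setOf_eq, Set.mem_union, Set.mem_singleton_iff]
  constructor
  · rintro ⟨i, hi, rfl⟩
    rcases Nat.lt_or_eq_of_le (Nat.lt_succ_iff.1 hi) with h | h
    · exact Or.inl ⟨i, h, rfl⟩
    · exact Or.inr (by rw [show i = ⟨j, hj⟩ from Fin.ext h])
  · rintro (⟨i, hi, rfl⟩ | rfl)
    · exact ⟨i, by omega, rfl⟩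
    · exact ⟨⟨j, hj⟩, Nat.lt_succ_self j, rfl⟩

theorem X_mul_mem_vI {j : ℕ} (hj : j < n) {p : S} (h : X ⟨j, hj⟩ * p ∈ (vI k n w j).toIdeal) :
    p ∈ (vI k n w j).toIdeal := by
  rw [mem_vI] at h ⊢
  intro m hm
  obtain ⟨i, hi, hne⟩ := h (Finsupp.single ⟨j, hj⟩ 1 + m) (by
    rw [support_X_mul, Finset.mem_map]; exact ⟨m, hm, rfl⟩)
  refine ⟨i, hi, ?_⟩
  have : i ≠ ⟨j, hj⟩ := fun e => by rw [e] at hi; exact lt_irrefl _ hi
  simpa [Finsupp.single_apply, this.symm] using hne

theorem one_not_mem_vI [Nontrivial k] (j : ℕ) : (1 : S) ∉ (vI k n w j).toIdeal := fun h => by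
  obtain ⟨i, -, hi⟩ := (mem_vI k n w).1 h 0 (by rw [mem_support_iff, coeff_zero_one]; exact one_ne_zero)
  exact hi rfl

/-- `S/(X_i : i < j)` -/
noncomputable abbrev QV (j : ℕ) : GMod.{u} 𝒮 :=
  quot (gmod 𝒮 𝒮) ((vI k n w j).toIdeal : Submodule S S) (fun g r hr => by
    have e := cmp_eq_proj (gmod 𝒮 𝒮) (g := g) (cmp (M := S) 𝒮 g) (fun y hy => cmp_of_mem 𝒮 hy)
      (fun h hne y hy => cmp_of_mem_ne 𝒮 hy hne) r
    exact (congrArg (· ∈ ((vI k n w j).toIdeal : Submodule S S)) e).mpr ((vI k n w j).isHomogeneous g hr))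

/-- the vanishing pattern of `S/(X_i : i < j)`, with `m = n - j` -/
theorem van_QV [IsNoetherianRing (MvPolynomial (Fin n) k)] [Nontrivial k] (hw : ∀ i, 0 < w i) : ∀ m j : ℕ, j + m = n →
    (∀ i g, i < m → Van (varL k n w) (QV k n w j) i g) ∧
      (∀ g : ℤ, -tailWt n w j < g → Van (varL k n w) (QV k n w j) m g) ∧ ¬ Van (varL k n w) (QV k n w j) m (-tailWt n w j)
  | 0, j, hj => by
    have hjn : j = n := by omega
    subst hjn
    have ht : ∀ y ∈ varL k j w, ∀ q : (QV k j w j).carrier, ∃ e : ℕ, y.val ^ e • q = 0 := fun y hy q => by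
      obtain ⟨p, rfl⟩ := Submodule.mkQ_surjective _ q
      refine ⟨1, ?_⟩
      rw [pow_one]
      obtain ⟨i, rfl⟩ := List.mem_ofFn.1 hy
      refine (map_smul (Submodule.mkQ ((vI k j w j).toIdeal : Submodule (MvPolynomial (Fin j) k) (MvPolynomial (Fin j) k)))
        (varE k j w i).val p).symm.trans ((Submodule.Quotient.mk_eq_zero _).2 ?_)
      exact Ideal.mul_mem_right _ _ (Ideal.subset_span ⟨i, i.2, rfl⟩)
    refine ⟨fun i g hi => absurd hi (Nat.not_lt_zero i), fun g hg => van_zero_of_gr_eq_bot ?_, fun h => ?_⟩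
    · refine (AddSubgroup.eq_bot_iff_forall _).2 ?_
      rintro _ ⟨p, hp, rfl⟩
      refine (Submodule.Quotient.mk_eq_zero _).2 ((mem_vI k j w).2 fun d hd => ?_)
      have hd' : coeff d p ≠ 0 := mem_support_iff.1 hd
      have hw := (show p ∈ MvPolynomial.weightedHomogeneousSubmodule k w g from hp) hd'
      by_contra hc
      push_neg at hc
      rw [Finsupp.ext (f := d) (g := 0) fun i => hc i i.2, map_zero] at hw
      rw [tailWt_self, neg_zero] at hg
      omega
    · rw [tailWt_self, neg_zero, van_zero_iff_of_torsion ht, AddSubgroup.eq_bot_iff_forall] at h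
      refine one_not_mem_vI k j w j ((Submodule.Quotient.mk_eq_zero _).1 (h _ ⟨(1 : MvPolynomial (Fin j) k), ?_, rfl⟩))
      exact (SetLike.GradedOne.one_mem : (1 : MvPolynomial (Fin j) k) ∈ MvPolynomial.weightedHomogeneousSubmodule k w 0)
  | m + 1, j, hj => by
    have hjn : j < n := by omega
    obtain ⟨ha, hb, hc⟩ := van_QV hw m (j + 1) (by omega)
    let x := varE k n w ⟨j, hjn⟩
    have hx : x ∈ varL k n w := varE_mem k n w _
    have hle : ((vI k n w j).toIdeal : Submodule S S) ≤ (vI k n w (j + 1)).toIdeal := by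
      rw [vI_succ k n w hjn]; exact le_sup_left
    let p : (QV k n w j).carrier →ₗ[S] (QV k n w (j + 1)).carrier := Submodule.factor hle
    have hp : IsHom p := by
      rintro g _ ⟨q, hq, rfl⟩
      exact ⟨q, hq, rfl⟩
    have hinj : Function.Injective (mulShift (QV k n w j) x) := by
      rw [← LinearMap.ker_eq_bot, Submodule.eq_bot_iff]
      intro q hq
      change (QV k n w j).carrier at q
      obtain ⟨p, rfl⟩ := Submodule.mkQ_surjective _ q
      exact (Submodule.Quotient.mk_eq_zero _).2 (X_mul_mem_vI k n w hjn ((Submodule.Quotient.mk_eq_zero _).1 hq))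
    have hsurj : Function.Surjective p := Submodule.factor_surjective hle
    have hexact : Function.Exact (mulShift (QV k n w j) x) p := by
      intro q
      obtain ⟨r, rfl⟩ := Submodule.mkQ_surjective _ q
      change MvPolynomial (Fin n) k at r
      constructor
      · intro hr
        have hr' : r ∈ (vI k n w (j + 1)).toIdeal := (Submodule.Quotient.mk_eq_zero _).1 hr
        rw [vI_succ k n w hjn, Submodule.mem_sup] at hr'
        obtain ⟨a, ha, b, hb, rfl⟩ := hr'
        obtain ⟨c, rfl⟩ := Ideal.mem_span_singleton'.1 hb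
        refine ⟨Submodule.Quotient.mk c, ?_⟩
        change Submodule.Quotient.mk (x.val * c) = Submodule.Quotient.mk (a + c * X ⟨j, hjn⟩)
        rw [Submodule.Quotient.eq]
        rw [show x.val * c - (a + c * X ⟨j, hjn⟩) = -a by change X _ * c - _ = _; ring]
        exact neg_mem ha
      · rintro ⟨c, hc⟩
        obtain ⟨c, rfl⟩ := Submodule.mkQ_surjective _ c
        change MvPolynomial (Fin n) k at c
        rw [← hc]
        refine (Submodule.Quotient.mk_eq_zero _).2 ?_
        change X ⟨j, hjn⟩ * c ∈ (vI k n w (j + 1)).toIdeal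
        exact Ideal.mul_mem_right _ _ (Ideal.subset_span ⟨⟨j, hjn⟩, Nat.lt_succ_self j, rfl⟩)
    have hA : ∀ i g, i < m + 1 → Van (varL k n w) (QV k n w j) i g := fun i g hi => by
      rcases i with _ | i
      · exact van_zero_of_regular (X := QV k n w j) hx hinj g
      · exact van_of_regular_step hx p hp hinj hsurj hexact fun e => ha i _ (by omega)
    refine ⟨hA, fun g hg => van_of_regular_step hx p hp hinj hsurj hexact fun e => hb _ ?_, fun h => hc ?_⟩
    · change -tailWt n w (j + 1) < g + (e + 1) • w ⟨j, hjn⟩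
      rw [tailWt_succ n w hjn] at hg
      rw [nsmul_eq_mul]
      push_cast
      nlinarith [hw ⟨j, hjn⟩, Int.natCast_nonneg e]
    · have hS := cechMap_ses (isHom_mulShift (QV k n w j) x) hp hinj hsurj hexact (varL k n w)
      refine hS.vanish_right (hA m _ (Nat.lt_succ_self m)) ((van_shift (X := QV k n w j) _ _ _).2 ?_)
      change Van (varL k n w) (QV k n w j) (m + 1) (-tailWt n w (j + 1) + -w ⟨j, hjn⟩)
      rw [show -tailWt n w (j + 1) + -w ⟨j, hjn⟩ = -tailWt n w j by rw [tailWt_succ n w hjn]; ring]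
      exact h

variable [IsNoetherianRing (MvPolynomial (Fin n) k)]

theorem vI_zero : (vI k n w 0).toIdeal = ⊥ := by
  change Ideal.span _ = ⊥
  rw [Ideal.span_eq_bot]
  rintro _ ⟨i, hi, rfl⟩
  exact absurd hi (Nat.not_lt_zero _)

theorem van_S [Nontrivial k] (hw : ∀ i, 0 < w i) {i : ℕ} {g : ℤ} (h : i = n → -(Finset.univ : Finset (Fin n)).sum w < g) :
    Van (varL k n w) (gmod 𝒮 𝒮) i g := by
  obtain ⟨ha, hb, -⟩ := van_QV k n w hw n 0 (by omega)
  rw [tailWt_zero] at hb
  refine (van_congr_hom (X := gmod 𝒮 𝒮) (Y := QV k n w 0) (Submodule.mkQ _) (fun d p hp => ⟨p, hp, rfl⟩)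
    ⟨fun a b hab => ?_, Submodule.mkQ_surjective _⟩ i g).2 ?_
  · have := (Submodule.Quotient.eq _).1 hab
    rw [vI_zero k n w] at this
    replace this := sub_eq_zero.1 (show a - b = 0 from this)
    exact this
  · rcases lt_trichotomy i n with hi | rfl | hi
    · exact ha i g hi
    · exact hb g (h rfl)
    · exact van_of_length (by rw [length_varL]; exact hi)

theorem not_van_S [Nontrivial k] (hw : ∀ i, 0 < w i) : ¬ Van (varL k n w) (gmod 𝒮 𝒮) n (-(Finset.univ : Finset (Fin n)).sum w) := fun h => by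
  obtain ⟨-, -, hc⟩ := van_QV k n w hw n 0 (by omega)
  rw [tailWt_zero] at hc
  refine hc ((van_congr_hom (X := gmod 𝒮 𝒮) (Y := QV k n w 0) (Submodule.mkQ _) (fun d p hp => ⟨p, hp, rfl⟩)
    ⟨fun a b hab => ?_, Submodule.mkQ_surjective _⟩ n _).1 h)
  have := (Submodule.Quotient.eq _).1 hab
  rw [vI_zero k n w] at this
  replace this := sub_eq_zero.1 (show a - b = 0 from this)
  exact this

end

end GrothLib.GrLC.Weighted
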