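import Mathlib.RingTheory.GradedAlgebra.Homogeneous.Ideal
import Mathlib.RingTheory.GradedAlgebra.Basic
import Mathlib.RingTheory.Ideal.Quotient.Operations

/-!
# The quotient of a graded algebra by a homogeneous ideal (any grading monoid)
-/

open DirectSum

namespace GrothLib.GrLC.QuotGr

variable {ι R A : Type*} [DecidableEq ι] [AddCommMonoid ι] [CommRing R] [CommRing A] [Algebra R A] {𝒜 : ι → Submodule R A}
  [GradedAlgebra 𝒜]

/-- The grading on the quotient by a homogeneous ideal. -/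
def qgr (I : HomogeneousIdeal 𝒜) : ι → Submodule R (A ⧸ I.toIdeal) :=
  fun n => (𝒜 n).map (Ideal.Quotient.mkₐ R I.toIdeal).toLinearMap

theorem mem_qgr_iff (I : HomogeneousIdeal 𝒜) (n : ι) (y : A ⧸ I.toIdeal) :
    y ∈ qgr I n ↔ ∃ a ∈ 𝒜 n, Ideal.Quotient.mk I.toIdeal a = y :=
  Submodule.mem_map

instance (I : HomogeneousIdeal 𝒜) : SetLike.GradedMonoid (qgr I) where
  one_mem := (mem_qgr_iff I _ _).mpr ⟨1, SetLike.one_mem_graded 𝒜, map_one _⟩
  mul_mem := by
    intro i j x y hx hy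
    obtain ⟨a, ha, rfl⟩ := (mem_qgr_iff I _ _).mp hx
    obtain ⟨b, hb, rfl⟩ := (mem_qgr_iff I _ _).mp hy
    exact (mem_qgr_iff I _ _).mpr ⟨a * b, SetLike.mul_mem_graded ha hb, map_mul _ _ _⟩

theorem isInternal_qgr (I : HomogeneousIdeal 𝒜) : DirectSum.IsInternal (qgr I) := by
  classical
  let q : ∀ n, 𝒜 n →ₗ[R] qgr I n := fun n =>
    ((Ideal.Quotient.mkₐ R I.toIdeal).toLinearMap.comp (𝒜 n).subtype).codRestrict (qgr I n)
      fun a => Submodule.mem_map_of_mem a.2
  have hq : ∀ n, Function.Surjective (q n) := by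
    rintro n ⟨y, hy⟩
    obtain ⟨a, ha, rfl⟩ := (mem_qgr_iff I _ _).mp hy
    exact ⟨⟨a, ha⟩, rfl⟩
  have hcomm : ∀ d : ⨁ n, 𝒜 n, DirectSum.coeLinearMap (qgr I) (DirectSum.lmap q d) =
      Ideal.Quotient.mk I.toIdeal ((decompose 𝒜).symm d) := by
    intro d
    induction d using DirectSum.induction_on with
    | zero => simp
    | of n a => simp [q, decompose_symm_of]
    | add x y hx hy => simp [hx, hy]
  have hsurjMap : Function.Surjective (DirectSum.lmap q) := by
    intro d
    induction d using DirectSum.induction_on with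
    | zero => exact ⟨0, map_zero _⟩
    | of n a =>
      obtain ⟨b, rfl⟩ := hq n a
      exact ⟨DirectSum.of _ n b, by simp [← DirectSum.lof_eq_of R]⟩
    | add x y hx hy =>
      obtain ⟨x', rfl⟩ := hx
      obtain ⟨y', rfl⟩ := hy
      exact ⟨x' + y', map_add _ _ _⟩
  refine ⟨?_, ?_⟩
  · rw [injective_iff_map_eq_zero]
    intro d hd
    obtain ⟨d', rfl⟩ := hsurjMap d
    have hd' : Ideal.Quotient.mk I.toIdeal ((decompose 𝒜).symm d') = 0 := by
      rw [← hcomm]; exact hd
    rw [Ideal.Quotient.eq_zero_iff_mem] at hd'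
    ext n
    have := I.isHomogeneous n hd'
    rw [Equiv.apply_symm_apply] at this
    simpa [q] using (Ideal.Quotient.eq_zero_iff_mem (I := I.toIdeal)).mpr this
  · intro y
    obtain ⟨a, rfl⟩ := Ideal.Quotient.mk_surjective y
    refine ⟨DirectSum.lmap q (decompose 𝒜 a), ?_⟩
    have := hcomm (decompose 𝒜 a)
    rw [Equiv.symm_apply_apply] at this
    exact this

noncomputable instance qgrAlgebra (I : HomogeneousIdeal 𝒜) : GradedAlgebra (qgr I) :=
  DirectSum.IsInternal.gradedAlgebra (isInternal_qgr I)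

end GrothLib.GrLC.QuotGr
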