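import Groth.Agent.Lib.GrLC.Serre27
import Groth.Prelude.Def_ReesMod
import Groth.Prelude.Def_GrSyz
import Mathlib.RingTheory.ReesAlgebra

/-!
# Hilbert–Samuel functions and the local cohomology of Rees modules
-/

set_option autoImplicit false
universe u

open DirectSum fwdDiff

noncomputable section

namespace GrothLib.GrLC

open _root_.GrLC (GMod StarInjRes gam deg0 comp)

section General

variable {R : Type u} [CommRing R] {σ : Type u} [SetLike σ R] [AddSubgroupClass σ R] {𝒜 : ℤ → σ} [GradedRing 𝒜]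

theorem cech_smul_eq_zero (X : GMod.{u} 𝒜) {r : R} (hr : ∀ m : X.carrier, r • m = 0) :
    ∀ (l : List (HElt 𝒜)) (n : ℕ) (z : ((cech X l).X n).carrier), r • z = 0
  | [], 0, z => hr z
  | [], n + 1, z => singleX_succ_eq_zero X n _
  | _ :: l, 0, z => cech_smul_eq_zero X hr l 0 z
  | x :: l, n + 1, z => Prod.ext (cech_smul_eq_zero X hr l (n + 1) z.1) (by
    obtain ⟨k, a, ha⟩ := exists_fr x z.2
    change r • z.2 = 0
    rw [← ha]
    exact (fr_smul x k r a).symm.trans ((congrArg (fr x k) (cech_smul_eq_zero X hr l n a)).trans (fr_zero x k)))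

/-- A Noetherian module killed by an ideal with Artinian quotient has finite length. -/
theorem isFiniteLength_of_killed {S W : Type u} [CommRing S] (K : Ideal S) [IsArtinianRing (S ⧸ K)]
    [AddCommGroup W] [Module S W] [IsNoetherian S W] (h : ∀ c ∈ K, ∀ m : W, c • m = 0) :
    IsFiniteLength S W := by
  have ht : Module.IsTorsionBySet S W K := fun m c => h c.1 c.2 m
  let : Module (S ⧸ K) W := ht.module
  have : IsScalarTower S (S ⧸ K) W := ht.isScalarTower
  haveI : Module.Finite (S ⧸ K) W := Module.Finite.of_restrictScalars_finite S _ W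
  haveI : IsArtinian S W := isArtinian_of_surjective_algebraMap (R := S ⧸ K) Ideal.Quotient.mk_surjective
  exact isFiniteLength_iff_isNoetherian_isArtinian.2 ⟨inferInstance, inferInstance⟩

theorem isFinAt_of_killed [IsNoetherianRing R] {l : List (HElt 𝒜)} (hl : ∀ y ∈ l, y.deg = 1)
    (hgen : ∀ n : ℤ, 0 < n → ∀ r ∈ 𝒜 n, r ∈ Ideal.span {r | ∃ y ∈ l, 0 < y.deg ∧ y.val = r})
    (K : Ideal (deg0 𝒜)) [IsArtinianRing (deg0 𝒜 ⧸ K)] (X : GMod.{u} 𝒜) [IsNoetherian R X.carrier]
    (hX : ∀ c ∈ K, ∀ m : X.carrier, (c : R) • m = 0) (g : ℤ) : IsFinAt l X g := by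
  haveI := isNoetherian_comp (𝒜 := 𝒜) X.gr g
  refine ⟨isFiniteLength_of_killed K fun c hc m => Subtype.ext (hX c hc m.1), fun n => ?_⟩
  haveI : IsNoetherian (deg0 𝒜) (HP (cech X l) n g) :=
    good_devissage (𝒜 := 𝒜) (fun A _ _ => IsNoetherian (deg0 𝒜) A)
      (fun f g h hA hC => isNoetherian_of_range_eq_ker f g h) (fun h => inferInstance)
      (deg_nonneg hl) hgen (fun X hX _ g => isNoetherian_comp X.gr g)
      (fun y hy h0 => absurd (h0.symm.trans (hl y hy)) (by decide)) X inferInstance n g
  refine isFiniteLength_of_killed K fun c hc q => ?_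
  obtain ⟨z, rfl⟩ := Submodule.Quotient.mk_surjective _ q
  rw [← Submodule.Quotient.mk_smul, HP_mk_eq_zero]
  change (c : R) • z.1 ∈ _
  rw [cech_smul_eq_zero X (hX c hc) l n z.1]
  exact zero_mem _

end General

section ReesFormula

variable {A : Type u} [CommRing A] (I : Ideal A) (M : Type u) [AddCommGroup M] [Module A M]

local notation "𝒮" => Rees.degZ (reesAlgebra I)
local notation "ℱ" => Rees.powFilt I M

/-- the coefficient in degree zero -/
def reesEps : deg0 𝒮 →+* A :=
  (Polynomial.constantCoeff).comp (((reesAlgebra I).subtype).comp (deg0 𝒮).subtype)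

theorem coe_deg0_eq_C (c : deg0 𝒮) : ((c : reesAlgebra I) : Polynomial A) = Polynomial.C (reesEps I c) :=
  Polynomial.ext fun m => by
    rw [Polynomial.coeff_C]
    split_ifs with h
    · subst h; rfl
    · exact c.2 m (by simpa using h)

theorem reesEps_bijective : Function.Bijective (reesEps I) := by
  refine ⟨fun a b h => Subtype.ext (Subtype.ext ?_), fun a => ⟨⟨algebraMap A (reesAlgebra I) a, ?_⟩, ?_⟩⟩
  · rw [coe_deg0_eq_C, coe_deg0_eq_C, h]
  · intro m hm
    change (Polynomial.C a).coeff m = 0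
    exact Polynomial.coeff_C_ne_zero (by simpa using hm)
  · exact Polynomial.coeff_C_zero

theorem rees_smul_coeff (f : reesAlgebra I) (x : (ℱ).submodule) (n : ℕ) :
    ((f • x : (ℱ).submodule) : PolynomialModule A M).coeff n =
      ∑ p ∈ Finset.antidiagonal n, (f : Polynomial A).coeff p.1 • (x : PolynomialModule A M).coeff p.2 := by
  rw [Submodule.coe_smul, Subalgebra.smul_def, PolynomialModule.smul_apply]

theorem rees_deg0_smul_coeff (c : deg0 𝒮) (x : (ℱ).submodule) (n : ℕ) :
    (((c : reesAlgebra I) • x : (ℱ).submodule) : PolynomialModule A M).coeff n =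
      reesEps I c • (x : PolynomialModule A M).coeff n := by
  rw [rees_smul_coeff, Finset.sum_eq_single (0, n)]
  · rfl
  · intro p hp hne
    rw [Finset.mem_antidiagonal] at hp
    rw [c.2 p.1 fun h => hne ?_, zero_smul]
    have h0 : p.1 = 0 := by simpa using h
    exact Prod.ext h0 (by omega)
  · simp

/-- the Rees module as a bundled graded module -/
abbrev reesX : GMod.{u} 𝒮 := gmod 𝒮 (Rees.mdegZ ℱ)

/-- a coefficient -/
def reesCf (n : ℕ) : (reesX I M).carrier →+ M where
  toFun x := (show (ℱ).submodule from x).1.coeff n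
  map_zero' := rfl
  map_add' _ _ := rfl

theorem reesCf_smul (f : reesAlgebra I) (x : (reesX I M).carrier) (n : ℕ) :
    reesCf I M n (f • x) = ∑ p ∈ Finset.antidiagonal n, (f : Polynomial A).coeff p.1 • reesCf I M p.2 x :=
  rees_smul_coeff I M f x n

theorem reesCf_ext {x y : (reesX I M).carrier} (h : ∀ n, reesCf I M n x = reesCf I M n y) : x = y :=
  Subtype.ext <| PolynomialModule.ext <| Finsupp.ext h

theorem reesCf_mem (x : (reesX I M).carrier) (n : ℕ) : reesCf I M n x ∈ (ℱ).N n := x.2 n

/-- the elements with zero constant term -/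
def reesP : Submodule (reesAlgebra I) (reesX I M).carrier where
  carrier := {x | reesCf I M 0 x = 0}
  zero_mem' := map_zero (reesCf I M 0)
  add_mem' {x y} hx hy := (map_add (reesCf I M 0) x y).trans (by
    rw [show reesCf I M 0 x = 0 from hx, show reesCf I M 0 y = 0 from hy, add_zero])
  smul_mem' f {x} hx := (reesCf_smul I M f x 0).trans (by
    rw [Finset.Nat.antidiagonal_zero, Finset.sum_singleton, show reesCf I M 0 x = 0 from hx, smul_zero])

theorem reesCf_cmp (g : ℤ) (x : (reesX I M).carrier) (n : ℕ) :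
    reesCf I M n (cmp (reesX I M).gr g x) = if (n : ℤ) = g then reesCf I M n x else 0 := by
  classical
  induction x using gr_induction (reesX I M).gr with
  | h0 =>
    rw [map_zero]
    exact (map_zero (reesCf I M n)).trans (by split_ifs <;> first | exact (map_zero (reesCf I M n)).symm | rfl)
  | hh h x hx =>
    by_cases hh : h = g
    · subst hh
      rw [cmp_of_mem _ hx]
      split_ifs with h'
      · rfl
      · exact hx n h'
    · rw [cmp_of_mem_ne _ hx hh]
      refine (map_zero (reesCf I M n)).trans ?_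
      split_ifs with h'
      · subst h'
        exact (hx n fun e => hh e.symm).symm
      · rfl
  | hadd x y hx hy =>
    rw [map_add]
    refine (map_add (reesCf I M n) _ _).trans ?_
    rw [hx, hy]
    split_ifs
    · exact (map_add (reesCf I M n) x y).symm
    · simp

theorem isHomogeneous_reesP : (reesP I M).IsHomogeneous (reesX I M).gr := fun g x hx =>
  (reesCf_cmp I M g x 0).trans (by split_ifs <;> [exact hx; rfl])

/-- the elements of positive degree -/
abbrev reesPX : GMod.{u} 𝒮 := sub (reesX I M) (reesP I M) (isHomogeneous_reesP I M)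

/-- lowering the exponents by one -/
def reesLower (x : (reesX I M).carrier) : (reesX I M).carrier :=
  (⟨PolynomialModule.ofCoeff A (Finsupp.comapDomain Nat.succ
    ((show (ℱ).submodule from x).1.coeff) (Nat.succ_injective.injOn)), fun n => (ℱ).mono n (x.2 (n + 1))⟩ : (ℱ).submodule)

theorem reesCf_lower (x : (reesX I M).carrier) (n : ℕ) : reesCf I M n (reesLower I M x) = reesCf I M (n + 1) x := rfl

/-- lowering the exponents by one, as a map -/
def reesDown : (shift (reesPX I M) 1).carrier →ₗ[reesAlgebra I] (reesX I M).carrier where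
  toFun x := reesLower I M x.1
  map_add' x y := reesCf_ext I M fun n => rfl
  map_smul' f x := reesCf_ext I M fun n => by
    rw [RingHom.id_apply]
    refine (reesCf_lower I M _ n).trans ((reesCf_smul I M f x.1 (n + 1)).trans ?_)
    rw [Finset.Nat.sum_antidiagonal_succ', show reesCf I M 0 x.1 = 0 from x.2, smul_zero, zero_add]
    exact (reesCf_smul I M f (reesLower I M x.1) n).symm

theorem reesCf_down (x : (shift (reesPX I M) 1).carrier) (n : ℕ) :
    reesCf I M n (reesDown I M x) = reesCf I M (n + 1) x.1 := rfl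

theorem reesDown_injective : Function.Injective (reesDown I M) := fun x y h =>
  Subtype.ext (reesCf_ext I M fun n => by
    rcases n with _ | n
    · exact (show reesCf I M 0 x.1 = 0 from x.2).trans (show reesCf I M 0 y.1 = 0 from y.2).symm
    · exact congrArg (reesCf I M n) h)

theorem isHom_reesDown : IsHom (X := shift (reesPX I M) 1) (Y := reesX I M) (reesDown I M) := fun g x hx n hn => by
  exact hx (n + 1) fun e => hn (by simp only [Nat.coe_castAddMonoidHom, Nat.cast_add, Nat.cast_one] at e ⊢; omega)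

/-- the associated graded module -/
abbrev reesG : GMod.{u} 𝒮 :=
  quot (reesX I M) (LinearMap.range (reesDown I M)) (isHomogeneous_range (isHom_reesDown I M))

theorem mem_range_reesDown_of_coeff {x : (reesX I M).carrier}
    (h : ∀ n, reesCf I M n x ∈ (ℱ).N (n + 1)) : x ∈ LinearMap.range (reesDown I M) := by
  classical
  let y : PolynomialModule A M := PolynomialModule.ofCoeff A
    (Finsupp.mapDomain Nat.succ (show (ℱ).submodule from x).1.coeff)
  have hy0 : y.coeff 0 = 0 := Finsupp.mapDomain_notin_range _ _ (by simp)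
  have hys : ∀ n, y.coeff (n + 1) = reesCf I M n x := fun n =>
    Finsupp.mapDomain_apply Nat.succ_injective _ n
  let y' : (ℱ).submodule := ⟨y, fun n => by
    rcases n with _ | n
    · rw [hy0]; exact zero_mem _
    · rw [hys]; exact h n⟩
  exact ⟨⟨y', hy0⟩, reesCf_ext I M hys⟩

theorem smul_reesG_eq_zero (c : deg0 𝒮) (hc : reesEps I c ∈ I) (m : (reesG I M).carrier) :
    (c : reesAlgebra I) • m = 0 := by
  obtain ⟨x, rfl⟩ := Submodule.Quotient.mk_surjective (LinearMap.range (reesDown I M)) m
  refine ((Submodule.Quotient.mk_smul _ _ _).symm).trans ((Submodule.Quotient.mk_eq_zero _).2 ?_)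
  refine mem_range_reesDown_of_coeff I M fun n => ?_
  rw [show reesCf I M n ((c : reesAlgebra I) • x) = reesEps I c • reesCf I M n x from rees_deg0_smul_coeff I M c x n]
  exact (ℱ).smul_le n (Submodule.smul_mem_smul hc (reesCf_mem I M x n))

/-- the lengths of the quotients -/
def hsLen (n : ℤ) : ℚ := ((Module.length A (M ⧸ (I ^ n.toNat • (⊤ : Submodule A M)))).toNat : ℚ)

theorem powFilt_N (n : ℕ) : (ℱ).N n = I ^ n • (⊤ : Submodule A M) := rfl

theorem isArtinianRing_quotient_of_radical [IsNoetherianRing A] [IsLocalRing A]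
    (hI : I.radical = IsLocalRing.maximalIdeal A) : IsArtinianRing (A ⧸ I) := by
  haveI : Ring.KrullDimLE 0 (A ⧸ I) := Ring.krullDimLE_zero_iff.mpr fun P hP => by
    have hle : IsLocalRing.maximalIdeal A ≤ P.comap (Ideal.Quotient.mk I) := by
      rw [← hI, (hP.comap (Ideal.Quotient.mk I)).radical_le_iff]
      exact fun x hx => by rw [Ideal.mem_comap, Ideal.Quotient.eq_zero_iff_mem.2 hx]; exact zero_mem _
    have hmax : (P.comap (Ideal.Quotient.mk I)).IsMaximal := by
      rw [← (IsLocalRing.maximalIdeal.isMaximal A).eq_of_le (hP.comap (Ideal.Quotient.mk I)).ne_top hle]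
      infer_instance
    have h := (Ideal.map_eq_top_or_isMaximal_of_surjective (Ideal.Quotient.mk I) Ideal.Quotient.mk_surjective hmax
      ).resolve_left (by rw [Ideal.map_comap_of_surjective _ Ideal.Quotient.mk_surjective]; exact hP.ne_top)
    rwa [Ideal.map_comap_of_surjective _ Ideal.Quotient.mk_surjective] at h
  exact isArtinianRing_iff_isNoetherianRing_krullDimLE_zero.mpr ⟨inferInstance, inferInstance⟩

theorem isArtinian_quotient_pow [IsArtinianRing (A ⧸ I)] [IsNoetherianRing A] [Module.Finite A M] :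
    ∀ n : ℕ, IsArtinian A (M ⧸ (I ^ n • (⊤ : Submodule A M)))
  | 0 => by
    haveI : Subsingleton (M ⧸ (I ^ 0 • (⊤ : Submodule A M))) := by
      rw [Submodule.Quotient.subsingleton_iff, pow_zero, Ideal.one_eq_top, Submodule.top_smul]
    infer_instance
  | n + 1 => by
    have hle : (I ^ (n + 1) • (⊤ : Submodule A M)) ≤ I ^ n • ⊤ :=
      Submodule.smul_mono_left (Ideal.pow_le_pow_right (Nat.le_succ n))
    haveI := isArtinian_quotient_pow n
    let q := Submodule.factor hle
    haveI : IsArtinian A (LinearMap.ker q) := by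
      refine (isFiniteLength_iff_isNoetherian_isArtinian.1 (isFiniteLength_of_killed I fun a ha m => ?_)).2
      obtain ⟨m, hm⟩ := m
      obtain ⟨y, rfl⟩ := Submodule.Quotient.mk_surjective _ m
      rw [LinearMap.mem_ker] at hm
      refine Subtype.ext ?_
      change a • (Submodule.Quotient.mk y : M ⧸ _) = 0
      rw [← Submodule.Quotient.mk_smul, Submodule.Quotient.mk_eq_zero, pow_succ', Submodule.mul_smul]
      exact Submodule.smul_mem_smul ha ((Submodule.Quotient.mk_eq_zero _).1 hm)
    exact isArtinian_of_range_eq_ker (LinearMap.ker q).subtype q (Submodule.range_subtype _)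

variable [IsNoetherianRing A] [Module.Finite A M] [IsArtinianRing (A ⧸ I)]

/-- The pieces of the associated graded module. -/
theorem qlen_comp_reesG (n : ℕ) :
    qlen (deg0 𝒮) (comp 𝒮 (reesG I M).gr (n : ℤ)) = hsLen I M ((n : ℤ) + 1) - hsLen I M n := by
  classical
  letI := (reesEps I).toAlgebra
  letI : Module (deg0 𝒮) M := Module.compHom M (reesEps I)
  haveI : IsScalarTower (deg0 𝒮) A M := ⟨fun c a m => mul_smul (reesEps I c) a m⟩
  have hsurj : Function.Surjective (algebraMap (deg0 𝒮) A) := (reesEps_bijective I).2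
  let α : comp 𝒮 (reesX I M).gr (n : ℤ) →ₗ[deg0 𝒮] M ⧸ (ℱ).N (n + 1) :=
    { toFun := fun x => Submodule.Quotient.mk (reesCf I M n x.1)
      map_add' := fun x y => rfl
      map_smul' := fun c x => by
        exact congrArg Submodule.Quotient.mk (rees_deg0_smul_coeff I M c x.1 n) }
  let p := compMap (X := reesX I M) (Y := reesG I M) (LinearMap.range (reesDown I M)).mkQ
    (isHom_mkQ (reesX I M) _ (isHomogeneous_range (isHom_reesDown I M))) (n : ℤ)
  have hp : Function.Surjective p := fun y => by
    obtain ⟨x, hx, e⟩ := y.2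
    exact ⟨⟨x, hx⟩, Subtype.ext e⟩
  have hk : LinearMap.ker p = LinearMap.ker α := by
    ext x
    rw [LinearMap.mem_ker, LinearMap.mem_ker]
    constructor
    · intro h
      obtain ⟨y, hy⟩ := (Submodule.Quotient.mk_eq_zero _).1 (congrArg Subtype.val h)
      refine (Submodule.Quotient.mk_eq_zero _).2 ?_
      change reesCf I M n ((comp 𝒮 (reesX I M).gr (n : ℤ)).subtype x) ∈ _
      rw [← hy, reesCf_down]
      exact reesCf_mem I M y.1 (n + 1)
    · intro h
      refine Subtype.ext ((Submodule.Quotient.mk_eq_zero _).2 (mem_range_reesDown_of_coeff I M fun m => ?_))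
      by_cases hm : (m : ℤ) = (n : ℤ)
      · obtain rfl : m = n := by exact_mod_cast hm
        exact (Submodule.Quotient.mk_eq_zero _).1 h
      · change reesCf I M m x.1 ∈ _
        rw [show reesCf I M m x.1 = 0 from x.2 m hm]; exact zero_mem _
  let q : (M ⧸ (ℱ).N (n + 1)) →ₗ[deg0 𝒮] M ⧸ (ℱ).N n := (Submodule.factor ((ℱ).mono n)).restrictScalars (deg0 𝒮)
  have hq : LinearMap.range α = LinearMap.ker q := by
    refine le_antisymm ?_ fun z hz => ?_
    · rintro _ ⟨x, rfl⟩
      exact (Submodule.Quotient.mk_eq_zero _).2 (reesCf_mem I M x.1 n)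
    · obtain ⟨m, rfl⟩ := Submodule.Quotient.mk_surjective _ z
      have hm : m ∈ (ℱ).N n := (Submodule.Quotient.mk_eq_zero _).1 hz
      refine ⟨⟨(Rees.mdegEquiv ℱ n ⟨m, hm⟩).1, (Rees.mem_mdegZ_natCast_iff ℱ n _).2 (Rees.mdegEquiv ℱ n ⟨m, hm⟩).2⟩, ?_⟩
      change Submodule.Quotient.mk ((PolynomialModule.single A n m).coeff n) = _
      rw [PolynomialModule.coeff_single, Finsupp.single_eq_same]
  have hlen : ∀ k : ℕ, qlen (deg0 𝒮) (M ⧸ (ℱ).N k) = hsLen I M k := fun k => by
    rw [qlen, hsLen, Int.toNat_natCast, Module.length_eq_of_surjective hsurj]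
    rfl
  have hfl : ∀ k : ℕ, IsNoetherian (deg0 𝒮) (M ⧸ (ℱ).N k) ∧ IsArtinian (deg0 𝒮) (M ⧸ (ℱ).N k) := fun k => by
    haveI : IsArtinian A (M ⧸ (ℱ).N k) := isArtinian_quotient_pow I M k
    refine isFiniteLength_iff_isNoetherian_isArtinian.1 (Module.length_ne_top_iff.1 ?_)
    rw [Module.length_eq_of_surjective hsurj]
    exact Module.length_ne_top
  haveI := fun k => (hfl k).1
  haveI := fun k => (hfl k).2
  have e : qlen (deg0 𝒮) (comp 𝒮 (reesG I M).gr (n : ℤ)) = qlen (deg0 𝒮) (LinearMap.ker q) :=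
    qlen_congr ((p.quotKerEquivOfSurjective hp).symm.trans
      ((Submodule.quotEquivOfEq _ _ hk).trans (α.quotKerEquivRange.trans (LinearEquiv.ofEq _ _ hq))))
  have hrange : LinearMap.range q = ⊤ := LinearMap.range_eq_top.2 (Submodule.factor_surjective ((ℱ).mono n))
  have e2 := qlen_eq_ker_add_range q
  rw [qlen_congr (LinearEquiv.ofTop _ hrange), hlen, hlen, ← e] at e2
  push_cast at e2
  linarith


omit [Module.Finite A M] [IsArtinianRing (A ⧸ I)] in
theorem exists_rees_list : ∃ l : List (HElt 𝒮), (∀ y ∈ l, y.deg = 1) ∧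
    (∀ n : ℤ, 0 < n → ∀ r ∈ (𝒮) n, r ∈ Ideal.span {r | ∃ y ∈ l, 0 < y.deg ∧ y.val = r}) ∧
    (hspan l).toIdeal = (GrSyz.irrel 𝒮).toIdeal := by
  classical
  obtain ⟨s, hs⟩ := (IsNoetherian.noetherian I : I.FG)
  have hsI : ∀ a ∈ s, a ∈ I := fun a ha => hs ▸ Ideal.subset_span ha
  let el : ∀ a ∈ s, HElt 𝒮 := fun a ha =>
    ⟨⟨Polynomial.monomial 1 a, reesAlgebra.monomial_mem.2 (by rw [pow_one]; exact hsI a ha)⟩, 1, fun m hm => by
      change (Polynomial.monomial 1 a).coeff m = 0
      rw [Polynomial.coeff_monomial]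
      exact if_neg fun h => hm (by subst h; simp)⟩
  refine ⟨s.toList.attach.map fun t => el t.1 (Finset.mem_toList.1 t.2), ?_, ?_⟩
  · intro y hy; obtain ⟨t, -, rfl⟩ := List.mem_map.1 hy; rfl
  set l := s.toList.attach.map fun t => el t.1 (Finset.mem_toList.1 t.2) with hl
  have hdeg : ∀ y ∈ l, y.deg = 1 := fun y hy => by obtain ⟨t, -, rfl⟩ := List.mem_map.1 hy; rfl
  let J : Ideal (reesAlgebra I) := Ideal.span {r | ∃ y ∈ l, 0 < y.deg ∧ y.val = r}
  have hone : ∀ a ∈ I, ∀ h, (⟨Polynomial.monomial 1 a, h⟩ : reesAlgebra I) ∈ J := by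
    intro a ha
    rw [← hs] at ha
    induction ha using Submodule.span_induction with
    | mem a ha =>
      exact fun h => Ideal.subset_span ⟨el a ha, List.mem_map.2 ⟨⟨a, Finset.mem_toList.2 ha⟩, List.mem_attach _ _, rfl⟩,
        zero_lt_one, rfl⟩
    | zero => intro h; convert J.zero_mem using 1; exact Subtype.ext (map_zero _)
    | add a b ha hb iha ihb =>
      intro h
      have e := J.add_mem (iha (reesAlgebra.monomial_mem.2 (by rw [pow_one]; exact hs ▸ ha)))
        (ihb (reesAlgebra.monomial_mem.2 (by rw [pow_one]; exact hs ▸ hb)))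
      convert e using 1
      exact Subtype.ext (map_add _ _ _)
    | smul c a ha iha =>
      intro h
      have e := J.mul_mem_left (algebraMap A (reesAlgebra I) c)
        (iha (reesAlgebra.monomial_mem.2 (by rw [pow_one]; exact hs ▸ ha)))
      convert e using 1
      exact Subtype.ext (Polynomial.C_mul_monomial).symm
  have hgen : ∀ n : ℤ, 0 < n → ∀ r ∈ (𝒮) n, r ∈ J := by
    intro n hn r hr
    obtain ⟨k, rfl⟩ : ∃ k : ℕ, n = ((k + 1 : ℕ) : ℤ) := ⟨(n - 1).toNat, by push_cast; omega⟩
    have hpow : ∀ a ∈ I * I ^ k, ∀ h, (⟨Polynomial.monomial (k + 1) a, h⟩ : reesAlgebra I) ∈ J := by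
      intro a ha
      induction ha using Submodule.mul_induction_on' with
      | mem_mul_mem b hb c hc =>
        intro h
        have e := J.mul_mem_right (⟨Polynomial.monomial k c, reesAlgebra.monomial_mem.2 hc⟩ : reesAlgebra I)
          (hone b hb (reesAlgebra.monomial_mem.2 (by rw [pow_one]; exact hb)))
        convert e using 1
        refine Subtype.ext ?_
        change Polynomial.monomial (k + 1) (b * c) = Polynomial.monomial 1 b * Polynomial.monomial k c
        rw [Polynomial.monomial_mul_monomial, Nat.add_comm]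
      | add b hb c hc ihb ihc =>
        intro h
        have e := J.add_mem (ihb (reesAlgebra.monomial_mem.2 (by rw [pow_succ']; exact hb)))
          (ihc (reesAlgebra.monomial_mem.2 (by rw [pow_succ']; exact hc)))
        convert e using 1
        exact Subtype.ext (map_add _ _ _)
    have hre : (r : Polynomial A) = Polynomial.monomial (k + 1) ((r : Polynomial A).coeff (k + 1)) :=
      Polynomial.ext fun m => by
        rw [Polynomial.coeff_monomial]
        split_ifs with h
        · rw [h]
        · exact hr m fun e => h (by simp only [Nat.coe_castAddMonoidHom, Nat.cast_inj] at e; exact e.symm)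
    have hmem := hpow ((r : Polynomial A).coeff (k + 1)) (by rw [← pow_succ']; exact r.2 (k + 1))
      (reesAlgebra.monomial_mem.2 (r.2 (k + 1)))
    convert hmem using 1
    exact Subtype.ext hre
  refine ⟨hgen, le_antisymm (Ideal.span_le.2 ?_) (Ideal.span_le.2 ?_)⟩
  · rintro r ⟨y, hy, rfl⟩
    exact Ideal.subset_span ⟨y.deg, by rw [hdeg y hy]; exact one_pos, y.mem⟩
  · rintro r ⟨n, hn, hr⟩
    exact Ideal.span_mono (by rintro r ⟨y, hy, -, rfl⟩; exact ⟨y, hy, rfl⟩) (hgen n hn r hr)

/-- The Euler characteristic of local cohomology in one degree. -/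
def chi (l : List (HElt 𝒮)) (Z : GMod.{u} 𝒮) (g : ℤ) : ℚ :=
  ∑ i ∈ Finset.range (l.length + 1), (-1 : ℚ) ^ i * qlen (deg0 𝒮) (HP (cech Z l) i g)

/-- Serre's formula for the Rees module. -/
theorem hilbertSamuel_rees (P : Polynomial ℚ)
    (hP : ∃ N : ℕ, ∀ n : ℕ, N ≤ n → P.eval (n : ℚ) = hsLen I M n)
    (E : StarInjRes 𝒮 (Rees.mdegZ ℱ)) (n : ℕ) :
    (∀ i : ℕ, IsFiniteLength (deg0 𝒮) (E.Hcomp (GrSyz.irrel 𝒮) i (n : ℤ))) ∧
      Set.Finite {i : ℕ | E.Hcomp (GrSyz.irrel 𝒮) i (n : ℤ) ≠ ⊥} ∧
      P.eval (n : ℚ) - hsLen I M n =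
        finsum (fun i : ℕ => (-1 : ℚ) ^ i * qlen (deg0 𝒮) (E.Hcomp (GrSyz.irrel 𝒮) i (n : ℤ))) := by
  classical
  obtain ⟨l, hl, hgen, hirr⟩ := exists_rees_list I
  haveI hfinM : Module.Finite (reesAlgebra I) (ℱ).submodule :=
    Module.Finite.iff_fg.2 (((ℱ).submodule_fg_iff_stable (fun i => IsNoetherian.noetherian _)).2
      (I.stableFiltration_stable ⊤))
  haveI hXn : IsNoetherian (reesAlgebra I) (reesX I M).carrier :=
    isNoetherian_of_isNoetherianRing_of_finite (reesAlgebra I) (ℱ).submodule
  haveI hPn : IsNoetherian (reesAlgebra I) (reesPX I M).carrier := isNoetherian_submodule' (reesP I M)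
  haveI hP1n : IsNoetherian (reesAlgebra I) (shift (reesPX I M) 1).carrier := hPn
  haveI hGn : IsNoetherian (reesAlgebra I) (reesG I M).carrier :=
    isNoetherian_of_surjective _ (LinearMap.range_eq_top.2 (Submodule.mkQ_surjective (LinearMap.range (reesDown I M))))
  let K : Ideal (deg0 𝒮) := I.comap (reesEps I)
  haveI : IsArtinianRing (deg0 𝒮 ⧸ K) :=
    Function.Surjective.isArtinianRing
      (f := Ideal.quotientMap K (RingEquiv.ofBijective _ (reesEps_bijective I)).symm.toRingHom fun a ha => by
        rw [Ideal.mem_comap]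
        change reesEps I ((RingEquiv.ofBijective _ (reesEps_bijective I)).symm a) ∈ I
        rwa [show reesEps I ((RingEquiv.ofBijective _ (reesEps_bijective I)).symm a) = a from
          (RingEquiv.ofBijective _ (reesEps_bijective I)).apply_symm_apply a])
      (Ideal.quotientMap_surjective (RingEquiv.surjective _))
  let J₀ : Ideal (reesAlgebra I) := Ideal.span {r | ∃ c ∈ K, (c : reesAlgebra I) = r}
  have hfin : ∀ (W : GMod.{u} 𝒮), IsNoetherian (reesAlgebra I) W.carrier →
      (∀ r ∈ J₀, ∀ m : W.carrier, r • m = 0) → ∀ g, IsFinAt l W g := fun W hW h g =>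
    isFinAt_of_killed hl hgen K W (fun c hc => h _ (Ideal.subset_span ⟨c, hc, rfl⟩)) g
  have hG0 : ∀ r ∈ J₀, ∀ m : (reesG I M).carrier, r • m = 0 := by
    intro r hr m
    induction hr using Submodule.span_induction with
    | mem r hr => obtain ⟨c, hc, rfl⟩ := hr; exact smul_reesG_eq_zero I M c hc m
    | zero => exact zero_smul _ m
    | add a b _ _ ha hb => rw [add_smul, ha, hb, add_zero]
    | smul a b _ hb => rw [smul_eq_mul, mul_smul, hb, smul_zero]
  have hGfin := fun g => hfin (reesG I M) hGn hG0 g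
  obtain ⟨k, hk⟩ := exists_diff_eq_zero' hl J₀ hfin (reesG I M) hG0
  -- the part in degree zero
  have hiso : ∀ (i : ℕ) (g : ℤ), 1 ≤ g →
      Nonempty (HP (cech (reesPX I M) l) i g ≃ₗ[deg0 𝒮] HP (cech (reesX I M) l) i g) := by
    intro i g hg
    have hf := isHom_subtype (reesX I M) (reesP I M) (isHomogeneous_reesP I M)
    have hp := isHom_mkQ (reesX I M) (reesP I M) (isHomogeneous_reesP I M)
    have S := cechMap_ses (X := reesPX I M) (Y := reesX I M)
      (Z := quot (reesX I M) (reesP I M) (isHomogeneous_reesP I M)) hf hp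
      (Submodule.injective_subtype _) (Submodule.mkQ_surjective _) (LinearMap.exact_subtype_mkQ _) l
    have hT : ∀ g : ℤ, 1 ≤ g → ∀ m ∈ (quot (reesX I M) (reesP I M) (isHomogeneous_reesP I M)).gr g, m = 0 := by
      rintro g hg _ ⟨x, hx, rfl⟩
      exact (Submodule.Quotient.mk_eq_zero _).2 (hx 0 (by simp only [map_zero, ne_eq]; omega))
    have hsub := fun j => subsingleton_HP _ (van_of_gr_eq_zero hT (deg_nonneg hl) j hg)
    refine ⟨LinearEquiv.ofBijective ((cechMap (reesP I M).subtype hf l).HPmap i g) ⟨?_, ?_⟩⟩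
    · rw [← LinearMap.ker_eq_bot]
      rcases i with _ | i
      · refine (Submodule.eq_bot_iff _).2 fun q hq => ?_
        obtain ⟨z, rfl⟩ := Submodule.Quotient.mk_surjective _ q
        rw [LinearMap.mem_ker, Mor.HPmap_mk, HP_mk_eq_zero] at hq
        refine (HP_mk_eq_zero _ z).2 ((Submodule.mem_bot _).2 (S.inj 0 ?_))
        rw [map_zero]
        exact (Submodule.mem_bot _).1 hq
      · obtain ⟨δ, hδ⟩ := S.HP_exact_left i g
        rw [← hδ, LinearMap.range_eq_bot]
        haveI := hsub i
        exact LinearMap.ext fun q => by rw [Subsingleton.elim q 0, map_zero]; rfl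
    · rw [← LinearMap.range_eq_top, S.HP_exact]
      haveI := hsub i
      exact eq_top_iff.2 fun q _ => Subsingleton.elim _ _
  have hshift : ∀ (i : ℕ) (g : ℤ), 0 ≤ g →
      Nonempty (HP (cech (shift (reesPX I M) 1) l) i g ≃ₗ[deg0 𝒮] HP (cech (reesX I M) l) i (g + 1)) := by
    intro i g hg
    obtain ⟨e, -⟩ := exists_HP_shift l (reesPX I M) 1 i g
    obtain ⟨e'⟩ := hiso i (g + 1) (by omega)
    exact ⟨e.trans e'⟩
  have hd := isHom_reesDown I M
  have hq : IsHom (X := reesX I M) (Y := reesG I M) (LinearMap.range (reesDown I M)).mkQ :=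
    isHom_mkQ (reesX I M) _ (isHomogeneous_range (isHom_reesDown I M))
  have hex : Function.Exact (reesDown I M) (LinearMap.range (reesDown I M)).mkQ :=
    LinearMap.exact_map_mkQ_range _
  have S := cechMap_ses (X := shift (reesPX I M) 1) (Y := reesX I M) (Z := reesG I M) hd hq
    (reesDown_injective I M) (Submodule.mkQ_surjective _)
    hex l
  obtain ⟨b, hb⟩ := exists_high_van (deg_nonneg hl) hgen (reesX I M) inferInstance
  have hXfin : ∀ (i : ℕ) (g : ℤ), 0 ≤ g → IsFiniteLength (deg0 𝒮) (HP (cech (reesX I M) l) i g) := by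
    intro i
    suffices H : ∀ (t : ℕ) (g : ℤ), 0 ≤ g → b ≤ g + t → IsFiniteLength (deg0 𝒮) (HP (cech (reesX I M) l) i g) from
      fun g hg => H (b - g).toNat g hg (by omega)
    intro t
    induction t with
    | zero =>
      intro g _ he
      haveI := subsingleton_HP _ (hb i g (by simpa using he))
      exact IsFiniteLength.of_subsingleton
    | succ t ih =>
      intro g hg he
      obtain ⟨e⟩ := hshift i g hg
      have hA : IsFiniteLength (deg0 𝒮) (HP (cech (shift (reesPX I M) 1) l) i g) := by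
        have h1 := ih (g + 1) (by omega) (by push_cast at he ⊢; omega)
        rw [← Module.length_ne_top_iff] at h1 ⊢
        rwa [e.length_eq]
      obtain ⟨hA1, hA2⟩ := isFiniteLength_iff_isNoetherian_isArtinian.1 hA
      obtain ⟨hC1, hC2⟩ := isFiniteLength_iff_isNoetherian_isArtinian.1 ((hGfin g).2 i)
      exact isFiniteLength_iff_isNoetherian_isArtinian.2
        ⟨isNoetherian_of_range_eq_ker _ _ (S.HP_exact i g), isArtinian_of_range_eq_ker _ _ (S.HP_exact i g)⟩
  -- the sequence of Euler characteristics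
  have hchi : ∀ g : ℤ, 0 ≤ g →
      chi I l (reesX I M) g = chi I l (reesX I M) (g + 1) + chi I l (reesG I M) g := by
    intro g hg
    have hA : ∀ i, IsFiniteLength (deg0 𝒮) (HP (cech (shift (reesPX I M) 1) l) i g) := fun i => by
      obtain ⟨e⟩ := hshift i g hg
      rw [← Module.length_ne_top_iff, e.length_eq, Module.length_ne_top_iff]
      exact hXfin i (g + 1) (by omega)
    haveI := fun i => (isFiniteLength_iff_isNoetherian_isArtinian.1 (hA i)).1
    haveI := fun i => (isFiniteLength_iff_isNoetherian_isArtinian.1 (hA i)).2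
    haveI := fun i => (isFiniteLength_iff_isNoetherian_isArtinian.1 (hXfin i g hg)).1
    haveI := fun i => (isFiniteLength_iff_isNoetherian_isArtinian.1 (hXfin i g hg)).2
    haveI := fun i => (isFiniteLength_iff_isNoetherian_isArtinian.1 ((hGfin g).2 i)).1
    haveI := fun i => (isFiniteLength_iff_isNoetherian_isArtinian.1 ((hGfin g).2 i)).2
    choose δ hδ' hδ using fun i => exists_delta S i g
    refine (alt_sum_eq (fun i => HP (cech (shift (reesPX I M) 1) l) i g) (fun i => HP (cech (reesX I M) l) i g)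
      (fun i => HP (cech (reesG I M) l) i g) (fun i => (cechMap (reesDown I M) hd l).HPmap i g)
      (fun i => (cechMap _ hq l).HPmap i g) δ ?_ (fun i => S.HP_exact i g) hδ' hδ (l.length + 1)
      (subsingleton_HP_of_length_lt _ l (Nat.lt_succ_self _) g)).trans ?_
    · intro x y h
      obtain ⟨x, rfl⟩ := Submodule.Quotient.mk_surjective _ x
      obtain ⟨y, rfl⟩ := Submodule.Quotient.mk_surjective _ y
      rw [Mor.HPmap_mk, Mor.HPmap_mk, Submodule.Quotient.eq] at h
      refine (Submodule.Quotient.eq _).2 ((Submodule.mem_bot (reesAlgebra I)).2 ?_)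
      change x.1 - y.1 = 0
      refine S.inj 0 ?_
      rw [map_sub, map_zero]
      exact (Submodule.mem_bot (reesAlgebra I)).1 h
    · refine congrArg₂ (· + ·) (Finset.sum_congr rfl fun i _ => ?_) rfl
      obtain ⟨e⟩ := hshift i g hg
      rw [qlen_congr e]
  obtain ⟨N, hN⟩ := hP
  obtain ⟨bG, hbG⟩ := exists_high_van (deg_nonneg hl) hgen (reesG I M) inferInstance
  have hdef : ∀ m : ℕ, defect l (reesG I M) (m : ℤ) =
      hsLen I M ((m : ℤ) + 1) - hsLen I M m - chi I l (reesG I M) m := fun m => by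
    rw [defect, qlen_comp_reesG]; rfl
  let Q : Polynomial ℚ := P.comp (Polynomial.X + 1) - P
  have hQ : ∀ g : ℤ, defect l (reesG I M) g = Q.eval (g : ℚ) := by
    have hz : ∀ c : ℕ, Δ_[(1 : ℤ)]^[c] (0 : ℤ → ℚ) = 0 := by
      intro c
      induction c with
      | zero => rfl
      | succ c ihc => rw [Function.iterate_succ_apply', ihc]; funext g; simp [fwdDiff]
    have hcast : ∀ (c : ℕ) (F : ℚ → ℚ),
        Δ_[(1 : ℤ)]^[c] (fun g : ℤ => F (g : ℚ)) = fun g : ℤ => (Δ_[(1 : ℚ)]^[c] F) (g : ℚ) := by
      intro c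
      induction c with
      | zero => intro F; rfl
      | succ c ih =>
        intro F
        rw [Function.iterate_succ_apply, Function.iterate_succ_apply, ← ih]
        congr 1
        funext g
        simp [fwdDiff]
    have hQz : Δ_[(1 : ℤ)]^[Q.natDegree + 1] (fun g : ℤ => Q.eval (g : ℚ)) = 0 := by
      refine (hcast _ fun t => Q.eval t).trans ?_
      rw [Polynomial.fwdDiff_iter_degree_add_one_eq_zero]; rfl
    have h0 : defect l (reesG I M) + (-1 : ℚ) • (fun g : ℤ => Q.eval (g : ℚ)) = 0 := by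
      refine eq_zero_of_diff (k + (Q.natDegree + 1)) _ ?_ ⟨max bG N, fun g hg => ?_⟩
      · rw [fwdDiff_iter_add, fwdDiff_iter_const_smul]
        conv_lhs => arg 2; arg 2; rw [Function.iterate_add_apply, hQz, hz]
        rw [add_comm k, Function.iterate_add_apply, hk, hz, smul_zero, add_zero]
      · obtain ⟨m, rfl⟩ : ∃ m : ℕ, g = m := ⟨g.toNat, by omega⟩
        have hv : chi I l (reesG I M) m = 0 := Finset.sum_eq_zero fun i _ => by
          rw [qlen_eq_zero (subsingleton_HP _ (hbG i m (le_trans (le_max_left _ _) hg))), mul_zero]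
        have h1 : N ≤ m := by omega
        rw [Pi.add_apply, Pi.smul_apply, hdef, hv, smul_eq_mul,
          show ((m : ℤ) + 1) = ((m + 1 : ℕ) : ℤ) by push_cast; rfl, ← hN m h1, ← hN (m + 1) (by omega)]
        simp [Q]
    intro g
    have := congrFun h0 g
    simp only [Pi.add_apply, Pi.smul_apply, smul_eq_mul, Pi.zero_apply] at this
    linarith
  have hstep : ∀ m : ℕ, P.eval (m : ℚ) - hsLen I M m - chi I l (reesX I M) m =
      P.eval ((m + 1 : ℕ) : ℚ) - hsLen I M (m + 1 : ℕ) - chi I l (reesX I M) (m + 1 : ℕ) := fun m => by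
    have h1 := hchi m (Int.natCast_nonneg m)
    have h2 := (hdef m).symm.trans (hQ m)
    simp only [Q, Polynomial.eval_sub, Polynomial.eval_comp, Polynomial.eval_add, Polynomial.eval_X,
      Polynomial.eval_one, Int.cast_natCast] at h2
    push_cast
    linarith
  have hmain : ∀ m : ℕ, P.eval (m : ℚ) - hsLen I M m - chi I l (reesX I M) m = 0 := by
    suffices H : ∀ t m : ℕ, max N b.toNat ≤ m + t →
        P.eval (m : ℚ) - hsLen I M m - chi I l (reesX I M) m = 0 from fun m => H _ m (Nat.le_add_left _ m)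
    intro t
    induction t with
    | zero =>
      intro m hm
      have h1 : chi I l (reesX I M) m = 0 := Finset.sum_eq_zero fun i _ => by
        rw [qlen_eq_zero (subsingleton_HP _ (hb i m (by omega))), mul_zero]
      rw [h1, hN m (by omega), sub_self, sub_zero]
    | succ t ih =>
      intro m hm
      rw [hstep m]
      exact ih (m + 1) (by omega)
  have hE : ∀ i, Nonempty (HP (cech (reesX I M) l) i (n : ℤ) ≃ₗ[deg0 𝒮] E.Hcomp (GrSyz.irrel 𝒮) i (n : ℤ)) :=
    fun i => by
      obtain ⟨e⟩ := nonempty_HP_equiv_Hcomp E (a := hspan l) rfl i (n : ℤ)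
      obtain ⟨e'⟩ := nonempty_Hcomp_equiv_of_radical E (congrArg Ideal.radical hirr) i (n : ℤ)
      exact ⟨e.trans e'⟩
  have hlen : ∀ i, l.length < i → Subsingleton (E.Hcomp (GrSyz.irrel 𝒮) i (n : ℤ)) := fun i hi => by
    obtain ⟨e⟩ := hE i
    haveI := subsingleton_HP_of_length_lt (reesX I M) l hi (n : ℤ)
    exact e.symm.toEquiv.subsingleton
  refine ⟨fun i => ?_, (Finset.range (l.length + 1)).finite_toSet.subset fun i hi => ?_, ?_⟩
  · obtain ⟨e⟩ := hE i
    rw [← Module.length_ne_top_iff, ← e.length_eq, Module.length_ne_top_iff]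
    exact hXfin i n (Int.natCast_nonneg n)
  · by_contra h
    simp only [Finset.coe_range, Set.mem_Iio, not_lt] at h
    haveI := hlen i (by omega)
    exact hi (Submodule.eq_bot_of_subsingleton)
  · rw [sub_eq_zero.1 (hmain n)]
    rw [finsum_eq_sum_of_support_subset _ (s := Finset.range (l.length + 1)) fun i hi => by
      by_contra h
      simp only [Finset.coe_range, Set.mem_Iio, not_lt] at h
      refine hi ?_
      change _ * _ = (0 : ℚ)
      rw [qlen_eq_zero (hlen i (by omega)), mul_zero]]
    exact Finset.sum_congr rfl fun i _ => by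
      obtain ⟨e⟩ := hE i
      rw [qlen_congr e]

end ReesFormula

end GrothLib.GrLC
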