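import Groth.Agent.Lib.GrLC.Degree

/-!
# Vanishing on one diagonal gives vanishing above it
-/

universe u

open DirectSum

namespace GrothLib.GrLC

open _root_.GrLC (GMod IsGrHom)

variable {R : Type u} [CommRing R] {σ : Type u} [SetLike σ R]
  [AddSubgroupClass σ R] {𝒜 : ℤ → σ} [GradedRing 𝒜]

theorem van_above_diagonal {l : List (HElt 𝒜)} (he : ∀ y ∈ l, y.deg = 1) {X : GMod.{u} 𝒜} {l₀ : ℕ} (hl₀ : 1 ≤ l₀)
    {r : ℤ} (h : ∀ i : ℕ, l₀ ≤ i → Van l X i (r + 1 - i)) :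
    ∀ (m : ℕ) (i : ℕ), l₀ ≤ i → Van l X i (r + 1 + m - i)
  | 0, i, hi => by rw [Nat.cast_zero, add_zero]; exact h i hi
  | m + 1, i, hi => by
    have := van_step he (hl₀.trans hi) (g := r + 1 + m - i) fun j _ => by
      have h' := van_above_diagonal he hl₀ h m (i + j) (hi.trans (Nat.le_add_right i j))
      rwa [show r + 1 + (m : ℤ) - ((i + j : ℕ) : ℤ) = r + 1 + m - i - j • (1 : ℤ) by
        rw [nsmul_eq_mul, mul_one]; push_cast; ring] at h'
    rwa [show r + 1 + ((m + 1 : ℕ) : ℤ) - (i : ℤ) = r + 1 + m - i + 1 by push_cast; ring]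

theorem strong_iff_weak {l : List (HElt 𝒜)} (he : ∀ y ∈ l, y.deg = 1) (X : GMod.{u} 𝒜) (d : ℤ) :
    (∀ (i : ℕ) (g : ℤ), d < g + i → Van l X i g) ↔
      ((∀ g, d < g → Van l X 0 g) ∧ ∀ i : ℕ, 0 < i → Van l X i (d - i + 1)) := by
  refine ⟨fun h => ⟨fun g hg => h 0 g (by simpa using hg), fun i _ => h i _ (by omega)⟩, ?_⟩
  rintro ⟨h0, h1⟩ i g hg
  rcases Nat.eq_zero_or_pos i with rfl | hi
  · exact h0 g (by simpa using hg)
  · obtain ⟨m, hm⟩ := Int.le.dest (show d + 1 ≤ g + i by omega)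
    have := van_above_diagonal he (le_refl 1) (r := d) (fun j hj => by
      have := h1 j hj
      rwa [show d + 1 - (j : ℤ) = d - j + 1 by ring]) m i hi
    rwa [show d + 1 + (m : ℤ) - i = g by omega] at this

end GrothLib.GrLC
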