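import Groth.Agent.Lib.GrLC.PolyTop
import Groth.Agent.Lib.GrLC.Weak
import Groth.Agent.Lib.GrSyz.Length
import Mathlib.LinearAlgebra.Matrix.ToLin

/-!
# Regularity: minimal free resolutions and graded Čech cohomology
-/

universe u

open DirectSum MvPolynomial

namespace GrothLib.GrLC

open _root_.GrLC (GMod IsGrHom)

section Free

variable {ι : Type} [AddCommGroup ι] [DecidableEq ι] {R : Type u} [CommRing R] {σ : Type u} [SetLike σ R]
  [AddSubgroupClass σ R] {𝒜 : ι → σ} [GradedRing 𝒜]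

variable (𝒜) in
/-- the graded free module with basis degrees `deg` -/
noncomputable abbrev freeG {m : ℕ} (deg : Fin m → ι) : GMod.{u} 𝒜 :=
  mkGMod (Fin m → R) (fun g => AddSubgroup.pi Set.univ fun a => AddSubgroup.ofClass (𝒜 (g + -deg a)))
    (isInternal_of_proj _
      (fun g => AddMonoidHom.mk' (fun v a => cmp 𝒜 (g + -deg a) (v a)) fun v w => funext fun a => map_add _ _ _)
      (fun _ _ hx => funext fun a => cmp_of_mem 𝒜 (hx a trivial))
      (fun g h hne x hx => funext fun a => cmp_of_mem_ne 𝒜 (hx a trivial) fun e => hne (add_right_cancel e))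
      (fun g x a _ => cmp_mem 𝒜 _ (x a))
      (fun x => by
        classical
        choose S hS using fun a => exists_sum_cmp 𝒜 (x a)
        refine ⟨Finset.univ.biUnion fun a => (S a).image (· + deg a), funext fun a => ?_⟩
        rw [Finset.sum_apply]
        refine Eq.trans ?_ (Finset.sum_subset
          (Finset.subset_biUnion_of_mem (fun a => (S a).image (· + deg a)) (Finset.mem_univ a)) fun g _ hg => ?_)
        · rw [Finset.sum_image fun a _ b _ h => add_right_cancel h]
          simp only [AddMonoidHom.mk'_apply, add_neg_cancel_right]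
          exact hS a
        · change cmp 𝒜 (g + -deg a) (x a) = 0
          rw [hS a, map_sum]
          refine Finset.sum_eq_zero fun h hh => cmp_of_mem_ne 𝒜 (cmp_mem 𝒜 h _) fun e => hg ?_
          exact Finset.mem_image.2 ⟨h, hh, by rw [e, neg_add_cancel_right]⟩))
    fun i g r hr x hx a _ => by
      have h : r * x a ∈ 𝒜 (i + (g + -deg a)) := SetLike.GradedMul.mul_mem hr (hx a trivial)
      rwa [← add_assoc] at h

variable {m : ℕ} (deg : Fin m → ι)

/-- coordinate -/
noncomputable def projG (a : Fin m) : (freeG 𝒜 deg).carrier →ₗ[R] (shift (gmod 𝒜 𝒜) (-deg a)).carrier :=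
  (LinearMap.proj a : (Fin m → R) →ₗ[R] R)

theorem isHom_projG (a : Fin m) : IsHom (projG (𝒜 := 𝒜) deg a) := fun _ _ hv => hv a trivial

/-- basis vector -/
noncomputable def singleG (a : Fin m) : (shift (gmod 𝒜 𝒜) (-deg a)).carrier →ₗ[R] (freeG 𝒜 deg).carrier :=
  (LinearMap.single R (fun _ : Fin m => R) a : R →ₗ[R] (Fin m → R))

theorem isHom_singleG (a : Fin m) : IsHom (singleG (𝒜 := 𝒜) deg a) := fun g (r : R) hr b _ => by
  change Pi.single (M := fun _ : Fin m => R) a r b ∈ 𝒜 (g + -deg b)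
  by_cases hb : b = a
  · subst hb; rw [Pi.single_eq_same]; exact hr
  · rw [Pi.single_eq_of_ne hb]; exact zero_mem _

theorem sum_singleG_projG : ∑ a, singleG (𝒜 := 𝒜) deg a ∘ₗ projG deg a = LinearMap.id := by
  refine LinearMap.ext fun v => ?_
  refine (LinearMap.sum_apply _ _ _).trans ?_
  exact Finset.univ_sum_single (show Fin m → R from v)

theorem projG_singleG (a : Fin m) : projG (𝒜 := 𝒜) deg a ∘ₗ singleG deg a = LinearMap.id :=
  LinearMap.ext fun (r : R) => Pi.single_eq_same (M := fun _ : Fin m => R) a r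

theorem van_freeG {l : List (HElt 𝒜)} {i : ℕ} {g : ι} (h : ∀ a, Van l (gmod 𝒜 𝒜) i (g + -deg a)) :
    Van l (freeG 𝒜 deg) i g :=
  van_of_sum_factor Finset.univ (fun a => shift (gmod 𝒜 𝒜) (-deg a)) (projG deg) (isHom_projG deg) (singleG deg)
    (isHom_singleG deg) (sum_singleG_projG deg) fun a _ => (van_shift _ _ _).2 (h a)

theorem exists_lift_hom {X Y Z : GMod.{u} 𝒜} (q : X.carrier →ₗ[R] Y.carrier) (hq : IsHom q)
    (hs : Function.Surjective q) (p : X.carrier →ₗ[R] Z.carrier) (hp : IsHom p)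
    (hker : LinearMap.ker q ≤ LinearMap.ker p) : ∃ r : Y.carrier →ₗ[R] Z.carrier, IsHom r ∧ r ∘ₗ q = p := by
  refine ⟨(LinearMap.ker q).liftQ p hker ∘ₗ (q.quotKerEquivOfSurjective hs).symm.toLinearMap, ?_, ?_⟩
  · intro g y hy
    obtain ⟨x, rfl⟩ := hs y
    rw [← cmp_of_mem _ hy, ← hq.cmp, LinearMap.comp_apply, LinearEquiv.coe_coe,
      show (q.quotKerEquivOfSurjective hs).symm (q (cmp X.gr g x)) = Submodule.Quotient.mk (cmp X.gr g x) from
        (LinearEquiv.symm_apply_eq _).2 rfl, Submodule.liftQ_apply]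
    exact hp g _ (cmp_mem _ g x)
  · refine LinearMap.ext fun x => ?_
    rw [LinearMap.comp_apply, LinearMap.comp_apply, LinearEquiv.coe_coe,
      show (q.quotKerEquivOfSurjective hs).symm (q x) = Submodule.Quotient.mk x from
        (LinearEquiv.symm_apply_eq _).2 rfl, Submodule.liftQ_apply]

end Free

section Res

variable {k : Type u} [Field k] {n : ℕ}
  {M : Type u} [AddCommGroup M] [Module (MvPolynomial (Fin n) k) M]
  {τ : Type u} [SetLike τ M] [AddSubgroupClass τ M] {ℳ : ℤ → τ} [Decomposition ℳ]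
  [SetLike.GradedSMul (GrSyz.stdGr k (Fin n)) ℳ] (F : GrSyz.FreeRes (GrSyz.stdGr k (Fin n)) ℳ)

local notation "S" => MvPolynomial (Fin n) k
local notation "𝒮" => GrSyz.stdGr k (Fin n)

/-- the terms -/
noncomputable abbrev term (i : ℕ) : GMod.{u} 𝒮 := freeG 𝒮 (F.deg i)

/-- the differential -/
noncomputable def dG (i : ℕ) : (term F (i + 1)).carrier →ₗ[S] (term F i).carrier := F.dLin i

theorem isHom_dG (i : ℕ) : IsHom (dG F i) := fun g (v : Fin (F.rk (i + 1)) → S) hv a _ => by
  change (∑ b, F.d i a b * v b) ∈ 𝒮 (g + -F.deg i a)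
  refine sum_mem fun b _ => ?_
  have := SetLike.GradedMul.mul_mem (F.d_mem i a b) (show v b ∈ 𝒮 (g + -F.deg (i + 1) b) from hv b trivial)
  rwa [show F.deg (i + 1) b - F.deg i a + (g + -F.deg (i + 1) b) = g + -F.deg i a by ring] at this

/-- the syzygy modules -/
noncomputable def W : ℕ → GMod.{u} 𝒮
  | 0 => gmod 𝒮 ℳ
  | i + 1 => sub (term F i) (LinearMap.range (dG F i)) (isHomogeneous_range (isHom_dG F i))

/-- the projections onto the syzygy modules -/
noncomputable def toW : ∀ i, (term F i).carrier →ₗ[S] (W F i).carrier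
  | 0 => (F.augLin : (Fin (F.rk 0) → S) →ₗ[S] M)
  | i + 1 => (dG F i).codRestrict (LinearMap.range (dG F i)) fun v => ⟨v, rfl⟩

theorem isHom_toW : ∀ i, IsHom (toW F i)
  | 0 => fun g (v : Fin (F.rk 0) → S) hv => by
    change Fintype.linearCombination S F.aug v ∈ ℳ g
    rw [Fintype.linearCombination_apply]
    refine sum_mem fun b _ => ?_
    have := smul_mem' ℳ (show v b ∈ 𝒮 (g + -F.deg 0 b) from hv b trivial) (F.aug_mem b)
    rwa [neg_add_cancel_right] at this
  | i + 1 => fun g v hv => isHom_dG F i g v hv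

theorem toW_surjective : ∀ i, Function.Surjective (toW F i)
  | 0 => F.aug_surjective
  | i + 1 => fun w => by
    obtain ⟨v, hv⟩ := w.2
    exact ⟨v, Subtype.ext hv⟩

theorem ker_toW : ∀ i, LinearMap.ker (toW F i) = LinearMap.range (dG F i)
  | 0 => F.exact_zero
  | i + 1 => (LinearMap.ker_codRestrict _ _ _).trans (F.exact_succ i)

/-- the inclusion of the syzygy module -/
noncomputable def incW (i : ℕ) : (W F (i + 1)).carrier →ₗ[S] (term F i).carrier :=
  (LinearMap.range (dG F i)).subtype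

theorem ses_W (i : ℕ) (l : List (HElt 𝒮)) :
    SES (cechMap (incW F i) (isHom_subtype (term F i) _ (isHomogeneous_range (isHom_dG F i))) l) (cechMap (toW F i) (isHom_toW F i) l) :=
  cechMap_ses _ _ (Submodule.subtype_injective _) (toW_surjective F i)
    (fun v => by
      rw [← LinearMap.mem_ker, ker_toW]
      exact ⟨fun h => ⟨(⟨v, h⟩ : LinearMap.range (dG F i)), rfl⟩, by rintro ⟨w, rfl⟩; exact w.2⟩) l

theorem van_term {i j : ℕ} {g : ℤ} (h : j = n → ∀ a, F.deg i a < g + n) : Van (varL k n) (term F i) j g :=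
  van_freeG _ fun a => van_S k n fun hj => by
    have := h hj a
    omega

theorem van_of_isGenLE {d : ℤ} (h : F.IsGenLE d) : ∀ (t i j : ℕ) (g : ℤ), n + 1 ≤ j + t → d + i < g + j →
    Van (varL k n) (W F i) j g
  | 0, i, j, g, ht, _ => van_of_length (by rw [length_varL]; omega)
  | t + 1, i, j, g, ht, hg => by
    refine (ses_W F i (varL k n)).vanish_right (van_term F fun hj a => ?_)
      (van_of_isGenLE h t (i + 1) (j + 1) g (by omega) (by push_cast; omega))
    have := h i a
    subst hj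
    omega

theorem isGenLE_of_van (hF : F.IsMinimal (GrSyz.irrel 𝒮).toIdeal) {d : ℤ}
    (h : ∀ (i : ℕ) (g : ℤ), d < g + i → Van (varL k n) (gmod 𝒮 ℳ) i g) : F.IsGenLE d := by
  classical
  have hcc : ∀ i a b, constantCoeff (F.d i a b) = 0 := fun i a b => GrothLib.GrSyz.mem_irrel.1 (hF i a b)
  have hlen : ∀ i, n < i → F.rk i = 0 := GrothLib.GrSyz.rk_eq_zero n F.rk F.d hcc F.exact_succ
  have hentry : ∀ i a b, F.deg (i + 1) b ≤ F.deg i a → F.d i a b = 0 := fun i a b hle => by
    rcases eq_or_lt_of_le hle with e | e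
    · have hm := F.d_mem i a b
      rw [e, sub_self] at hm
      rw [GrothLib.GrSyz.mem_zero_eq_C hm, hcc, map_zero]
    · exact GrothLib.GrSyz.eq_zero_of_mem_neg (sub_neg.2 e) (F.d_mem i a b)
  by_contra hne
  simp only [GrSyz.FreeRes.IsGenLE, not_forall, not_le] at hne
  obtain ⟨i₁, b₁, hb₁⟩ := hne
  have hi₁ : i₁ ≤ n := by
    by_contra hc
    have := hlen i₁ (by omega)
    exact absurd b₁.2 (by omega)
  let T : Finset (Σ i : Fin (n + 1), Fin (F.rk i)) := Finset.univ.filter fun p => d + (p.1 : ℕ) < F.deg p.1 p.2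
  obtain ⟨⟨⟨i, hi⟩, b⟩, hpT, hmax⟩ :=
    T.exists_max_image (fun p => (F.deg p.1 p.2 - (p.1 : ℕ)) * (n + 2) + (p.1 : ℕ))
      ⟨⟨⟨i₁, by omega⟩, b₁⟩, Finset.mem_filter.2 ⟨Finset.mem_univ _, hb₁⟩⟩
  have hb : d + i < F.deg i b := (Finset.mem_filter.1 hpT).2
  set g : ℤ := F.deg i b - n with hg
  have hpi : projG (F.deg i) b ∘ₗ dG F i = 0 := by
    refine LinearMap.ext fun (v : Fin (F.rk (i + 1)) → S) => ?_
    change (∑ c, F.d i b c * v c) = (0 : S)
    refine Finset.sum_eq_zero fun c _ => ?_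
    have hd : F.d i b c = 0 := hentry i b c (by
      by_contra hlt
      push_neg at hlt
      have hin : i + 1 ≤ n := by
        by_contra hc
        have := hlen (i + 1) (by omega)
        exact absurd c.2 (by omega)
      have := hmax ⟨⟨i + 1, by omega⟩, c⟩ (Finset.mem_filter.2 ⟨Finset.mem_univ _, by push_cast; omega⟩)
      simp only at this
      push_cast at this
      nlinarith [mul_le_mul_of_nonneg_right
        (show F.deg i b - (i : ℤ) ≤ F.deg (i + 1) c - ((i : ℤ) + 1) by omega) (show (0 : ℤ) ≤ (n : ℤ) + 2 by omega)])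
    simp [hd]
  obtain ⟨r, hr, hrq⟩ := exists_lift_hom (toW F i) (isHom_toW F i) (toW_surjective F i)
    (projG (F.deg i) b) (isHom_projG _ b) (by
      rw [ker_toW]
      rintro _ ⟨v, rfl⟩
      exact LinearMap.congr_fun hpi v)
  have hσ : IsHom (toW F i ∘ₗ singleG (F.deg i) b) := IsHom.comp (isHom_toW F i) (isHom_singleG _ b)
  have hret : r ∘ₗ (toW F i ∘ₗ singleG (F.deg i) b) = LinearMap.id := by
    rw [← LinearMap.comp_assoc, hrq, projG_singleG]
  have hS : ¬ Van (varL k n) (shift (gmod 𝒮 𝒮) (-F.deg i b)) n g := fun hv => by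
    rw [van_shift, show g + -F.deg i b = -(n : ℤ) by omega] at hv
    exact not_van_S k n hv
  have hdown : ∀ m j : ℕ, j + m + 1 ≤ n → ¬ Van (varL k n) (W F m) (j + m) g → ¬ Van (varL k n) (W F 0) j g := by
    intro m
    induction m with
    | zero => exact fun j _ h => h
    | succ m ih =>
      intro j hj hnv
      refine ih j (by omega) fun hv => hnv ?_
      exact (ses_W F m (varL k n)).vanish_left (n := j + m) hv (van_term F fun (e : j + m + 1 = n) => absurd e (by omega))
  rcases i with _ | i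
  · refine hS (van_retract _ hσ r hr hret ?_)
    exact h n g (by rw [hg]; omega)
  · obtain ⟨p, hp⟩ : ∃ p, n = p + 1 := ⟨n - 1, by omega⟩
    have h0 : Van (varL k n) (W F i) p g := by
      by_contra hc
      refine hdown i (p - i) (by omega) (by rwa [Nat.sub_add_cancel (by omega)]) (h (p - i) g ?_)
      rw [hg]; push_cast at hb ⊢; omega
    refine hS ?_
    have key : ∀ (z : ((cech (shift (gmod 𝒮 𝒮) (-F.deg (i + 1) b)) (varL k n)).X (p + 1)).carrier),
        z ∈ (cech (shift (gmod 𝒮 𝒮) (-F.deg (i + 1) b)) (varL k n)).cyc (p + 1) →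
        z ∈ ((cech (shift (gmod 𝒮 𝒮) (-F.deg (i + 1) b)) (varL k n)).X (p + 1)).gr g →
        (cechMap (toW F (i + 1) ∘ₗ singleG (F.deg (i + 1)) b) hσ (varL k n)).f (p + 1) z ∈
          (cech (W F (i + 1)) (varL k n)).bdy (p + 1) := by
      intro z hz hzg
      refine (ses_W F i (varL k n)).mem_bdy_of_map_mem h0 (Mor.hom _ _ g z hzg) ?_
      rw [cechMap_comp]
      have e : incW F i ∘ₗ (toW F (i + 1) ∘ₗ singleG (F.deg (i + 1)) b) =
          ∑ a, singleG (F.deg i) a ∘ₗ (projG (F.deg i) a ∘ₗ (dG F i ∘ₗ singleG (F.deg (i + 1)) b)) := by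
        refine LinearMap.ext fun x => ?_
        refine Eq.trans ?_ (LinearMap.sum_apply _ _ _).symm
        exact (Finset.univ_sum_single (show Fin (F.rk i) → S from (dG F i ∘ₗ singleG (F.deg (i + 1)) b) x)).symm
      have hh : ∀ a, IsHom (projG (F.deg i) a ∘ₗ (dG F i ∘ₗ singleG (F.deg (i + 1)) b)) := fun a =>
        IsHom.comp (isHom_projG _ a) (IsHom.comp (isHom_dG F i) (isHom_singleG _ b))
      rw [cechMap_congr _ _ _ (IsHom.sum _ fun a _ => IsHom.comp (isHom_singleG _ a) (hh a)) e,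
        cechMap_sum _ _ (fun a => IsHom.comp (isHom_singleG _ a) (hh a))]
      refine Submodule.sum_mem _ fun a _ => ?_
      rw [← cechMap_comp (projG (F.deg i) a ∘ₗ (dG F i ∘ₗ singleG (F.deg (i + 1)) b)) (hh a) (singleG (F.deg i) a)
        (isHom_singleG _ a)]
      refine Mor.map_bdy_le _ _ ⟨_, ?_, rfl⟩
      by_cases hle : F.deg (i + 1) b ≤ F.deg i a
      · have h0' : projG (F.deg i) a ∘ₗ (dG F i ∘ₗ singleG (F.deg (i + 1)) b) = 0 := by
          refine LinearMap.ext fun (x : S) => ?_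
          change Matrix.mulVec (F.d i) (Pi.single b x) a = (0 : S)
          simp [Matrix.mulVec_single, hentry i a b hle]
        rw [cechMap_congr _ _ (hh a) IsHom.zero h0', cechMap_zero]
        exact zero_mem _
      · refine ((van_shift (X := gmod 𝒮 𝒮) (-F.deg i a) (p + 1) g).2 (van_S k n fun _ => ?_)) _
          (Mor.map_cyc_le _ _ ⟨z, hz, rfl⟩) (Mor.hom _ _ g z hzg)
        omega
    intro z hz hzg
    subst hp
    have h1 := Mor.map_bdy_le (cechMap r hr (varL k (p + 1))) _ ⟨_, key z hz hzg, rfl⟩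
    rw [cechMap_comp, cechMap_congr _ _ _ IsHom.id hret, cechMap_id] at h1
    exact h1

theorem isGenLE_iff_van (hF : F.IsMinimal (GrSyz.irrel 𝒮).toIdeal) (d : ℤ) :
    F.IsGenLE d ↔ ∀ (i : ℕ) (g : ℤ), d < g + i → Van (varL k n) (gmod 𝒮 ℳ) i g :=
  ⟨fun h i g hg => van_of_isGenLE F h (n + 1) 0 i g (Nat.le_add_left _ _) (by simpa using hg),
    isGenLE_of_van F hF⟩

end Res

end GrothLib.GrLC
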