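import Groth.Agent.Lib.GrLC.Reg
import Groth.Agent.Lib.GrSyz.Gens

/-!
# Regularity in terms of `Hgr`, `Hcomp`
-/

universe u

open DirectSum

namespace GrothLib.GrLC

open _root_.GrLC (GMod IsGrHom StarInjRes endDeg)

section General

variable {R : Type u} [CommRing R] [IsNoetherianRing R] {σ : Type u} [SetLike σ R] [AddSubgroupClass σ R] {𝒜 : ℤ → σ}
  [GradedRing 𝒜] {M : Type u} [AddCommGroup M] [Module R M] {τ : Type u} [SetLike τ M] [AddSubgroupClass τ M]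
  {ℳ : ℤ → τ} [Decomposition ℳ] [SetLike.GradedSMul 𝒜 ℳ] (E : StarInjRes 𝒜 ℳ) {a : HomogeneousIdeal 𝒜}
  {l : List (HElt 𝒜)} (hl : (hspan l).toIdeal = a.toIdeal)

include hl

theorem endDeg_add_le_iff_van (i : ℕ) (d : ℤ) :
    endDeg (E.Hgr a i) + (((i : ℤ) : WithTop ℤ) : WithBot (WithTop ℤ)) ≤ ((d : WithTop ℤ) : WithBot (WithTop ℤ)) ↔
      ∀ g, d < g + i → Van l (gmod 𝒜 ℳ) i g := by
  rw [endDeg_add_le_iff]
  exact forall_congr' fun g => imp_congr (sub_lt_iff_lt_add) (Hgr_eq_bot_iff_van E hl i g)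

theorem endDeg_zero_le_iff_van (d : ℤ) :
    endDeg (E.Hgr a 0) ≤ ((d : WithTop ℤ) : WithBot (WithTop ℤ)) ↔ ∀ g, d < g → Van l (gmod 𝒜 ℳ) 0 g := by
  rw [endDeg_le_iff]
  exact forall_congr' fun g => imp_congr_right fun _ => Hgr_eq_bot_iff_van E hl 0 g

theorem weak_iff_van (d : ℤ) :
    (endDeg (E.Hgr a 0) ≤ ((d : WithTop ℤ) : WithBot (WithTop ℤ)) ∧
        ∀ i : ℕ, 0 < i → E.Hcomp a i (d - (i : ℤ) + 1) = ⊥) ↔
      (∀ g, d < g → Van l (gmod 𝒜 ℳ) 0 g) ∧ ∀ i : ℕ, 0 < i → Van l (gmod 𝒜 ℳ) i (d - i + 1) :=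
  and_congr (endDeg_zero_le_iff_van E hl d)
    (forall_congr' fun i => imp_congr_right fun _ => Hcomp_eq_bot_iff_van E hl i _)

theorem iSup_endDeg_le_iff (d : ℤ) :
    (⨆ i : ℕ, endDeg (E.Hgr a i) + (((i : ℤ) : WithTop ℤ) : WithBot (WithTop ℤ))) ≤
        ((d : WithTop ℤ) : WithBot (WithTop ℤ)) ↔ ∀ (i : ℕ) (g : ℤ), d < g + i → Van l (gmod 𝒜 ℳ) i g := by
  rw [iSup_le_iff]
  exact forall_congr' fun i => endDeg_add_le_iff_van E hl i d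

end General

section Poly

variable {k : Type u} [Field k] {n : ℕ} {M : Type u} [AddCommGroup M] [Module k M]
  [Module (MvPolynomial (Fin n) k) M] [Module.Finite (MvPolynomial (Fin n) k) M]
  (ℳ : ℤ → Submodule k M) [Decomposition ℳ] [SetLike.GradedSMul (GrSyz.stdGr k (Fin n)) ℳ]

theorem isRegLE_iff_van (d : ℤ) :
    GrSyz.IsRegLE (GrSyz.stdGr k (Fin n)) ℳ (GrSyz.irrel (GrSyz.stdGr k (Fin n))).toIdeal d ↔
      ∀ (i : ℕ) (g : ℤ), d < g + i → Van (varL k n) (gmod (GrSyz.stdGr k (Fin n)) ℳ) i g := by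
  refine ⟨fun ⟨F, hF, hd⟩ => (isGenLE_iff_van F hF d).1 hd, fun h => ?_⟩
  obtain ⟨F, hF⟩ := GrothLib.GrSyz.exists_freeRes_minimal (n := n) ℳ
  exact ⟨F, hF, (isGenLE_iff_van F hF d).2 h⟩

theorem reg_le_iff_van (d : ℤ) :
    GrSyz.reg (GrSyz.stdGr k (Fin n)) ℳ (GrSyz.irrel (GrSyz.stdGr k (Fin n))).toIdeal ≤
        ((d : WithTop ℤ) : WithBot (WithTop ℤ)) ↔
      ∀ (i : ℕ) (g : ℤ), d < g + i → Van (varL k n) (gmod (GrSyz.stdGr k (Fin n)) ℳ) i g := by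
  constructor
  · intro h i g hg
    by_contra hv
    have hlb : (((d + 1 : ℤ) : WithTop ℤ) : WithBot (WithTop ℤ)) ≤
        GrSyz.reg (GrSyz.stdGr k (Fin n)) ℳ (GrSyz.irrel (GrSyz.stdGr k (Fin n))).toIdeal := by
      refine le_iInf₂ fun r hr => ?_
      rw [WithBot.coe_le_coe, WithTop.coe_le_coe]
      by_contra hlt
      exact hv ((isRegLE_iff_van ℳ r).1 hr i g (by omega))
    have h' := hlb.trans h
    rw [WithBot.coe_le_coe, WithTop.coe_le_coe] at h'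
    omega
  · exact fun h => iInf₂_le d ((isRegLE_iff_van ℳ d).2 h)

theorem reg_eq (E : StarInjRes (GrSyz.stdGr k (Fin n)) ℳ) :
    GrSyz.reg (GrSyz.stdGr k (Fin n)) ℳ (GrSyz.irrel (GrSyz.stdGr k (Fin n))).toIdeal =
      ⨆ i : ℕ, endDeg (E.Hgr (GrSyz.irrel (GrSyz.stdGr k (Fin n))) i) + (((i : ℤ) : WithTop ℤ) : WithBot (WithTop ℤ)) :=
  eq_of_forall_le_int fun d =>
    (reg_le_iff_van ℳ d).trans (iSup_endDeg_le_iff E (hspan_varL k n) d).symm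

end Poly

end GrothLib.GrLC
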