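import Groth.Agent.Lib.GrLC.Step
import Groth.Agent.Lib.GrLC.Pos

/-!
# Regularity and hyperplane sections, finite length modules
-/

universe u

open DirectSum

namespace GrothLib.GrLC

open _root_.GrLC (GMod IsGrHom StarInjRes endDeg)

variable {k : Type u} [Field k] {n : ℕ}


theorem stdGr_neg : ∀ g : ℤ, g < 0 → ∀ r ∈ (GrSyz.stdGr k (Fin n)) g, r = 0 := fun _ hg _ hr =>
  GrothLib.GrSyz.eq_zero_of_mem_neg hg hr

/-- a linear form as a homogeneous element -/
noncomputable def linE (x : MvPolynomial (Fin n) k) (hx : x ∈ GrSyz.stdGr k (Fin n) 1) :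
    HElt (GrSyz.stdGr k (Fin n)) := ⟨x, 1, hx⟩

theorem hspan_linE_cons (x : MvPolynomial (Fin n) k) (hx : x ∈ GrSyz.stdGr k (Fin n) 1) :
    (hspan (linE x hx :: varL k n)).toIdeal = (GrSyz.irrel (GrSyz.stdGr k (Fin n))).toIdeal := by
  rw [hspan_cons_eq, hspan_varL]
  rw [hspan_varL]
  exact Ideal.subset_span ⟨1, one_pos, hx⟩

theorem deg_linE_cons (x : MvPolynomial (Fin n) k) (hx : x ∈ GrSyz.stdGr k (Fin n) 1) :
    ∀ y ∈ linE x hx :: varL k n, y.deg = 1 := fun y hy => by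
  rcases List.mem_cons.1 hy with rfl | hy
  · rfl
  · exact deg_varL k n y hy

theorem hpow_torsion {X : GMod.{u} (GrSyz.stdGr k (Fin n))} [Module.Finite (MvPolynomial (Fin n) k) X.carrier]
    (h : IsFiniteLength (MvPolynomial (Fin n) k) X.carrier) {l : List (HElt (GrSyz.stdGr k (Fin n)))} (he : ∀ y ∈ l, y.deg = 1) :
    ∀ y ∈ l, ∀ m : X.carrier, ∃ e : ℕ, y.val ^ e • m = 0 := fun y hy m => by
  have := (isFiniteLength_iff_isNoetherian_isArtinian.1 h).2
  exact torsion_of_isArtinian X (exists_lower_bound stdGr_neg X) y (by rw [he y hy]; exact one_pos) m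

theorem strong_iff_of_torsion {X : GMod.{u} (GrSyz.stdGr k (Fin n))} {l : List (HElt (GrSyz.stdGr k (Fin n)))}
    (ht : ∀ y ∈ l, ∀ m : X.carrier, ∃ e : ℕ, y.val ^ e • m = 0) (d : ℤ) :
    (∀ (i : ℕ) (g : ℤ), d < g + i → Van l X i g) ↔ ∀ g, d < g → X.gr g = ⊥ := by
  refine ⟨fun h g hg => (van_zero_iff_of_torsion ht g).1 (h 0 g (by simpa using hg)), fun h i g hg => ?_⟩
  rcases i with _ | i
  · exact (van_zero_iff_of_torsion ht g).2 (h g (by simpa using hg))
  · exact van_torsion ht (Nat.succ_pos i)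

section Cut

variable {X N : GMod.{u} (GrSyz.stdGr k (Fin n))} [Module.Finite (MvPolynomial (Fin n) k) X.carrier] {x : HElt (GrSyz.stdGr k (Fin n))} (hx1 : x.deg = 1)
  (p : X.carrier →ₗ[MvPolynomial (Fin n) k] N.carrier)
  (hp : IsHom p) (hs : Function.Surjective p) (hexact : Function.Exact (mulShift X x) p)
  (hq : IsFiniteLength (MvPolynomial (Fin n) k) ↥(Submodule.torsionBy (MvPolynomial (Fin n) k) X.carrier x.val))
  {l : List (HElt (GrSyz.stdGr k (Fin n)))} (hxl : x ∈ l) (he : ∀ y ∈ l, y.deg = 1)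

include hx1 hq he in
theorem almost_regular : ∀ y ∈ l, ∀ m : X.carrier, x.val • m = 0 → ∃ e : ℕ, y.val ^ e • m = 0 := by
  intro y hy m hm
  let T : GMod.{u} (GrSyz.stdGr k (Fin n)) := sub (shift X (-x.deg)) (LinearMap.ker (mulShift X x)) (isHomogeneous_ker (isHom_mulShift X x))
  have hA : IsArtinian (MvPolynomial (Fin n) k) T.carrier :=
    ((isFiniteLength_iff_isNoetherian_isArtinian.1 hq).2 :
      IsArtinian (MvPolynomial (Fin n) k) ↥(Submodule.torsionBy (MvPolynomial (Fin n) k) X.carrier x.val))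
  obtain ⟨b, hb⟩ := exists_lower_bound stdGr_neg X
  obtain ⟨e, he'⟩ := torsion_of_isArtinian T ⟨b + 1, fun g hg v hv =>
    Subtype.ext (hb (g + -x.deg) (by omega) _ hv)⟩ y (by rw [he y hy]; exact one_pos)
    (⟨m, hm⟩ : LinearMap.ker (mulShift X x))
  exact ⟨e, congrArg Subtype.val he'⟩

include hx1 hp hs hexact hq he in
theorem weak_cut {d : ℤ} (h : ∀ i : ℕ, 0 < i → Van l X i (d - i + 1)) (i : ℕ) (hi : 0 < i) :
    Van l N i (d - i + 1) := by
  refine van_cut p hp hs hexact (almost_regular hx1 hq he) (h i hi) ?_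
  rw [hx1]
  have := h (i + 1) (Nat.succ_pos i)
  rwa [show d - ((i + 1 : ℕ) : ℤ) + 1 = d - i + 1 + -1 by push_cast; ring] at this

include hx1 hp hs hexact hq hxl he in
theorem strong_cut_iff (d : ℤ) :
    (∀ (i : ℕ) (g : ℤ), d < g + i → Van l X i g) ↔
      (∀ (i : ℕ) (g : ℤ), d < g + i → Van l N i g) ∧ ∀ g, d < g → Van l X 0 g := by
  refine ⟨fun h => ⟨fun i g hg => van_cut p hp hs hexact (almost_regular hx1 hq he) (h i g hg) (h (i + 1) _ ?_),
    fun g hg => h 0 g (by simpa using hg)⟩, ?_⟩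
  · rw [hx1]; push_cast; omega
  · rintro ⟨hN, h0⟩ i g hg
    rcases i with _ | i
    · exact h0 g (by simpa using hg)
    · refine van_uncut hxl p hp hs hexact (almost_regular hx1 hq he) fun e => hN i _ ?_
      rw [hx1, nsmul_eq_mul, mul_one]
      push_cast at hg ⊢
      omega

end Cut

end GrothLib.GrLC
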