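import Groth.Agent.Lib.GrLC.RegCut
import Mathlib.RingTheory.QuotSMulTop

/-!
# Regularity is unchanged by linear regular sequences
-/

universe u

open DirectSum RingTheory.Sequence

open scoped Pointwise

namespace GrothLib.GrLC

open _root_.GrLC (GMod IsGrHom)

variable {k : Type u} [Field k] {n : ℕ}

theorem strong_regSeq_iff : ∀ (ys : List (MvPolynomial (Fin n) k)), (∀ y ∈ ys, y ∈ GrSyz.stdGr k (Fin n) 1) →
    ∀ (X : GMod.{u} (GrSyz.stdGr k (Fin n))), Module.Finite (MvPolynomial (Fin n) k) X.carrier →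
    ∀ (N : GMod.{u} (GrSyz.stdGr k (Fin n))) (π : X.carrier →ₗ[MvPolynomial (Fin n) k] N.carrier), IsHom π →
      Function.Surjective π → IsWeaklyRegular X.carrier ys →
      LinearMap.ker π = Ideal.ofList ys • (⊤ : Submodule (MvPolynomial (Fin n) k) X.carrier) → ∀ d : ℤ,
      (∀ (i : ℕ) (g : ℤ), d < g + i → Van (varL k n) X i g) ↔
        (∀ (i : ℕ) (g : ℤ), d < g + i → Van (varL k n) N i g) := by
  intro ys
  induction ys with
  | nil =>
    intro _ X _ N π hπ hs _ hker d
    rw [Ideal.ofList_nil, Submodule.bot_smul] at hker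
    exact forall_congr' fun i => forall_congr' fun g => imp_congr_right fun _ =>
      van_congr_hom π hπ ⟨LinearMap.ker_eq_bot.1 hker, hs⟩ i g
  | cons y ys ih =>
    intro hys X hX N π hπ hs hreg hker d
    obtain ⟨hy, hreg'⟩ := (isWeaklyRegular_cons_iff X.carrier y ys).1 hreg
    let x := linE y (hys y (List.mem_cons_self ..))
    let X' : GMod.{u} (GrSyz.stdGr k (Fin n)) :=
      quot X (LinearMap.range (mulShift X x)) (isHomogeneous_range (isHom_mulShift X x))
    let q : X.carrier →ₗ[MvPolynomial (Fin n) k] X'.carrier := Submodule.mkQ _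
    have hq : IsHom q := isHom_mkQ X _ (isHomogeneous_range (isHom_mulShift X x))
    have hX' : Module.Finite (MvPolynomial (Fin n) k) X'.carrier :=
      Module.Finite.of_surjective q (Submodule.mkQ_surjective _)
    have hle : LinearMap.range (mulShift X x) ≤ LinearMap.ker π := by
      rintro _ ⟨m, rfl⟩
      rw [hker]
      exact Submodule.smul_mem_smul (Ideal.subset_span (List.mem_cons_self ..)) Submodule.mem_top
    let π' : X'.carrier →ₗ[MvPolynomial (Fin n) k] N.carrier := Submodule.liftQ _ π hle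
    have hπ' : IsHom π' := by
      rintro g _ ⟨m, hm, rfl⟩
      exact hπ g m hm
    have hs' : Function.Surjective π' := fun v => by
      obtain ⟨m, rfl⟩ := hs v
      exact ⟨q m, rfl⟩
    have hker' : LinearMap.ker π' = Ideal.ofList ys • (⊤ : Submodule (MvPolynomial (Fin n) k) X'.carrier) := by
      refine le_antisymm ?_ (Submodule.smul_le.2 fun r hr v _ => ?_)
      · intro v hv
        obtain ⟨m, rfl⟩ := Submodule.mkQ_surjective _ v
        have hm : m ∈ Ideal.ofList (y :: ys) • (⊤ : Submodule (MvPolynomial (Fin n) k) X.carrier) := by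
          rw [← hker]; exact hv
        rw [Ideal.ofList_cons_smul, Submodule.mem_sup] at hm
        obtain ⟨a, ha, b, hb, rfl⟩ := hm
        obtain ⟨a, -, rfl⟩ := ha
        change q (y • a + b) ∈ _
        rw [map_add, show q (y • a) = 0 from (Submodule.Quotient.mk_eq_zero _).2 ⟨a, rfl⟩, zero_add]
        have h2 := Submodule.mem_map_of_mem (f := q) hb
        rw [Submodule.map_smul''] at h2
        exact Submodule.smul_mono le_rfl le_top h2
      · obtain ⟨m, rfl⟩ := Submodule.mkQ_surjective _ v
        have h0 : r • m ∈ LinearMap.ker π := by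
          rw [hker]
          refine Submodule.smul_mem_smul ?_ Submodule.mem_top
          rw [Ideal.ofList_cons]; exact Submodule.mem_sup_right hr
        rw [LinearMap.mem_ker, map_smul]
        exact (map_smul π r m).symm.trans h0
    have hreg'' : IsWeaklyRegular X'.carrier ys := by
      have e : y • (⊤ : Submodule (MvPolynomial (Fin n) k) X.carrier) = LinearMap.range (mulShift X x) := by
        ext m
        constructor
        · rintro ⟨a, -, rfl⟩; exact ⟨a, rfl⟩
        · rintro ⟨a, rfl⟩; exact ⟨a, trivial, rfl⟩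
      exact ((Submodule.quotEquivOfEq _ _ e).isWeaklyRegular_congr ys).1 hreg'
    have hL := hspan_linE_cons y (hys y (List.mem_cons_self ..))
    have he := deg_linE_cons y (hys y (List.mem_cons_self ..))
    have hvan : ∀ (Z : GMod.{u} (GrSyz.stdGr k (Fin n))) (i : ℕ) (g : ℤ),
        Van (varL k n) Z i g ↔ Van (x :: varL k n) Z i g := fun Z i g =>
      van_congr_list ((hspan_varL k n).trans hL.symm) Z i g
    have hsub : Subsingleton ↥(Submodule.torsionBy (MvPolynomial (Fin n) k) X.carrier x.val) :=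
      ⟨fun a b => Subtype.ext (hy (a.2.trans b.2.symm))⟩
    have hcut := strong_cut_iff (X := X) (N := X') (x := x) rfl q hq (Submodule.mkQ_surjective _)
      (fun v => (Submodule.Quotient.mk_eq_zero _).trans ⟨fun h => h, fun h => h⟩) IsFiniteLength.of_subsingleton
      (l := x :: varL k n) (List.mem_cons_self ..) he d
    have h0 : ∀ g, d < g → Van (x :: varL k n) X 0 g := fun g _ =>
      van_zero_of_regular (X := X) (x := x) (List.mem_cons_self ..) hy g
    refine Iff.trans ?_ (ih (fun z hz => hys z (List.mem_cons_of_mem _ hz)) X' hX' N π' hπ' hs' hreg'' hker' d)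
    simp only [hvan]
    exact hcut.trans (and_iff_left h0)

theorem reg_eq_endDeg_of_regSeq {M : Type u} [AddCommGroup M] [Module k M] [Module (MvPolynomial (Fin n) k) M]
    [Module.Finite (MvPolynomial (Fin n) k) M] (ℳ : ℤ → Submodule k M) [Decomposition ℳ]
    [SetLike.GradedSMul (GrSyz.stdGr k (Fin n)) ℳ] (ys : List (MvPolynomial (Fin n) k))
    (hys : ∀ y ∈ ys, y ∈ GrSyz.stdGr k (Fin n) 1) (hreg : IsWeaklyRegular M ys) {N : Type u} [AddCommGroup N]
    [Module k N] [Module (MvPolynomial (Fin n) k) N] (𝒩 : ℤ → Submodule k N) [Decomposition 𝒩]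
    [SetLike.GradedSMul (GrSyz.stdGr k (Fin n)) 𝒩] (π : M →ₗ[MvPolynomial (Fin n) k] N) (hπ : Function.Surjective π)
    (hπg : IsGrHom ℳ 𝒩 π)
    (hker : LinearMap.ker π = Ideal.ofList ys • (⊤ : Submodule (MvPolynomial (Fin n) k) M))
    (hN : IsFiniteLength (MvPolynomial (Fin n) k) N) :
    GrSyz.reg (GrSyz.stdGr k (Fin n)) ℳ (GrSyz.irrel (GrSyz.stdGr k (Fin n))).toIdeal =
      _root_.GrLC.endDeg (fun g => (𝒩 g).toAddSubgroup) := by
  have hfin : Module.Finite (MvPolynomial (Fin n) k) (gmod (GrSyz.stdGr k (Fin n)) ℳ).carrier :=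
    ‹Module.Finite (MvPolynomial (Fin n) k) M›
  have hNfin : Module.Finite (MvPolynomial (Fin n) k) (gmod (GrSyz.stdGr k (Fin n)) 𝒩).carrier :=
    (Module.Finite.of_surjective π hπ : Module.Finite (MvPolynomial (Fin n) k) N)
  refine eq_of_forall_le_int fun d => ?_
  rw [reg_le_iff_van, endDeg_le_iff,
    strong_regSeq_iff ys hys (gmod (GrSyz.stdGr k (Fin n)) ℳ) hfin (gmod (GrSyz.stdGr k (Fin n)) 𝒩) π hπg hπ hreg
      hker d,
    strong_iff_of_torsion (hpow_torsion (X := gmod (GrSyz.stdGr k (Fin n)) 𝒩) hN (deg_varL k n)) d]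
  exact Iff.rfl

end GrothLib.GrLC
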