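import Groth.Agent.Lib.GrLC.PiecesFin
import Groth.Agent.Lib.GrLC.Radical
import Groth.Agent.Lib.GrLC.High
import Mathlib.RingTheory.Length
import Mathlib.RingTheory.HopkinsLevitzki
import Mathlib.Algebra.Group.ForwardDiff

/-!
# The Euler characteristic of graded local cohomology and the Hilbert function
-/

set_option autoImplicit false
universe u

open DirectSum fwdDiff

noncomputable section

namespace GrothLib.GrLC

open _root_.GrLC (GMod StarInjRes gam deg0 comp)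

/-! ## Length -/

section Len

variable {S : Type u} [CommRing S]

/-- The length as a rational number. -/
def qlen (S : Type u) [CommRing S] (A : Type u) [AddCommGroup A] [Module S A] : ℚ := ((Module.length S A).toNat : ℚ)

theorem qlen_add {A B C : Type u} [AddCommGroup A] [Module S A] [AddCommGroup B] [Module S B] [AddCommGroup C]
    [Module S C] [IsNoetherian S A] [IsArtinian S A] [IsNoetherian S C] [IsArtinian S C] (f : A →ₗ[S] B) (g : B →ₗ[S] C) (hf : Function.Injective f)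
    (hg : Function.Surjective g) (h : LinearMap.range f = LinearMap.ker g) : qlen S B = qlen S A + qlen S C := by
  have e := Module.length_eq_add_of_exact f g hf hg (LinearMap.exact_iff.2 h.symm)
  rw [qlen, qlen, qlen, e, ENat.toNat_add Module.length_ne_top Module.length_ne_top, Nat.cast_add]

theorem qlen_congr {A B : Type u} [AddCommGroup A] [Module S A] [AddCommGroup B] [Module S B] (e : A ≃ₗ[S] B) :
    qlen S A = qlen S B := by rw [qlen, qlen, e.length_eq]

theorem qlen_eq_zero {A : Type u} [AddCommGroup A] [Module S A] (h : Subsingleton A) : qlen S A = 0 := by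
  rw [qlen, Module.length_eq_zero, ENat.toNat_zero, Nat.cast_zero]

theorem qlen_eq_ker_add_range {A B : Type u} [AddCommGroup A] [Module S A] [AddCommGroup B] [Module S B]
    [IsNoetherian S A] [IsArtinian S A] (f : A →ₗ[S] B) :
    qlen S A = qlen S (LinearMap.ker f) + qlen S (LinearMap.range f) :=
  qlen_add (LinearMap.ker f).subtype f.rangeRestrict (Submodule.injective_subtype _) f.surjective_rangeRestrict
    (by rw [Submodule.range_subtype, LinearMap.ker_rangeRestrict])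

/-- Alternating sums are additive in long exact sequences. -/
theorem alt_sum_eq (A B C : ℕ → Type u) [∀ n, AddCommGroup (A n)] [∀ n, Module S (A n)] [∀ n, AddCommGroup (B n)]
    [∀ n, Module S (B n)] [∀ n, AddCommGroup (C n)] [∀ n, Module S (C n)] [∀ n, IsNoetherian S (A n)] [∀ n, IsArtinian S (A n)]
    [∀ n, IsNoetherian S (B n)] [∀ n, IsArtinian S (B n)] [∀ n, IsNoetherian S (C n)] [∀ n, IsArtinian S (C n)] (φ : ∀ n, A n →ₗ[S] B n) (ψ : ∀ n, B n →ₗ[S] C n)
    (δ : ∀ n, C n →ₗ[S] A (n + 1)) (h0 : Function.Injective (φ 0))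
    (h1 : ∀ n, LinearMap.range (φ n) = LinearMap.ker (ψ n)) (h2 : ∀ n, LinearMap.range (ψ n) = LinearMap.ker (δ n))
    (h3 : ∀ n, LinearMap.range (δ n) = LinearMap.ker (φ (n + 1))) (L : ℕ) (hL : Subsingleton (A L)) :
    ∑ n ∈ Finset.range L, (-1 : ℚ) ^ n * qlen S (B n) =
      (∑ n ∈ Finset.range L, (-1 : ℚ) ^ n * qlen S (A n)) + ∑ n ∈ Finset.range L, (-1 : ℚ) ^ n * qlen S (C n) := by
  have key : ∀ M : ℕ, (∑ n ∈ Finset.range M, (-1 : ℚ) ^ n * qlen S (A n)) +
      (∑ n ∈ Finset.range M, (-1 : ℚ) ^ n * qlen S (C n)) - ∑ n ∈ Finset.range M, (-1 : ℚ) ^ n * qlen S (B n) =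
        qlen S (LinearMap.ker (φ 0)) - (-1 : ℚ) ^ M * qlen S (LinearMap.ker (φ M)) := by
    intro M
    induction M with
    | zero => simp
    | succ M ih =>
      rw [Finset.sum_range_succ, Finset.sum_range_succ, Finset.sum_range_succ, qlen_eq_ker_add_range (φ M),
        qlen_eq_ker_add_range (ψ M), qlen_eq_ker_add_range (δ M), ← qlen_congr (LinearEquiv.ofEq _ _ (h1 M)),
        ← qlen_congr (LinearEquiv.ofEq _ _ (h2 M)), qlen_congr (LinearEquiv.ofEq _ _ (h3 M)), pow_succ]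
      linear_combination ih
  have h := key L
  rw [qlen_eq_zero (A := LinearMap.ker (φ 0))
      ⟨fun a b => Subtype.ext (h0 (((LinearMap.mem_ker.1 a.2).trans (LinearMap.mem_ker.1 b.2).symm)))⟩,
    qlen_eq_zero (A := LinearMap.ker (φ L)) inferInstance, mul_zero, sub_zero, sub_eq_zero] at h
  exact h.symm

end Len

variable {R : Type u} [CommRing R] {σ : Type u} [SetLike σ R] [AddSubgroupClass σ R] {𝒜 : ℤ → σ} [GradedRing 𝒜]

theorem cech_eq_zero_of_length_lt (X : GMod.{u} 𝒜) : ∀ (l : List (HElt 𝒜)) (n : ℕ), l.length < n →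
    ∀ z : ((cech X l).X n).carrier, z = 0
  | [], n + 1, _, z => singleX_succ_eq_zero X n z
  | x :: l, n + 1, h, z => by
    refine Prod.ext (cech_eq_zero_of_length_lt X l (n + 1) (Nat.lt_of_succ_lt h) z.1) ?_
    obtain ⟨k, a, ha⟩ := exists_fr x z.2
    rw [← ha, cech_eq_zero_of_length_lt X l n (Nat.lt_of_succ_lt_succ h) a]
    exact fr_zero x k

theorem subsingleton_HP_of_length_lt (X : GMod.{u} 𝒜) (l : List (HElt 𝒜)) {n : ℕ} (h : l.length < n) (g : ℤ) :
    Subsingleton (HP (cech X l) n g) :=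
  subsingleton_HP _ fun z _ _ => by rw [cech_eq_zero_of_length_lt X l n h z]; exact zero_mem _

/-- The connecting map between pieces, with exactness at both its ends. -/
theorem exists_delta {A B C : GCx.{u} 𝒜} {φ : Mor A B} {ψ : Mor B C} (S : SES φ ψ) (n : ℕ) (g : ℤ) :
    ∃ δ : HP C n g →ₗ[deg0 𝒜] HP A (n + 1) g,
      LinearMap.range (ψ.HPmap n g) = LinearMap.ker δ ∧ LinearMap.range δ = LinearMap.ker (φ.HPmap (n + 1) g) := by
  let G : Submodule (deg0 𝒜) ((B.X n).carrier × (A.X (n + 1)).carrier) :=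
    ((comp 𝒜 (B.X n).gr g).prod (comp 𝒜 (A.X (n + 1)).gr g)) ⊓
      LinearMap.ker (((φ.f (n + 1)).restrictScalars (deg0 𝒜)) ∘ₗ LinearMap.snd (deg0 𝒜) _ _ -
        ((B.d n).restrictScalars (deg0 𝒜)) ∘ₗ LinearMap.fst (deg0 𝒜) _ _)
  have hG : ∀ x : G, φ.f (n + 1) x.1.2 = B.d n x.1.1 := fun x => sub_eq_zero.1 (LinearMap.mem_ker.1 x.2.2)
  let p₁ : G →ₗ[deg0 𝒜] HP C n g := Submodule.mkQ _ ∘ₗ
    (((ψ.f n).restrictScalars (deg0 𝒜)) ∘ₗ LinearMap.fst (deg0 𝒜) _ _ ∘ₗ G.subtype).codRestrict (ZP C n g) (fun x =>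
      ⟨ψ.hom n g _ x.2.1.1, LinearMap.mem_ker.2 (by
        change C.d n (ψ.f n x.1.1) = 0
        rw [ψ.comm, ← hG x, S.psi_phi])⟩)
  let p₂ : G →ₗ[deg0 𝒜] HP A (n + 1) g := Submodule.mkQ _ ∘ₗ
    (LinearMap.snd (deg0 𝒜) _ _ ∘ₗ G.subtype).codRestrict (ZP A (n + 1) g) (fun x => ⟨x.2.1.2, LinearMap.mem_ker.2 (by
      change A.d (n + 1) x.1.2 = 0
      apply S.inj (n + 1 + 1)
      rw [map_zero, ← φ.comm, hG x, B.d_d])⟩)
  have hp₁ : Function.Surjective p₁ := by
    intro q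
    obtain ⟨⟨z, hzg, hzc⟩, rfl⟩ := Submodule.Quotient.mk_surjective _ q
    obtain ⟨b, hb, rfl⟩ := S.exists_lift n hzg
    obtain ⟨w, hw, e⟩ := S.exists_pre (n + 1) (B.d_hom n g b hb) (by rw [← ψ.comm]; exact hzc)
    exact ⟨⟨(b, w), ⟨hb, hw⟩, sub_eq_zero.2 e⟩, rfl⟩
  have hker : LinearMap.ker p₁ ≤ LinearMap.ker p₂ := by
    rintro ⟨⟨b, w⟩, ⟨hb, hw⟩, hbw⟩ hx
    have hbw' : φ.f (n + 1) w = B.d n b := sub_eq_zero.1 hbw
    obtain ⟨b₀, hb₀, e₀⟩ := S.bdy_le_map n ((HP_mk_eq_zero C _).1 hx)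
    obtain ⟨a, ha⟩ := (S.exact n (b - b₀)).1 (by rw [map_sub, e₀, sub_eq_zero]; rfl)
    refine (HP_mk_eq_zero A _).2 ⟨a, S.inj (n + 1) ?_⟩
    change φ.f (n + 1) (A.d n a) = φ.f (n + 1) w
    rw [← φ.comm, ha, map_sub, show B.d n b₀ = 0 from B.bdy_le_cyc n hb₀, sub_zero, hbw']
  refine ⟨(LinearMap.ker p₁).liftQ p₂ hker ∘ₗ (p₁.quotKerEquivOfSurjective hp₁).symm.toLinearMap, ?_, ?_⟩
  swap
  · rw [LinearMap.range_comp_of_range_eq_top _ (LinearEquiv.range _), Submodule.range_liftQ]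
    refine le_antisymm ?_ fun q hq => ?_
    · rintro _ ⟨x, rfl⟩
      exact (HP_mk_eq_zero B _).2 ⟨x.1.1, (hG x).symm⟩
    · obtain ⟨⟨w, hwg, hwc⟩, rfl⟩ := Submodule.Quotient.mk_surjective _ q
      rw [LinearMap.mem_ker, Mor.HPmap_mk, HP_mk_eq_zero] at hq
      obtain ⟨b, hb⟩ := hq
      refine ⟨⟨(cmp (B.X n).gr g b, w), ⟨cmp_mem (B.X n).gr g b, hwg⟩, sub_eq_zero.2 ?_⟩, rfl⟩
      change φ.f (n + 1) w = B.d n (cmp (B.X n).gr g b)
      rw [(B.d_hom n).cmp, hb, cmp_of_mem _ (φ.hom (n + 1) g w hwg)]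
  have hδ : ∀ x : G, ((LinearMap.ker p₁).liftQ p₂ hker ∘ₗ (p₁.quotKerEquivOfSurjective hp₁).symm.toLinearMap) (p₁ x) = p₂ x :=
    fun x => by
      have e : (p₁.quotKerEquivOfSurjective hp₁).symm (p₁ x) = Submodule.Quotient.mk x := by
        rw [LinearEquiv.symm_apply_eq]; rfl
      rw [LinearMap.comp_apply, LinearEquiv.coe_toLinearMap, e]
      rfl
  refine le_antisymm ?_ fun q hq => ?_
  · rintro _ ⟨q, rfl⟩
    obtain ⟨⟨z, hzg, hzc⟩, rfl⟩ := Submodule.Quotient.mk_surjective _ q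
    rw [LinearMap.mem_ker]
    have hx : ((z, 0) : (B.X n).carrier × (A.X (n + 1)).carrier) ∈ G := ⟨⟨hzg, zero_mem _⟩, sub_eq_zero.2 (by
      change φ.f (n + 1) 0 = B.d n z
      rw [map_zero]; exact (LinearMap.mem_ker.1 hzc).symm)⟩
    refine Eq.trans ?_ ((hδ ⟨_, hx⟩).trans ((HP_mk_eq_zero A _).2 (zero_mem (A.bdy (n + 1)))))
    rfl
  · obtain ⟨x, rfl⟩ := hp₁ q
    rw [LinearMap.mem_ker, hδ] at hq
    obtain ⟨a, ha⟩ := (HP_mk_eq_zero A _).1 hq
    obtain ⟨⟨b, w⟩, ⟨hb, hw⟩, hbw⟩ := x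
    have hbw' : φ.f (n + 1) w = B.d n b := sub_eq_zero.1 hbw
    change A.d n a = w at ha
    have hcyc : B.d n (b - φ.f n (cmp (A.X n).gr g a)) = 0 := by
      rw [map_sub, φ.comm, (A.d_hom n).cmp, ha, cmp_of_mem (A.X (n + 1)).gr hw, hbw', sub_self]
    refine ⟨Submodule.Quotient.mk ⟨b - φ.f n (cmp (A.X n).gr g a),
      sub_mem hb (φ.hom n g _ (cmp_mem _ g a)), LinearMap.mem_ker.2 hcyc⟩, ?_⟩
    rw [Mor.HPmap_mk]
    refine congrArg Submodule.Quotient.mk (Subtype.ext ?_)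
    change ψ.f n (b - φ.f n (cmp (A.X n).gr g a)) = ψ.f n b
    rw [map_sub, S.psi_phi, sub_zero]

/-- The restriction of a homogeneous map to a piece. -/
def compMap {X Y : GMod.{u} 𝒜} (f : X.carrier →ₗ[R] Y.carrier) (hf : IsHom f) (g : ℤ) :
    comp 𝒜 X.gr g →ₗ[deg0 𝒜] comp 𝒜 Y.gr g :=
  (f.restrictScalars (deg0 𝒜)).restrict fun m hm => hf g m hm

section Serre

variable [IsNoetherianRing R] {l : List (HElt 𝒜)} (hl : ∀ y ∈ l, y.deg = 1)
  (hgen : ∀ n : ℤ, 0 < n → ∀ r ∈ 𝒜 n, r ∈ Ideal.span {r | ∃ y ∈ l, 0 < y.deg ∧ y.val = r})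

include hl in
theorem deg_nonneg : ∀ y ∈ l, 0 ≤ y.deg := fun y hy => by rw [hl y hy]; exact zero_le_one

include hl hgen in
theorem finite_HP (X : GMod.{u} 𝒜) [IsNoetherian R X.carrier] (i : ℕ) (g : ℤ) :
    Module.Finite (deg0 𝒜) (HP (cech X l) i g) := by
  have h := good_devissage (𝒜 := 𝒜) (fun A _ _ => IsNoetherian (deg0 𝒜) A)
    (fun f g h hA hC => isNoetherian_of_range_eq_ker f g h) (fun h => inferInstance)
    (deg_nonneg hl) hgen (fun X hX _ g => isNoetherian_comp X.gr g)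
    (fun y hy h0 => absurd (h0.symm.trans (hl y hy)) (by decide)) X inferInstance i g
  infer_instance

theorem finite_comp (X : GMod.{u} 𝒜) [IsNoetherian R X.carrier] (g : ℤ) :
    Module.Finite (deg0 𝒜) (comp 𝒜 X.gr g) := by
  have := isNoetherian_comp (𝒜 := 𝒜) X.gr g
  infer_instance

variable (l) in
/-- Hilbert function minus Euler characteristic. -/
def defect (X : GMod.{u} 𝒜) (g : ℤ) : ℚ :=
  qlen (deg0 𝒜) (comp 𝒜 X.gr g) -
    ∑ n ∈ Finset.range (l.length + 1), (-1 : ℚ) ^ n * qlen (deg0 𝒜) (HP (cech X l) n g)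

variable (l) in
/-- Finite length of a piece and of its local cohomology. -/
def IsFinAt (X : GMod.{u} 𝒜) (g : ℤ) : Prop :=
  IsFiniteLength (deg0 𝒜) (comp 𝒜 X.gr g) ∧ ∀ n, IsFiniteLength (deg0 𝒜) (HP (cech X l) n g)

omit [IsNoetherianRing R] in
theorem defect_add {X Y Z : GMod.{u} 𝒜} {f : X.carrier →ₗ[R] Y.carrier} (hf : IsHom f) {p : Y.carrier →ₗ[R] Z.carrier}
    (hp : IsHom p) (hfi : Function.Injective f) (hps : Function.Surjective p) (he : Function.Exact f p) {g : ℤ}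
    (hX : IsFinAt l X g) (hY : IsFinAt l Y g) (hZ : IsFinAt l Z g) :
    defect l Y g = defect l X g + defect l Z g := by
  have S := cechMap_ses (X := X) (Y := Y) (Z := Z) hf hp hfi hps he l
  haveI := (isFiniteLength_iff_isNoetherian_isArtinian.1 hX.1).1
  haveI := (isFiniteLength_iff_isNoetherian_isArtinian.1 hX.1).2
  haveI := (isFiniteLength_iff_isNoetherian_isArtinian.1 hZ.1).1
  haveI := (isFiniteLength_iff_isNoetherian_isArtinian.1 hZ.1).2
  have hH : qlen (deg0 𝒜) (comp 𝒜 Y.gr g) = qlen (deg0 𝒜) (comp 𝒜 X.gr g) + qlen (deg0 𝒜) (comp 𝒜 Z.gr g) := by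
    refine qlen_add (compMap f hf g) (compMap p hp g) (fun a b h => Subtype.ext (hfi (congrArg Subtype.val h)))
      (fun z => ?_) ?_
    · obtain ⟨y, hy⟩ := hps z.1
      refine ⟨⟨cmp Y.gr g y, cmp_mem Y.gr g y⟩, Subtype.ext ?_⟩
      change p (cmp Y.gr g y) = z.1
      rw [hp.cmp, hy]
      exact cmp_of_mem Z.gr z.2
    · ext y
      simp only [LinearMap.mem_range, LinearMap.mem_ker]
      constructor
      · rintro ⟨x, rfl⟩
        exact Subtype.ext (he.apply_apply_eq_zero x.1)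
      · intro h
        obtain ⟨x, hx⟩ := (he y.1).1 (congrArg Subtype.val h)
        refine ⟨⟨cmp X.gr g x, cmp_mem X.gr g x⟩, Subtype.ext ?_⟩
        change f (cmp X.gr g x) = y.1
        rw [hf.cmp, hx]
        exact cmp_of_mem Y.gr y.2
  haveI := fun n => (isFiniteLength_iff_isNoetherian_isArtinian.1 (hX.2 n)).1
  haveI := fun n => (isFiniteLength_iff_isNoetherian_isArtinian.1 (hX.2 n)).2
  haveI := fun n => (isFiniteLength_iff_isNoetherian_isArtinian.1 (hY.2 n)).1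
  haveI := fun n => (isFiniteLength_iff_isNoetherian_isArtinian.1 (hY.2 n)).2
  haveI := fun n => (isFiniteLength_iff_isNoetherian_isArtinian.1 (hZ.2 n)).1
  haveI := fun n => (isFiniteLength_iff_isNoetherian_isArtinian.1 (hZ.2 n)).2
  choose δ hδ' hδ using fun n => exists_delta S n g
  have hsum := alt_sum_eq (fun n => HP (cech X l) n g) (fun n => HP (cech Y l) n g) (fun n => HP (cech Z l) n g)
    (fun n => (cechMap f hf l).HPmap n g) (fun n => (cechMap p hp l).HPmap n g) δ ?_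
    (fun n => S.HP_exact n g) hδ' hδ (l.length + 1) (subsingleton_HP_of_length_lt X l (Nat.lt_succ_self _) g)
  · simp only [defect, hH, hsum]
    ring
  · intro a b h
    obtain ⟨a, rfl⟩ := Submodule.Quotient.mk_surjective _ a
    obtain ⟨b, rfl⟩ := Submodule.Quotient.mk_surjective _ b
    rw [Mor.HPmap_mk, Mor.HPmap_mk, Submodule.Quotient.eq] at h
    refine (Submodule.Quotient.eq _).2 ((Submodule.mem_bot R).2 ?_)
    change a.1 - b.1 = 0
    refine S.inj 0 ?_
    rw [map_sub, map_zero]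
    exact (Submodule.mem_bot R).1 h

omit [IsNoetherianRing R] in
theorem defect_shift (X : GMod.{u} 𝒜) (d g : ℤ) : defect l (shift X d) g = defect l X (g + d) := by
  have h1 : qlen (deg0 𝒜) (comp 𝒜 (shift X d).gr g) = qlen (deg0 𝒜) (comp 𝒜 X.gr (g + d)) := by
    refine congrArg (fun n : ℕ => (n : ℚ)) (congrArg ENat.toNat ?_)
    exact LinearEquiv.length_eq
      { toFun := fun m => ⟨m.1, m.2⟩, invFun := fun m => ⟨m.1, m.2⟩, left_inv := fun _ => rfl,
        right_inv := fun _ => rfl, map_add' := fun _ _ => rfl, map_smul' := fun _ _ => rfl }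
  rw [defect, defect, h1]
  congr 1
  refine Finset.sum_congr rfl fun n _ => ?_
  obtain ⟨e, -⟩ := exists_HP_shift l X d n g
  rw [show qlen (deg0 𝒜) (HP (cech (shift X d) l) n g) = qlen (deg0 𝒜) (HP (cech X l) n (g + d)) from
    congrArg (fun n : ℕ => (n : ℚ)) (congrArg ENat.toNat e.length_eq)]

omit [IsNoetherianRing R] in
theorem defect_eq_zero_of_killed (X : GMod.{u} 𝒜) (hk : ∀ y ∈ l, ∀ m : X.carrier, y.val • m = 0) (g : ℤ) :
    defect l X g = 0 := by
  have ht : ∀ y ∈ l, ∀ m : X.carrier, ∃ k : ℕ, y.val ^ k • m = 0 :=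
    fun y hy m => ⟨1, by rw [pow_one]; exact hk y hy m⟩
  let f : comp 𝒜 X.gr g →ₗ[deg0 𝒜] HP (cech X l) 0 g := Submodule.mkQ _ ∘ₗ
    (((inc0 X l).restrictScalars (deg0 𝒜)) ∘ₗ (comp 𝒜 X.gr g).subtype).codRestrict (ZP (cech X l) 0 g)
      (fun m => ⟨isHom_inc0 X l g _ m.2, (mem_cyc_zero l _).2 ((forall_list_iff_mem_gam l _).1 fun y hy => ht y hy _)⟩)
  have hf : Function.Bijective f := by
    refine ⟨(injective_iff_map_eq_zero f).2 fun m hm => Subtype.ext ((inc0_bijective X l).1 ?_), fun q => ?_⟩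
    · rw [ZeroMemClass.coe_zero, map_zero]
      exact (Submodule.mem_bot R).1 ((HP_mk_eq_zero _ _).1 hm)
    · obtain ⟨⟨z, hzg, hzc⟩, rfl⟩ := Submodule.Quotient.mk_surjective _ q
      obtain ⟨m, rfl⟩ := (inc0_bijective X l).2 z
      have hm : m = cmp X.gr g m := (inc0_bijective X l).1
        (((isHom_inc0 X l).cmp g m).trans (cmp_of_mem _ hzg)).symm
      exact ⟨⟨m, hm ▸ cmp_mem X.gr g m⟩, rfl⟩
  rw [defect, Finset.sum_range_succ', Finset.sum_eq_zero (fun n _ => by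
      rw [qlen_eq_zero (subsingleton_HP _ (van_torsion ht (Nat.succ_pos n))), mul_zero]),
    pow_zero, one_mul, zero_add, qlen_congr (LinearEquiv.ofBijective f hf), sub_self]

include hl in
theorem exists_diff_eq_zero' (J₀ : Ideal R) (hfin : ∀ (W : GMod.{u} 𝒜), IsNoetherian R W.carrier →
      (∀ r ∈ J₀, ∀ m : W.carrier, r • m = 0) → ∀ g, IsFinAt l W g)
    (X : GMod.{u} 𝒜) [hX : IsNoetherian R X.carrier] (hX₀ : ∀ r ∈ J₀, ∀ m : X.carrier, r • m = 0) :
    ∃ k : ℕ, Δ_[(1 : ℤ)]^[k] (defect l X) = 0 := by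
  suffices H : ∀ J : Ideal R, J₀ ≤ J → ∀ (X : GMod.{u} 𝒜), IsNoetherian R X.carrier →
      (∀ r ∈ J, ∀ m : X.carrier, r • m = 0) → ∃ k : ℕ, Δ_[(1 : ℤ)]^[k] (defect l X) = 0 from
    H J₀ le_rfl X hX hX₀
  clear hX₀ hX X
  intro J
  induction J using WellFoundedGT.induction with
  | _ J ih =>
    intro h₀ X hX hJ
    by_cases hall : ∀ y ∈ l, y.val ∈ J
    · exact ⟨0, funext fun g => defect_eq_zero_of_killed X (fun y hy m => hJ _ (hall y hy) m) g⟩
    · push_neg at hall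
      obtain ⟨x, hx, hxJ⟩ := hall
      have hlt : J < J ⊔ Ideal.span {x.val} := left_lt_sup.2 fun h => hxJ (h (Ideal.mem_span_singleton_self _))
      obtain ⟨T, θ, hθ, hθinj, hθr⟩ : ∃ (T : GMod.{u} 𝒜) (θ : T.carrier →ₗ[R] (shift X (-x.deg)).carrier),
          IsHom θ ∧ Function.Injective θ ∧ LinearMap.range θ = LinearMap.ker (mulShift X x) :=
        ⟨sub (shift X (-x.deg)) _ (isHomogeneous_ker (isHom_mulShift X x)), Submodule.subtype _,
          isHom_subtype (shift X (-x.deg)) _ (isHomogeneous_ker (isHom_mulShift X x)),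
          Submodule.injective_subtype _, Submodule.range_subtype _⟩
      obtain ⟨W, q, j, hq, hj, hqs, hjinj, hjq⟩ : ∃ (W : GMod.{u} 𝒜) (q : (shift X (-x.deg)).carrier →ₗ[R] W.carrier)
          (j : W.carrier →ₗ[R] X.carrier), IsHom q ∧ IsHom j ∧ Function.Surjective q ∧ Function.Injective j ∧
            j ∘ₗ q = mulShift X x :=
        ⟨sub X _ (isHomogeneous_range (isHom_mulShift X x)), (mulShift X x).rangeRestrict, Submodule.subtype _,
          fun g m hm => isHom_mulShift X x g m hm, isHom_subtype X _ (isHomogeneous_range (isHom_mulShift X x)),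
          LinearMap.surjective_rangeRestrict _, Submodule.injective_subtype _, rfl⟩
      obtain ⟨N, p, hp, hps, hpk⟩ : ∃ (N : GMod.{u} 𝒜) (p : X.carrier →ₗ[R] N.carrier), IsHom p ∧
          Function.Surjective p ∧ LinearMap.ker p = LinearMap.range (mulShift X x) :=
        ⟨quot X _ (isHomogeneous_range (isHom_mulShift X x)), Submodule.mkQ _,
          isHom_mkQ X _ (isHomogeneous_range (isHom_mulShift X x)), Submodule.mkQ_surjective _, Submodule.ker_mkQ _⟩
      haveI : IsNoetherian R (shift X (-x.deg)).carrier := hX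
      haveI : IsNoetherian R T.carrier := isNoetherian_of_injective θ hθinj
      haveI : IsNoetherian R W.carrier := isNoetherian_of_injective j hjinj
      haveI : IsNoetherian R N.carrier := isNoetherian_of_surjective p (LinearMap.range_eq_top.2 hps)
      have hkill : ∀ r ∈ J ⊔ Ideal.span {x.val}, ∀ m : X.carrier, (x.val • m = 0 → r • m = 0) ∧
          (r • m ∈ LinearMap.range (mulShift X x)) := by
        intro r hr m
        obtain ⟨a, ha, c, hc, rfl⟩ := Submodule.mem_sup.1 hr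
        obtain ⟨d, rfl⟩ := Ideal.mem_span_singleton'.1 hc
        rw [add_smul, hJ a ha, zero_add, mul_smul]
        exact ⟨fun h => by rw [h, smul_zero], ⟨d • m, smul_comm x.val d m⟩⟩
      obtain ⟨kT, hkT⟩ := ih _ hlt (h₀.trans le_sup_left) T inferInstance fun r hr v => hθinj (by
        rw [map_smul, map_zero]
        exact (hkill r hr (θ v)).1 (hθr.le ⟨v, rfl⟩))
      obtain ⟨kN, hkN⟩ := ih _ hlt (h₀.trans le_sup_left) N inferInstance fun r hr v => by
        obtain ⟨m, rfl⟩ := hps v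
        rw [← map_smul]
        exact hpk.ge (hkill r hr m).2
      have hX0 : ∀ r ∈ J₀, ∀ m : X.carrier, r • m = 0 := fun r hr => hJ r (h₀ hr)
      have hT0 : ∀ r ∈ J₀, ∀ v : T.carrier, r • v = 0 := fun r hr v => hθinj (by
        rw [map_smul, map_zero]; exact hX0 r hr _)
      have hW0 : ∀ r ∈ J₀, ∀ v : W.carrier, r • v = 0 := fun r hr v => hjinj (by
        rw [map_smul, map_zero]; exact hX0 r hr _)
      have hN0 : ∀ r ∈ J₀, ∀ v : N.carrier, r • v = 0 := fun r hr v => by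
        obtain ⟨m, rfl⟩ := hps v
        rw [← map_smul, hX0 r hr, map_zero]
      have e₁ := fun g => defect_add (l := l) (g := g) (X := T) (Y := shift X (-x.deg)) (Z := W) hθ hq hθinj hqs (LinearMap.exact_iff.2 (by
        rw [hθr, ← hjq, LinearMap.ker_comp_of_ker_eq_bot _ (LinearMap.ker_eq_bot.2 hjinj)]))
        (hfin T inferInstance hT0 g) (hfin (shift X (-x.deg)) inferInstance hX0 g) (hfin W inferInstance hW0 g)
      have e₂ := fun g => defect_add (l := l) (g := g) (X := W) (Y := X) (Z := N) hj hp hjinj hps (LinearMap.exact_iff.2 (by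
        rw [hpk, ← hjq, LinearMap.range_comp_of_range_eq_top _ (LinearMap.range_eq_top.2 hqs)]))
        (hfin W inferInstance hW0 g) (hfin X hX hX0 g) (hfin N inferInstance hN0 g)
      refine ⟨max kT kN + 1, ?_⟩
      have hd : Δ_[(1 : ℤ)] (defect l X) = (fun g => defect l N (g + 1)) + (-1 : ℚ) • fun g => defect l T (g + 1) := by
        funext g
        have h := e₁ (g + 1)
        rw [defect_shift, hl x hx, add_neg_cancel_right] at h
        simp only [fwdDiff, Pi.add_apply, Pi.smul_apply, smul_eq_mul]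
        rw [e₂ (g + 1), h]
        ring
      have hz : ∀ (F : ℤ → ℚ) (k K : ℕ), k ≤ K → Δ_[(1 : ℤ)]^[k] F = 0 →
          Δ_[(1 : ℤ)]^[K] (fun g => F (g + 1)) = 0 := fun F k K hkK h => funext fun g => by
        rw [fwdDiff_iter_comp_add]
        obtain ⟨c, rfl⟩ := Nat.exists_eq_add_of_le' hkK
        rw [Function.iterate_add_apply, h]
        clear h hkK
        induction c generalizing g with
        | zero => rfl
        | succ c ihc =>
          rw [Function.iterate_succ_apply', fwdDiff, ihc, ihc]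
          simp
      rw [Function.iterate_succ_apply, hd, fwdDiff_iter_add, fwdDiff_iter_const_smul,
        hz _ kN _ (le_max_right _ _) hkN, hz _ kT _ (le_max_left _ _) hkT, smul_zero, add_zero]

include hl hgen in
theorem exists_diff_eq_zero [IsArtinianRing (deg0 𝒜)] (X : GMod.{u} 𝒜) [IsNoetherian R X.carrier] :
    ∃ k : ℕ, Δ_[(1 : ℤ)]^[k] (defect l X) = 0 := by
  refine exists_diff_eq_zero' hl ⊥ (fun W hW _ g => ?_) X fun r hr m => by
    rw [(Submodule.mem_bot R).1 hr, zero_smul]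
  haveI := finite_comp (𝒜 := 𝒜) W g
  haveI := fun n => finite_HP hl hgen W n g
  exact ⟨isFiniteLength_iff_isNoetherian_isArtinian.2 ⟨inferInstance, inferInstance⟩,
    fun n => isFiniteLength_iff_isNoetherian_isArtinian.2 ⟨inferInstance, inferInstance⟩⟩

end Serre

/-- A function with vanishing higher differences that vanishes eventually is zero. -/
theorem eq_zero_of_diff : ∀ (k : ℕ) (f : ℤ → ℚ), Δ_[(1 : ℤ)]^[k] f = 0 → (∃ N : ℤ, ∀ n, N ≤ n → f n = 0) → f = 0
  | 0, f, h, _ => h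
  | k + 1, f, h, ⟨N, hN⟩ => by
    have h1 : Δ_[(1 : ℤ)] f = 0 := eq_zero_of_diff k _ (by rwa [← Function.iterate_succ_apply])
      ⟨N, fun n hn => by rw [fwdDiff, hN _ (by omega), hN _ hn, sub_zero]⟩
    funext n
    obtain ⟨t, ht⟩ : ∃ t : ℕ, N ≤ n + t := ⟨(N - n).toNat, by omega⟩
    induction t generalizing n with
    | zero => exact hN n (by simpa using ht)
    | succ t ih =>
      have h2 := congrFun h1 n
      rw [fwdDiff, Pi.zero_apply, sub_eq_zero] at h2
      rw [← h2]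
      exact ih (n + 1) (by push_cast at ht; omega)

end GrothLib.GrLC

namespace GrothLib.GrLC

open _root_.GrLC (GMod StarInjRes gam deg0 comp)

variable {R : Type u} [CommRing R] [IsNoetherianRing R] {σ : Type u} [SetLike σ R] [AddSubgroupClass σ R]
  {𝒜 : ℤ → σ} [GradedRing 𝒜] {M : Type u} [AddCommGroup M] [Module R M] {τ : Type u} [SetLike τ M]
  [AddSubgroupClass τ M] {ℳ : ℤ → τ} [Decomposition ℳ] [SetLike.GradedSMul 𝒜 ℳ] (E : StarInjRes 𝒜 ℳ)

/-- Graded local cohomology only depends on the radical. -/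
theorem nonempty_Hcomp_equiv_of_radical {a b : HomogeneousIdeal 𝒜} (h : a.toIdeal.radical = b.toIdeal.radical)
    (i : ℕ) (g : ℤ) : Nonempty (E.Hcomp a i g ≃ₗ[deg0 𝒜] E.Hcomp b i g) := by
  have hc : E.cocyc a i = E.cocyc b i := by
    rw [StarInjRes.cocyc, StarInjRes.cocyc, gam_congr_radical h]
  have hb : E.cobdy a i = E.cobdy b i := by
    cases i with
    | zero => rfl
    | succ i => rw [StarInjRes.cobdy, StarInjRes.cobdy, gam_congr_radical h]
  let e : E.H a i ≃ₗ[R] E.H b i := Submodule.Quotient.equiv _ _ (LinearEquiv.ofEq _ _ hc) (by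
    ext x
    constructor
    · rintro ⟨y, hy, rfl⟩
      exact hb.le hy
    · intro hx
      exact ⟨⟨x.1, hc.ge x.2⟩, hb.ge hx, rfl⟩)
  have hmem : ∀ x, x ∈ E.Hcomp a i g ↔ e x ∈ E.Hcomp b i g := fun x => by
    constructor
    · rintro ⟨z, hz, rfl⟩
      exact ⟨⟨z.1, hc.le z.2⟩, hz, rfl⟩
    · rintro ⟨z, hz, hze⟩
      exact ⟨⟨z.1, hc.ge z.2⟩, hz, e.injective hze⟩
  let f : E.Hcomp a i g →ₗ[deg0 𝒜] E.Hcomp b i g :=
    ((e.toLinearMap.restrictScalars (deg0 𝒜)) ∘ₗ (E.Hcomp a i g).subtype).codRestrict _ fun x => (hmem x.1).1 x.2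
  exact ⟨LinearEquiv.ofBijective f ⟨fun x y h => Subtype.ext (e.injective (congrArg Subtype.val h)),
    fun y => ⟨⟨e.symm y.1, (hmem _).2 (by rw [e.apply_symm_apply]; exact y.2)⟩, Subtype.ext (e.apply_symm_apply _)⟩⟩⟩

variable [Module.Finite R M] [IsArtinianRing (deg0 𝒜)] (hpos : ∀ n : ℤ, n < 0 → ∀ r ∈ 𝒜 n, r = 0)
  (hstd : Ideal.span (⋃ n ∈ Set.Ioi (0 : ℤ), (𝒜 n : Set R)) = Ideal.span (𝒜 1 : Set R))
  {m : HomogeneousIdeal 𝒜} (hm : _root_.GrLC.IsStarLocal 𝒜 m)

include hpos hstd hm in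
theorem finite_Hcomp_starLocal (i : ℕ) (g : ℤ) : Module.Finite (deg0 𝒜) (E.Hcomp m i g) := by
  let a : HomogeneousIdeal 𝒜 := ⟨Ideal.span (⋃ n ∈ Set.Ioi (0 : ℤ), (𝒜 n : Set R)),
    Ideal.homogeneous_span _ _ fun r hr => by
      obtain ⟨n, -, hr⟩ := Set.mem_iUnion₂.1 hr
      exact ⟨n, hr⟩⟩
  have h : a.toIdeal.radical = m.toIdeal.radical := radical_eq_of_isArtinian_deg0 hpos hm
    (fun n hn r hr => Ideal.subset_span (Set.mem_biUnion (Set.mem_Ioi.2 hn) hr))
    (Ideal.span_le.2 fun r hr => by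
      obtain ⟨n, hn, hr⟩ := Set.mem_iUnion₂.1 hr
      exact pos_mem_of_isStarLocal hpos hm n hn r hr)
  obtain ⟨e⟩ := nonempty_Hcomp_equiv_of_radical E h i g
  haveI := finite_Hcomp E hpos a rfl i g
  exact Module.Finite.equiv e

include hpos hstd hm in
/-- Serre's formula for the Hilbert polynomial. -/
theorem hilbert_sub_eq_sum {d : ℕ} (hd : ringKrullDim R = d) (P : Polynomial ℚ)
    (hP : ∃ N : ℤ, ∀ n : ℤ, N ≤ n → P.eval (n : ℚ) = qlen (deg0 𝒜) (comp 𝒜 ℳ n)) (n : ℤ) :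
    qlen (deg0 𝒜) (comp 𝒜 ℳ n) - P.eval (n : ℚ) =
      ∑ i ∈ Finset.range (d + 1), (-1 : ℚ) ^ i * qlen (deg0 𝒜) (E.Hcomp m i n) := by
  classical
  obtain ⟨s, hs, hsp⟩ := (Submodule.fg_span_iff_fg_span_finset_subset (R := R) (𝒜 1 : Set R)).1
    (IsNoetherian.noetherian _)
  let l : List (HElt 𝒜) := s.toList.attach.map fun t => ⟨t.1, 1, hs (Finset.mem_toList.1 t.2)⟩
  have hl : ∀ y ∈ l, y.deg = 1 := fun y hy => by
    obtain ⟨t, -, rfl⟩ := List.mem_map.1 hy; rfl
  have hmeml : ∀ r ∈ s, ∃ y ∈ l, y.val = r := fun r hr =>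
    ⟨⟨r, 1, hs hr⟩, List.mem_map.2 ⟨⟨r, Finset.mem_toList.2 hr⟩, List.mem_attach _ _, rfl⟩, rfl⟩
  have hgen : ∀ n : ℤ, 0 < n → ∀ r ∈ 𝒜 n, r ∈ Ideal.span {r | ∃ y ∈ l, 0 < y.deg ∧ y.val = r} := by
    intro n hn r hr
    have h1 : r ∈ Ideal.span (s : Set R) :=
      hsp.le (hstd.le (Ideal.subset_span (Set.mem_biUnion (Set.mem_Ioi.2 hn) hr)))
    refine Ideal.span_mono (fun t ht => ?_) h1
    obtain ⟨y, hy, rfl⟩ := hmeml t ht
    exact ⟨y, hy, by rw [hl y hy]; exact one_pos, rfl⟩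
  have hrad : (hspan l).toIdeal.radical = m.toIdeal.radical := by
    refine radical_eq_of_isArtinian_deg0 hpos hm (fun n hn r hr => ?_) (Ideal.span_le.2 ?_)
    · exact Ideal.span_mono (by rintro r ⟨y, hy, -, rfl⟩; exact ⟨y, hy, rfl⟩) (hgen n hn r hr)
    · rintro r ⟨y, hy, rfl⟩
      exact pos_mem_of_isStarLocal hpos hm y.deg (by rw [hl y hy]; exact one_pos) _ y.mem
  haveI : IsNoetherian R (gmod 𝒜 ℳ).carrier := isNoetherian_of_isNoetherianRing_of_finite R M
  have hH : ∀ g, qlen (deg0 𝒜) (comp 𝒜 (gmod 𝒜 ℳ).gr g) = qlen (deg0 𝒜) (comp 𝒜 ℳ g) := fun g =>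
    congrArg (fun t : ℕ => (t : ℚ)) (congrArg ENat.toNat (LinearEquiv.length_eq
      { toFun := fun m => ⟨m.1, m.2⟩, invFun := fun m => ⟨m.1, m.2⟩, left_inv := fun _ => rfl,
        right_inv := fun _ => rfl, map_add' := fun _ _ => rfl, map_smul' := fun _ _ => rfl }))
  have hE : ∀ (i : ℕ) (g : ℤ), qlen (deg0 𝒜) (HP (cech (gmod 𝒜 ℳ) l) i g) = qlen (deg0 𝒜) (E.Hcomp m i g) := by
    intro i g
    obtain ⟨e⟩ := nonempty_HP_equiv_Hcomp E (a := hspan l) rfl i g
    obtain ⟨e'⟩ := nonempty_Hcomp_equiv_of_radical E hrad i g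
    exact congrArg (fun t : ℕ => (t : ℚ)) (congrArg ENat.toNat (e.trans e').length_eq)
  obtain ⟨b, hb⟩ := exists_high_van (deg_nonneg hl) hgen (gmod 𝒜 ℳ) inferInstance
  obtain ⟨N, hN⟩ := hP
  obtain ⟨k, hk⟩ := exists_diff_eq_zero hl hgen (gmod 𝒜 ℳ)
  have hcast : ∀ (K : ℕ) (F : ℚ → ℚ), Δ_[(1 : ℤ)]^[K] (fun g : ℤ => F (g : ℚ)) = fun g : ℤ => (Δ_[(1 : ℚ)]^[K] F) (g : ℚ) := by
    intro K
    induction K with
    | zero => intro F; rfl
    | succ K ih =>
      intro F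
      rw [Function.iterate_succ_apply, Function.iterate_succ_apply, ← ih]
      congr 1
      funext g
      simp [fwdDiff]
  have hzero : (fun g : ℤ => defect l (gmod 𝒜 ℳ) g + (-1 : ℚ) • P.eval (g : ℚ)) = 0 := by
    refine eq_zero_of_diff (k + (P.natDegree + 1)) _ ?_ ⟨max b N, fun g hg => ?_⟩
    · have h1 : (fun g : ℤ => defect l (gmod 𝒜 ℳ) g + (-1 : ℚ) • P.eval (g : ℚ)) =
          defect l (gmod 𝒜 ℳ) + (-1 : ℚ) • fun g : ℤ => P.eval (g : ℚ) := rfl
      have hz : ∀ c : ℕ, Δ_[(1 : ℤ)]^[c] (0 : ℤ → ℚ) = 0 := by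
        intro c
        induction c with
        | zero => rfl
        | succ c ihc => rw [Function.iterate_succ_apply', ihc]; funext g; simp [fwdDiff]
      have hPz : Δ_[(1 : ℤ)]^[P.natDegree + 1] (fun g : ℤ => P.eval (g : ℚ)) = 0 := by
        refine (hcast _ fun t => P.eval t).trans ?_
        rw [Polynomial.fwdDiff_iter_degree_add_one_eq_zero]; rfl
      rw [h1, fwdDiff_iter_add, fwdDiff_iter_const_smul]
      conv_lhs => arg 2; arg 2; rw [Function.iterate_add_apply, hPz, hz]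
      rw [add_comm k, Function.iterate_add_apply, hk, hz, smul_zero, add_zero]
    · rw [defect, Finset.sum_eq_zero fun i _ => by
        rw [qlen_eq_zero (subsingleton_HP _ (hb i g (le_trans (le_max_left _ _) hg))), mul_zero],
        hH, ← hN g (le_trans (le_max_right _ _) hg)]
      simp
  have h0 := congrFun hzero n
  simp only [defect, hH, hE, Pi.zero_apply, smul_eq_mul] at h0
  have hlo : ∀ i, d < i → qlen (deg0 𝒜) (E.Hcomp m i n) = 0 := fun i hi => qlen_eq_zero (by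
    rw [Hcomp_eq_bot_of_supportDim_lt E m (lt_of_le_of_lt ((Module.supportDim_le_ringKrullDim R M).trans hd.le)
      (by exact_mod_cast hi)) n]
    infer_instance)
  have hhi : ∀ i, l.length < i → qlen (deg0 𝒜) (E.Hcomp m i n) = 0 := fun i hi => by
    rw [← hE]
    exact qlen_eq_zero (subsingleton_HP_of_length_lt _ l hi n)
  have e : ∑ i ∈ Finset.range (l.length + 1), (-1 : ℚ) ^ i * qlen (deg0 𝒜) (E.Hcomp m i n) =
      ∑ i ∈ Finset.range (d + 1), (-1 : ℚ) ^ i * qlen (deg0 𝒜) (E.Hcomp m i n) := by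
    rcases le_total l.length d with hle | hle
    · exact Finset.sum_subset (Finset.range_mono (by omega)) fun i _ hi => by
        rw [Finset.mem_range, not_lt] at hi
        rw [hhi i (by omega), mul_zero]
    · exact (Finset.sum_subset (Finset.range_mono (by omega)) fun i _ hi => by
        rw [Finset.mem_range, not_lt] at hi
        rw [hlo i (by omega), mul_zero]).symm
  linear_combination h0 + e

end GrothLib.GrLC
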