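import Groth.Agent.Lib.Gor.Basic
import Groth.Agent.Lib.LC.Zero
import Mathlib.RingTheory.Filtration
import Mathlib.Algebra.Module.Injective

/-!
When `Ext^i(k, A)` vanishes below degree `d`, the socle of `H^d_m(A)` is `Ext^d(k, A)`.
-/

universe u

open CategoryTheory Abelian IsLocalRing
open GrothLib.Gor (smallAt_maximal_iff smallAt_ext_of_forall_prime)

namespace GrothLib.GrLC.SocTop

variable {A : Type u} [CommRing A] [IsNoetherianRing A] [IsLocalRing A] {d : ℕ}
variable (hE : ∀ i, i < d → Subsingleton (Ext (ModuleCat.of A (A ⧸ maximalIdeal A)) (ModuleCat.of A A) i))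

local notation "mI" => maximalIdeal _
local notation "AA" => ModuleCat.of A A

include hE

theorem subsingleton_ext_killed {n : ℕ} (X : Type u) [AddCommGroup X] [Module A X] [Module.Finite A X]
    (hk : ∀ a ∈ maximalIdeal A ^ n, ∀ x : X, a • x = 0) {i : ℕ} (hi : i < d) :
    Subsingleton (Ext (ModuleCat.of A X) AA i) :=
  (smallAt_maximal_iff (A := A) _).1 (smallAt_ext_of_forall_prime AA i _ X fun P hP => by
    have hle : maximalIdeal A ≤ P.asIdeal := Ideal.IsPrime.le_of_pow_le (n := n)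
      ((show maximalIdeal A ^ n ≤ Module.annihilator A X from fun a ha =>
        Module.mem_annihilator.2 (hk a ha)).trans (Module.mem_support_iff_of_finite.1 hP))
    rw [← (maximalIdeal.isMaximal A).eq_of_le P.2.ne_top hle]
    exact (smallAt_maximal_iff (A := A) _).2 (hE i hi))

/-- Pullback along a surjection is injective on `Ext^d(-, A)`. -/
theorem eq_zero_of_precomp_surjective {n : ℕ} {P X : ModuleCat.{u} A} [Module.Finite A P]
    (hk : ∀ a ∈ maximalIdeal A ^ n, ∀ x : P, a • x = 0) (π : P ⟶ X) (hπ : Function.Surjective π.hom)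
    (e : Ext X AA d) (he : (Ext.mk₀ π).comp e (zero_add d) = 0) : e = 0 := by
  rcases d with - | c
  · obtain ⟨f, rfl⟩ := (Ext.mk₀_bijective _ _).2 e
    rw [Ext.mk₀_comp_mk₀, Ext.mk₀_eq_zero_iff] at he
    rw [Ext.mk₀_eq_zero_iff]
    haveI : Epi π := (ModuleCat.epi_iff_surjective _).2 hπ
    exact (cancel_epi π).1 (he.trans Limits.comp_zero.symm)
  · let S : ShortComplex (ModuleCat.{u} A) := ShortComplex.mk
      (ModuleCat.ofHom (LinearMap.ker π.hom).subtype) π
      (ModuleCat.hom_ext (LinearMap.ext fun z => LinearMap.mem_ker.1 z.2))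
    have hS : S.ShortExact :=
      { exact := (ShortComplex.moduleCat_exact_iff _).2 fun z hz => ⟨⟨z, LinearMap.mem_ker.2 hz⟩, rfl⟩
        mono_f := (ModuleCat.mono_iff_injective _).2 Subtype.val_injective
        epi_g := (ModuleCat.epi_iff_surjective _).2 hπ }
    obtain ⟨y, hy⟩ := Ext.contravariant_sequence_exact₃ hS AA e he (n₀ := c) (add_comm 1 c)
    haveI := subsingleton_ext_killed hE (LinearMap.ker π.hom)
      (fun a ha z => Subtype.ext (hk a ha z.1)) (show c < c + 1 by omega)
    rw [← hy, Subsingleton.elim y 0, Ext.comp_zero]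

omit hE in
theorem quotPow_killed (n : ℕ) : ∀ a ∈ maximalIdeal A ^ n, ∀ x : LC.quotPow (maximalIdeal A) n, a • x = 0 :=
  fun a ha x => by
    obtain ⟨x, rfl⟩ := Submodule.Quotient.mk_surjective _ x
    exact (Submodule.Quotient.mk_eq_zero _).2 (Ideal.mul_mem_right x _ ha)

theorem toH_injective (n : ℕ) : Function.Injective (LC.toH (maximalIdeal A) d n AA) :=
  (injective_iff_map_eq_zero _).2 fun e he => by
    obtain ⟨k, hk, h⟩ := (LC.toH_eq_zero_iff _ e).1 he
    refine eq_zero_of_precomp_surjective hE (quotPow_killed k) _ (fun z => ?_) e h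
    obtain ⟨z, rfl⟩ := Ideal.Quotient.mk_surjective z
    exact ⟨Ideal.Quotient.mk _ z, LC.quotMap_mk _ hk z⟩

omit hE in
theorem exists_smul_eq {n : ℕ} (z : LC.quotPow (maximalIdeal A) n) :
    ∃ r : A, r • LC.oneQ (maximalIdeal A) n = z := by
  obtain ⟨r, rfl⟩ := Ideal.Quotient.mk_surjective z
  exact ⟨r, LC.smul_oneQ _ r⟩

variable {n : ℕ} (X : Type u) [AddCommGroup X] [Module A X] [Module.Finite A X]
  (hk : ∀ a ∈ maximalIdeal A ^ n, ∀ x : X, a • x = 0)

/-- A class in `Ext^d(X, A)` vanishing on every element of `X` is zero. -/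
theorem eq_zero_of_forall_elem (e : Ext (ModuleCat.of A X) AA d)
    (he : ∀ x : X, (Ext.mk₀ (LC.homOfTors (maximalIdeal A) (ModuleCat.of A X)
      (fun a ha => hk a ha x))).comp e (zero_add d) = 0) : e = 0 := by
  obtain ⟨s, g, hg⟩ := Module.Finite.exists_fin (R := A) (M := X)
  let pr : ∀ j : Fin s, ModuleCat.of A (Fin s → LC.quotPow (maximalIdeal A) n) ⟶ LC.quotPow (maximalIdeal A) n :=
    fun j => ModuleCat.ofHom (LinearMap.proj j)
  let π : ModuleCat.of A (Fin s → LC.quotPow (maximalIdeal A) n) ⟶ ModuleCat.of A X :=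
    ∑ j, pr j ≫ LC.homOfTors (maximalIdeal A) (ModuleCat.of A X) (fun a ha => hk a ha (g j))
  refine eq_zero_of_precomp_surjective hE
    (P := ModuleCat.of A (Fin s → LC.quotPow (maximalIdeal A) n))
    (fun a ha z => funext fun j => quotPow_killed n a ha (z j)) π ?_ e ?_
  · rw [← LinearMap.range_eq_top, eq_top_iff, ← hg, Submodule.span_le]
    rintro _ ⟨j, rfl⟩
    classical
    refine ⟨Pi.single j (LC.oneQ _ n), ?_⟩
    simp only [π, ModuleCat.hom_sum, LinearMap.coe_sum, Finset.sum_apply]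
    rw [Finset.sum_eq_single j (fun i _ hij => ?_) (fun h => absurd (Finset.mem_univ j) h)]
    · show LC.homOfTors (maximalIdeal A) (ModuleCat.of A X) (fun a ha => hk a ha (g j))
        (Pi.single (M := fun _ => LC.quotPow (maximalIdeal A) n) j (LC.oneQ (maximalIdeal A) n) j) = _
      rw [Pi.single_eq_same]
      exact LC.homOfTors_oneQ _ _ _
    · show LC.homOfTors (maximalIdeal A) (ModuleCat.of A X) (fun a ha => hk a ha (g i))
        (Pi.single (M := fun _ => LC.quotPow (maximalIdeal A) n) j (LC.oneQ (maximalIdeal A) n) i) = _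
      rw [Pi.single_eq_of_ne hij, map_zero]
  · rw [Ext.mk₀_sum, Ext.sum_comp]
    refine Finset.sum_eq_zero fun j _ => ?_
    rw [← Ext.mk₀_comp_mk₀, Ext.comp_assoc_of_second_deg_zero, he, Ext.comp_zero]

theorem exists_of_killed {k : ℕ} (h : (localCohomology (maximalIdeal A) d).obj AA)
    (hh : ∀ a ∈ maximalIdeal A ^ k, a • h = 0) :
    ∃ e, LC.toH (maximalIdeal A) d k AA e = h := by
  obtain ⟨n, hkn, e, rfl⟩ := LC.exists_toH_ge (maximalIdeal A) h k
  let S : ShortComplex (ModuleCat.{u} A) := ShortComplex.mk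
    (ModuleCat.ofHom (LinearMap.ker (LC.quotMap (maximalIdeal A) hkn).hom).subtype)
    (LC.quotMap (maximalIdeal A) hkn)
    (ModuleCat.hom_ext (LinearMap.ext fun z => LinearMap.mem_ker.1 z.2))
  have hS : S.ShortExact :=
    { exact := (ShortComplex.moduleCat_exact_iff _).2 fun z hz => ⟨⟨z, LinearMap.mem_ker.2 hz⟩, rfl⟩
      mono_f := (ModuleCat.mono_iff_injective _).2 Subtype.val_injective
      epi_g := (ModuleCat.epi_iff_surjective _).2 fun z => by
        obtain ⟨z, rfl⟩ := Ideal.Quotient.mk_surjective z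
        exact ⟨Ideal.Quotient.mk _ z, LC.quotMap_mk _ hkn z⟩ }
  have hz : (Ext.mk₀ S.f).comp e (zero_add d) = 0 := by
    refine eq_zero_of_forall_elem hE _ (fun a ha z => Subtype.ext (quotPow_killed n a ha z.1)) _ fun z => ?_
    obtain ⟨r, hr⟩ := exists_smul_eq z.1
    have hrk : r ∈ maximalIdeal A ^ k := by
      rw [← Ideal.Quotient.eq_zero_iff_mem, ← LC.quotMap_mk (maximalIdeal A) hkn r, ← LC.smul_oneQ, hr]
      exact LinearMap.mem_ker.1 z.2
    rw [Ext.mk₀_comp_mk₀_assoc]
    have hq : LC.homOfTors (maximalIdeal A) (ModuleCat.of A _)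
        (fun a ha => Subtype.ext (quotPow_killed n a ha z.1) : ∀ a ∈ maximalIdeal A ^ n, a • z = 0) ≫ S.f =
        r • 𝟙 (LC.quotPow (maximalIdeal A) n) := by
      refine LC.hom_ext_oneQ _ _ ?_
      exact (congrArg Subtype.val (LC.homOfTors_oneQ (maximalIdeal A) (ModuleCat.of A _) _)).trans hr.symm
    rw [hq, ← LC.smul_eq_mk₀_comp]
    exact toH_injective hE n (by rw [map_smul, hh r hrk, map_zero])
  obtain ⟨y, hy⟩ := Ext.contravariant_sequence_exact₂ hS AA e hz
  exact ⟨y, by rw [← hy, LC.toH_restrict]⟩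
omit hE in
/-- The socle of the top local cohomology. -/
theorem exists_socle_equiv (d : ℕ) (hE : ∀ i, i < d → Subsingleton (Ext (ModuleCat.of A (A ⧸ maximalIdeal A)) AA i)) :
    Nonempty (Ext (LC.quotPow (maximalIdeal A) 1) AA d ≃ₗ[A]
      LocCoh.torsionBy (maximalIdeal A) ((localCohomology (maximalIdeal A) d).obj AA)) := by
  have hrange : LinearMap.range (LC.toH (maximalIdeal A) d 1 AA) =
      LocCoh.torsionBy (maximalIdeal A) ((localCohomology (maximalIdeal A) d).obj AA) := by
    refine le_antisymm ?_ fun h hh => ?_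
    · rintro _ ⟨e, rfl⟩
      refine (Submodule.mem_torsionBySet_iff _ _).2 fun a => ?_
      rw [← map_smul, LC.smul_ext_quotPow_eq_zero _ e (by rw [pow_one]; exact a.2), map_zero]
    · exact exists_of_killed hE h fun a ha =>
        (Submodule.mem_torsionBySet_iff _ _).1 hh ⟨a, by rwa [pow_one] at ha⟩
  exact ⟨(LinearEquiv.ofInjective _ (toH_injective hE 1)).trans (LinearEquiv.ofEq _ _ hrange)⟩

end GrothLib.GrLC.SocTop
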