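import Groth.Agent.Lib.GrLC.PolyTop
import Groth.Agent.Lib.GrLC.Weak
import Mathlib.RingTheory.Regular.RegularSequence
import Mathlib.RingTheory.FiniteLength

/-!
# Cutting by an almost regular element of a module; finite length modules
-/

universe u

open DirectSum

namespace GrothLib.GrLC

open _root_.GrLC (GMod IsGrHom)

variable {ι : Type} [AddCommGroup ι] [DecidableEq ι] {R : Type u} [CommRing R] {σ : Type u} [SetLike σ R]
  [AddSubgroupClass σ R] {𝒜 : ι → σ} [GradedRing 𝒜]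

theorem van_congr_list [IsNoetherianRing R] {l l' : List (HElt 𝒜)} (h : (hspan l).toIdeal = (hspan l').toIdeal)
    (X : GMod.{u} 𝒜) (i : ℕ) (g : ι) : Van l X i g ↔ Van l' X i g :=
  (((iso_gmod_gr X).van_iff i g).symm.trans
    (Hgr_eq_bot_iff_vanish (starInjRes 𝒜 X.gr) (a := hspan l') h i g).symm).trans
    ((Hgr_eq_bot_iff_vanish (starInjRes 𝒜 X.gr) (a := hspan l') rfl i g).trans ((iso_gmod_gr X).van_iff i g))

theorem hspan_cons_eq {l : List (HElt 𝒜)} {x : HElt 𝒜} (hx : x.val ∈ (hspan l).toIdeal) :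
    (hspan (x :: l)).toIdeal = (hspan l).toIdeal := by
  refine le_antisymm (Ideal.span_le.2 ?_) (Ideal.span_mono ?_)
  · rintro r ⟨y, hy, rfl⟩
    rcases List.mem_cons.1 hy with rfl | hy
    · exact hx
    · exact Ideal.subset_span ⟨y, hy, rfl⟩
  · rintro r ⟨y, hy, rfl⟩
    exact ⟨y, List.mem_cons_of_mem _ hy, rfl⟩

theorem SES.mem_bdy_of_image_mem {A B C : GCx.{u} 𝒜} {φ : Mor A B} {ψ : Mor B C} (S : SES φ ψ) {n : ℕ} {g : ι}
    (hA : A.Vanish n g) {z : (B.X n).carrier} (hz : z ∈ B.cyc n) (hg : z ∈ (B.X n).gr g)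
    (h : ψ.f n z ∈ C.bdy n) : z ∈ B.bdy n := by
  obtain ⟨b₀, hb₀, e⟩ := S.bdy_le_map n h
  have hb₀' := B.isHomogeneous_bdy n g hb₀
  obtain ⟨a, ha, ea⟩ := S.exists_pre n (b := z - cmp (B.X n).gr g b₀)
    (sub_mem hg (cmp_mem _ g b₀)) (by rw [map_sub, (ψ.hom n).cmp, e, cmp_of_mem _ (ψ.hom n g z hg), sub_self])
  have : a ∈ A.cyc n := by
    apply S.inj (n + 1)
    rw [map_zero, ← φ.comm, ea, map_sub, show B.d n z = 0 from hz,
      show B.d n (cmp (B.X n).gr g b₀) = 0 from B.bdy_le_cyc n hb₀', sub_zero]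
  have h := add_mem (Mor.map_bdy_le φ n ⟨a, hA a this ha, rfl⟩) hb₀'
  rw [ea] at h
  rwa [← cmp_apply, sub_add_cancel] at h

/-- Vanishing from torsion and injectivity of multiplication by `x` on cohomology. -/
theorem van_of_inj_step [IsNoetherianRing R] {l : List (HElt 𝒜)} {X : GMod.{u} 𝒜} {x : HElt 𝒜} (hx : x ∈ l) {n : ℕ}
    {g : ι}
    (hinj : ∀ (k : ℕ) (w : ((cech (shift X (-x.deg)) l).X n).carrier), w ∈ (cech (shift X (-x.deg)) l).cyc n →
      w ∈ ((cech (shift X (-x.deg)) l).X n).gr (g + (k + 1) • x.deg) →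
      (cechMap (mulShift X x) (isHom_mulShift X x) l).f n w ∈ (cech X l).bdy n →
      w ∈ (cech (shift X (-x.deg)) l).bdy n) : Van l X n g := by
  intro z hz hg
  obtain ⟨K, hK⟩ := exists_pow_smul_mem_bdy hz hx
  induction K with
  | zero => simpa using hK
  | succ K ih =>
    refine ih ?_
    obtain ⟨w₀, hw₀⟩ := (cechShift_bijective X (-x.deg) l n).2 (x.val ^ K • z)
    have hy : x.val ^ K • z ∈ ((cech X l).X n).gr (g + K • x.deg) := by
      rw [add_comm g]; exact smul_mem' _ (x.pow_mem K) hg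
    have hw : (cechShift X (-x.deg) l).f n
        (cmp ((cech (shift X (-x.deg)) l).X n).gr (g + (K + 1) • x.deg) w₀) = x.val ^ K • z := by
      rw [((cechShift X (-x.deg) l).hom n).cmp, hw₀]
      have hy' : x.val ^ K • z ∈ (((cech X l).shiftBy (-x.deg)).X n).gr (g + (K + 1) • x.deg) := by
        change x.val ^ K • z ∈ ((cech X l).X n).gr (g + (K + 1) • x.deg + -x.deg)
        rwa [succ_nsmul, ← add_assoc, add_neg_cancel_right]
      exact cmp_of_mem (((cech X l).shiftBy (-x.deg)).X n).gr hy'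
    have hcyc : cmp ((cech (shift X (-x.deg)) l).X n).gr (g + (K + 1) • x.deg) w₀ ∈
        (cech (shift X (-x.deg)) l).cyc n := by
      refine LinearMap.mem_ker.2 ((cechShift_bijective X (-x.deg) l (n + 1)).1 ?_)
      rw [map_zero, ← (cechShift X (-x.deg) l).comm, hw]
      refine (map_smul ((cech X l).d n) _ _).trans ?_
      rw [show (cech X l).d n z = 0 from hz, smul_zero]
      rfl
    have hb := hinj K _ hcyc (cmp_mem _ _ _) (by
        rw [cechMap_mulShift X x l n]
        refine (congrArg (x.val • ·) hw).symm ▸ ?_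
        rw [pow_succ', mul_smul] at hK
        exact hK)
    have h2 := Mor.map_bdy_le (cechShift X (-x.deg) l) n ⟨_, hb, rfl⟩
    rw [hw] at h2
    cases n <;> exact h2

section Cut

variable {l : List (HElt 𝒜)} {X N : GMod.{u} 𝒜} {x : HElt 𝒜} (hx : x ∈ l) (p : X.carrier →ₗ[R] N.carrier)
  (hp : IsHom p) (hs : Function.Surjective p) (hexact : Function.Exact (mulShift X x) p)
  (ht : ∀ y ∈ l, ∀ m : X.carrier, x.val • m = 0 → ∃ k : ℕ, y.val ^ k • m = 0)

theorem ses_ker (l : List (HElt 𝒜)) :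
    SES
      (cechMap (X := sub (shift X (-x.deg)) (LinearMap.ker (mulShift X x)) (isHomogeneous_ker (isHom_mulShift X x)))
        (Y := shift X (-x.deg)) (LinearMap.ker (mulShift X x)).subtype
        (isHom_subtype (shift X (-x.deg)) _ (isHomogeneous_ker (isHom_mulShift X x))) l)
      (cechMap (X := shift X (-x.deg))
        (Y := sub X (LinearMap.range (mulShift X x)) (isHomogeneous_range (isHom_mulShift X x)))
        (mulShift X x).rangeRestrict (fun g m hm => isHom_mulShift X x g m hm) l) :=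
  cechMap_ses _ _ (Submodule.subtype_injective _) (LinearMap.surjective_rangeRestrict _)
    (fun v => ⟨fun (h : (mulShift X x).rangeRestrict v = 0) => ⟨(⟨v, congrArg Subtype.val h⟩ : LinearMap.ker (mulShift X x)), rfl⟩,
      by rintro ⟨w, rfl⟩; exact Subtype.ext (w : LinearMap.ker (mulShift X x)).2⟩) l

include hp hs hexact in
theorem ses_cut (l : List (HElt 𝒜)) :
    SES
      (cechMap (X := sub X (LinearMap.range (mulShift X x)) (isHomogeneous_range (isHom_mulShift X x))) (Y := X)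
        (LinearMap.range (mulShift X x)).subtype
        (isHom_subtype X _ (isHomogeneous_range (isHom_mulShift X x))) l)
      (cechMap p hp l) :=
  cechMap_ses _ _ (Submodule.subtype_injective _) hs
    (fun v => ⟨fun h => ⟨(⟨v, (hexact v).1 h⟩ : LinearMap.range (mulShift X x)), rfl⟩, by
      rintro ⟨w, rfl⟩; exact (hexact _).2 (w : LinearMap.range (mulShift X x)).2⟩) l

include ht in
theorem van_ker {n : ℕ} {g : ι} :
    Van l (sub (shift X (-x.deg)) (LinearMap.ker (mulShift X x)) (isHomogeneous_ker (isHom_mulShift X x))) (n + 1) g :=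
  van_torsion (fun y hy v => by
    obtain ⟨k, hk⟩ := ht y hy ((LinearMap.ker (mulShift X x)).subtype v) v.2
    exact ⟨k, Subtype.ext hk⟩) (Nat.succ_pos n)

include hp hs hexact ht

theorem van_cut {i : ℕ} {g : ι} (h1 : Van l X i g) (h2 : Van l X (i + 1) (g + -x.deg)) : Van l N i g :=
  (ses_cut p hp hs hexact l).vanish_right h1 ((ses_ker l).vanish_right ((van_shift _ _ _).2 h2) (van_ker ht))

include hx in
theorem van_uncut [IsNoetherianRing R] {i : ℕ} {g : ι} (h : ∀ k : ℕ, Van l N i (g + (k + 1) • x.deg)) :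
    Van l X (i + 1) g := by
  refine van_of_inj_step hx fun k w hw hwg hφ => ?_
  refine (ses_ker l).mem_bdy_of_image_mem (van_ker ht) hw hwg ?_
  refine (ses_cut p hp hs hexact l).mem_bdy_of_map_mem (h k) (Mor.hom _ _ _ w hwg) ?_
  rw [cechMap_comp]
  exact hφ

end Cut

section Torsion

variable {R : Type u} [CommRing R] {σ : Type u} [SetLike σ R] [AddSubgroupClass σ R] {𝒜 : ℤ → σ} [GradedRing 𝒜]

theorem torsion_of_isArtinian (X : GMod.{u} 𝒜) [IsArtinian R X.carrier]
    (hb : ∃ b : ℤ, ∀ g, g < b → ∀ m ∈ X.gr g, m = 0) (y : HElt 𝒜) (hy : 0 < y.deg) (m : X.carrier) :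
    ∃ k : ℕ, y.val ^ k • m = 0 := by
  obtain ⟨b, hb⟩ := hb
  obtain ⟨n, hn⟩ := IsArtinian.monotone_stabilizes
    { toFun := fun k => OrderDual.toDual (LinearMap.range (y.val ^ k • (LinearMap.id : X.carrier →ₗ[R] X.carrier)))
      monotone' := fun i j hij => by
        rintro _ ⟨a, rfl⟩
        refine ⟨y.val ^ (j - i) • a, ?_⟩
        change y.val ^ i • y.val ^ (j - i) • a = y.val ^ j • a
        rw [smul_smul, ← pow_add, Nat.add_sub_cancel' hij] }
  refine ⟨n, ?_⟩
  refine eq_zero_of_cmp X.gr fun g => ?_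
  obtain ⟨j, hj⟩ : ∃ j : ℕ, g - b < (j : ℤ) := ⟨(g - b + 1).toNat, by omega⟩
  have e : LinearMap.range (y.val ^ n • (LinearMap.id : X.carrier →ₗ[R] X.carrier)) =
      LinearMap.range (y.val ^ (n + j) • (LinearMap.id : X.carrier →ₗ[R] X.carrier)) := hn (n + j) (Nat.le_add_right n j)
  obtain ⟨a, ha⟩ := e.le ⟨m, rfl⟩
  change y.val ^ (n + j) • a = y.val ^ n • m at ha
  rw [← ha, cmp_smul_of_mem X.gr (y.pow_mem (n + j)),
    hb _ ?_ _ (cmp_mem X.gr _ a), smul_zero]
  rw [nsmul_eq_mul]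
  have : (1 : ℤ) * ((n + j : ℕ) : ℤ) ≤ y.deg * ((n + j : ℕ) : ℤ) :=
    mul_le_mul_of_nonneg_right hy (Int.natCast_nonneg _)
  rw [mul_comm (Nat.cast _)]
  push_cast at this ⊢
  omega

end Torsion

end GrothLib.GrLC
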