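import Groth.Agent.Lib.GrLC.ExtVanish
import Groth.Agent.Lib.GrLC.Tools

/-!
# Čech complexes in arbitrary linear maps; the top cohomology is right exact
-/

universe u

open DirectSum

namespace GrothLib.GrLC

open _root_.GrLC (GMod IsGrHom)

noncomputable section

variable {ι : Type} [AddCommGroup ι] [DecidableEq ι] {R : Type u} [CommRing R] {σ : Type u} [SetLike σ R]
  [AddSubgroupClass σ R] {𝒜 : ι → σ} [GradedRing 𝒜] {X Y Z : GMod.{u} 𝒜}

/-- the effect of an arbitrary linear map on Čech cochains -/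
def cLin (f : X.carrier →ₗ[R] Y.carrier) :
    ∀ (l : List (HElt 𝒜)) (n : ℕ), ((cech X l).X n).carrier →ₗ[R] ((cech Y l).X n).carrier
  | [], 0 => f
  | [], _ + 1 => 0
  | _ :: l, 0 => cLin f l 0
  | x :: l, n + 1 => LinearMap.prodMap (cLin f l (n + 1)) (locMap x (cLin f l n))

theorem cLin_eq_cechMap (f : X.carrier →ₗ[R] Y.carrier) (hf : IsHom f) :
    ∀ (l : List (HElt 𝒜)) (n : ℕ), cLin f l n = (cechMap f hf l).f n
  | [], 0 => rfl
  | [], _ + 1 => rfl
  | _ :: l, 0 => cLin_eq_cechMap f hf l 0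
  | x :: l, n + 1 => by
    change LinearMap.prodMap (cLin f l (n + 1)) (locMap x (cLin f l n)) = _
    rw [cLin_eq_cechMap f hf l (n + 1), cLin_eq_cechMap f hf l n]
    rfl

theorem cLin_add (f g : X.carrier →ₗ[R] Y.carrier) :
    ∀ (l : List (HElt 𝒜)) (n : ℕ), cLin (f + g) l n = cLin f l n + cLin g l n
  | [], 0 => rfl
  | [], _ + 1 => (add_zero _).symm
  | _ :: l, 0 => cLin_add f g l 0
  | x :: l, n + 1 => by
    change LinearMap.prodMap (cLin (f + g) l (n + 1)) (locMap x (cLin (f + g) l n)) = _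
    rw [cLin_add f g l (n + 1), cLin_add f g l n, locMap, map_add]
    exact LinearMap.ext fun z => rfl

theorem cLin_smul (r : R) (f : X.carrier →ₗ[R] Y.carrier) :
    ∀ (l : List (HElt 𝒜)) (n : ℕ), cLin (r • f) l n = r • cLin f l n
  | [], 0 => rfl
  | [], _ + 1 => (smul_zero r).symm
  | _ :: l, 0 => cLin_smul r f l 0
  | x :: l, n + 1 => by
    change LinearMap.prodMap (cLin (r • f) l (n + 1)) (locMap x (cLin (r • f) l n)) = _
    rw [cLin_smul r f l (n + 1), cLin_smul r f l n, locMap, map_smul]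
    exact LinearMap.ext fun z => rfl

/-- `cLin` as a linear map in the map -/
def cLinₗ (l : List (HElt 𝒜)) (n : ℕ) :
    (X.carrier →ₗ[R] Y.carrier) →ₗ[R] ((cech X l).X n).carrier →ₗ[R] ((cech Y l).X n).carrier where
  toFun f := cLin f l n
  map_add' f g := cLin_add f g l n
  map_smul' r f := cLin_smul r f l n

theorem cLin_comp (g : Y.carrier →ₗ[R] Z.carrier) (f : X.carrier →ₗ[R] Y.carrier) :
    ∀ (l : List (HElt 𝒜)) (n : ℕ) (z : ((cech X l).X n).carrier),
      cLin (g ∘ₗ f) l n z = cLin g l n (cLin f l n z)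
  | [], 0, _ => rfl
  | [], _ + 1, _ => rfl
  | _ :: l, 0, z => cLin_comp g f l 0 z
  | x :: l, n + 1, z => by
    refine Prod.ext (cLin_comp g f l (n + 1) z.1) ?_
    change locMap x (cLin (g ∘ₗ f) l n) z.2 = locMap x (cLin g l n) (locMap x (cLin f l n) z.2)
    obtain ⟨k, m, hm⟩ := exists_fr x z.2
    rw [← hm, locMap_fr, locMap_fr, locMap_fr, cLin_comp g f l n m]

theorem cLin_id : ∀ (l : List (HElt 𝒜)) (n : ℕ) (z : ((cech X l).X n).carrier),
    cLin (LinearMap.id : X.carrier →ₗ[R] X.carrier) l n z = z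
  | [], 0, _ => rfl
  | [], n + 1, z => (singleX_succ_eq_zero X n z).symm
  | _ :: l, 0, z => cLin_id l 0 z
  | x :: l, n + 1, z => by
    refine Prod.ext (cLin_id l (n + 1) z.1) ?_
    change locMap x (cLin LinearMap.id l n) z.2 = z.2
    obtain ⟨k, m, hm⟩ := exists_fr x z.2
    rw [← hm, locMap_fr, cLin_id l n m]

theorem cLin_comm (f : X.carrier →ₗ[R] Y.carrier) :
    ∀ (l : List (HElt 𝒜)) (n : ℕ) (z : ((cech X l).X n).carrier),
      (cech Y l).d n (cLin f l n z) = cLin f l (n + 1) ((cech X l).d n z)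
  | [], 0, _ => rfl
  | [], _ + 1, _ => rfl
  | x :: l, 0, z => Prod.ext (cLin_comm f l 0 z) (locMap_toLoc x (cLin f l 0) z).symm
  | x :: l, n + 1, z => by
    refine Prod.ext (cLin_comm f l (n + 1) z.1) ?_
    change toLoc x (cLin f l (n + 1) z.1) - locMap x ((cech Y l).d n) (locMap x (cLin f l n) z.2) =
      locMap x (cLin f l (n + 1)) (toLoc x z.1 - locMap x ((cech X l).d n) z.2)
    rw [map_sub, locMap_toLoc]
    obtain ⟨k, m, hm⟩ := exists_fr x z.2
    rw [← hm, locMap_fr, locMap_fr, locMap_fr, locMap_fr, cLin_comm f l n m]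

theorem cLin_mem_gr (f : X.carrier →ₗ[R] Y.carrier) {j : ι} (hf : ∀ g, ∀ v ∈ X.gr g, f v ∈ Y.gr (g + j)) :
    ∀ (l : List (HElt 𝒜)) (n : ℕ) (g : ι), ∀ z ∈ ((cech X l).X n).gr g,
      cLin f l n z ∈ ((cech Y l).X n).gr (g + j)
  | [], 0, g, z, hz => hf g z hz
  | [], _ + 1, _, _, _ => zero_mem _
  | _ :: l, 0, g, z, hz => cLin_mem_gr f hf l 0 g z hz
  | x :: l, n + 1, g, z, hz => by
    refine ⟨cLin_mem_gr f hf l (n + 1) g z.1 hz.1, ?_⟩
    obtain ⟨k, m, hm, e⟩ := hz.2
    refine ⟨k, cLin f l n m, ?_, ?_⟩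
    · have := cLin_mem_gr f hf l n (g + k • x.deg) m hm
      rwa [add_right_comm] at this
    · change fr x k _ = locMap x (cLin f l n) z.2
      rw [← e, locMap_fr]

theorem cLin_cyc (f : X.carrier →ₗ[R] Y.carrier) (l : List (HElt 𝒜)) (n : ℕ) {z : ((cech X l).X n).carrier}
    (hz : z ∈ (cech X l).cyc n) : cLin f l n z ∈ (cech Y l).cyc n := by
  change (cech Y l).d n (cLin f l n z) = 0
  rw [cLin_comm, show (cech X l).d n z = 0 from hz, map_zero]

theorem cLin_bdy (f : X.carrier →ₗ[R] Y.carrier) (l : List (HElt 𝒜)) : ∀ (n : ℕ) {z : ((cech X l).X n).carrier},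
    z ∈ (cech X l).bdy n → cLin f l n z ∈ (cech Y l).bdy n
  | 0, z, hz => by
    rw [(Submodule.mem_bot R).1 hz, map_zero]
    exact zero_mem _
  | n + 1, z, hz => by
    obtain ⟨b, rfl⟩ := hz
    exact ⟨cLin f l n b, cLin_comm f l n b⟩

/-- cohomology classes -/
def mkH (l : List (HElt 𝒜)) (n : ℕ) : (cech X l).cyc n →ₗ[R] ((cech X l).H n).carrier :=
  (((cech X l).bdy n).comap ((cech X l).cyc n).subtype).mkQ

theorem mkH_surjective (l : List (HElt 𝒜)) (n : ℕ) : Function.Surjective (mkH (X := X) l n) :=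
  Submodule.mkQ_surjective _

theorem mkH_eq_zero {l : List (HElt 𝒜)} {n : ℕ} {z : (cech X l).cyc n} :
    mkH l n z = 0 ↔ z.1 ∈ (cech X l).bdy n :=
  Submodule.Quotient.mk_eq_zero _

/-- the effect of a linear map on Čech cohomology -/
def hLin (l : List (HElt 𝒜)) (n : ℕ) :
    (X.carrier →ₗ[R] Y.carrier) →ₗ[R] ((cech X l).H n).carrier →ₗ[R] ((cech Y l).H n).carrier where
  toFun f := Submodule.mapQ _ _
    (((cLin f l n) ∘ₗ ((cech X l).cyc n).subtype).codRestrict _ fun z => cLin_cyc f l n z.2)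
    fun _ hz => cLin_bdy f l n hz
  map_add' f g := Submodule.linearMap_qext _ (LinearMap.ext fun z => congrArg (mkH (X := Y) l n) (Subtype.ext
    (LinearMap.congr_fun (cLin_add f g l n) z.1)))
  map_smul' r f := Submodule.linearMap_qext _ (LinearMap.ext fun z => congrArg (mkH (X := Y) l n) (Subtype.ext
    (LinearMap.congr_fun (cLin_smul r f l n) z.1)))

theorem hLin_mkH (f : X.carrier →ₗ[R] Y.carrier) (l : List (HElt 𝒜)) (n : ℕ) (z : (cech X l).cyc n) :
    hLin l n f (mkH l n z) = mkH l n ⟨cLin f l n z.1, cLin_cyc f l n z.2⟩ := rfl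

theorem hLin_comp (g : Y.carrier →ₗ[R] Z.carrier) (f : X.carrier →ₗ[R] Y.carrier) (l : List (HElt 𝒜)) (n : ℕ)
    (h : ((cech X l).H n).carrier) : hLin l n (g ∘ₗ f) h = hLin l n g (hLin l n f h) := by
  obtain ⟨z, rfl⟩ := mkH_surjective l n h
  exact congrArg (mkH (X := Z) l n) (Subtype.ext (cLin_comp g f l n z.1))

theorem hLin_id (l : List (HElt 𝒜)) (n : ℕ) (h : ((cech X l).H n).carrier) :
    hLin l n (LinearMap.id : X.carrier →ₗ[R] X.carrier) h = h := by
  obtain ⟨z, rfl⟩ := mkH_surjective l n h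
  exact congrArg (mkH (X := X) l n) (Subtype.ext (cLin_id l n z.1))

theorem hLin_mem_gr (f : X.carrier →ₗ[R] Y.carrier) {j : ι} (hf : ∀ g, ∀ v ∈ X.gr g, f v ∈ Y.gr (g + j))
    (l : List (HElt 𝒜)) (n : ℕ) (g : ι) {h : ((cech X l).H n).carrier} (hh : h ∈ ((cech X l).H n).gr g) :
    hLin l n f h ∈ ((cech Y l).H n).gr (g + j) := by
  obtain ⟨z, hz, rfl⟩ := hh
  exact ⟨⟨cLin f l n z.1, cLin_cyc f l n z.2⟩, cLin_mem_gr f hf l n g z.1 hz, rfl⟩

variable [IsNoetherianRing R]

theorem isHom_linearCombination {κ : Type u} [Fintype κ] (deg : κ → ι) (gen : κ → X.carrier)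
    (hgen : ∀ a, gen a ∈ X.gr (deg a)) :
    IsHom (X := pi fun a : κ => shift (gmod 𝒜 𝒜) (-deg a))
      (Fintype.linearCombination R gen : (κ → R) →ₗ[R] X.carrier) := fun g (v : κ → R) hv => by
  change Fintype.linearCombination R gen v ∈ X.gr g
  rw [Fintype.linearCombination_apply]
  refine sum_mem fun a _ => ?_
  have := smul_mem' X.gr (show v a ∈ 𝒜 (g + -deg a) from hv a trivial) (hgen a)
  rwa [neg_add_cancel_right] at this

/-- multiplication with an element -/
abbrev spanMap (v : X.carrier) : (gmod 𝒜 𝒜).carrier →ₗ[R] X.carrier := LinearMap.toSpanSingleton R X.carrier v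

/-- The top cohomology is spanned by the images of the top cohomology of the ring. -/
theorem exists_sum_hLin (l : List (HElt 𝒜)) (n : ℕ)
    (hac : ∀ K : GMod.{u} 𝒜, Module.Finite R K.carrier → ∀ g, Van l K (n + 1) g)
    {κ : Type u} [Fintype κ] (deg : κ → ι) (gen : κ → X.carrier) (hgen : ∀ a, gen a ∈ X.gr (deg a))
    (hspan : Submodule.span R (Set.range gen) = ⊤) (h : ((cech X l).H n).carrier) :
    ∃ z : κ → ((cech (gmod 𝒜 𝒜) l).H n).carrier, h = ∑ a, hLin l n (spanMap (gen a)) (z a) := by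
  classical
  let F : GMod.{u} 𝒜 := pi fun a : κ => shift (gmod 𝒜 𝒜) (-deg a)
  let p : F.carrier →ₗ[R] X.carrier := (Fintype.linearCombination R gen : (κ → R) →ₗ[R] X.carrier)
  have hp : IsHom p := isHom_linearCombination deg gen hgen
  have hs : Function.Surjective p := by
    change Function.Surjective (Fintype.linearCombination R gen : (κ → R) →ₗ[R] X.carrier)
    rw [← LinearMap.range_eq_top, Fintype.range_linearCombination, hspan]
  let K : GMod.{u} 𝒜 := sub F (LinearMap.ker p) (isHomogeneous_ker hp)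
  have : IsNoetherian R F.carrier := (inferInstance : IsNoetherian R (κ → R))
  have hK : Module.Finite R K.carrier := (inferInstance : Module.Finite R (LinearMap.ker p))
  let i : K.carrier →ₗ[R] F.carrier := (LinearMap.ker p).subtype
  have S := cechMap_ses (X := K) (Y := F) (Z := X) (isHom_subtype F _ (isHomogeneous_ker hp)) hp
    (Submodule.subtype_injective _) hs (LinearMap.exact_subtype_ker_map p) l
  obtain ⟨z, rfl⟩ := mkH_surjective l n h
  obtain ⟨b, hb⟩ := S.surj n z.1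
  obtain ⟨a, ha⟩ := (S.exact (n + 1) ((cech F l).d n b)).1 (by rw [← (cechMap p hp l).comm, hb]; exact z.2)
  have hac' : a ∈ (cech K l).cyc (n + 1) := by
    apply S.inj (n + 1 + 1)
    rw [map_zero, ← (cechMap i _ l).comm, ha, (cech F l).d_d]
  obtain ⟨a', ha'⟩ := ((cech K l).acyclic_iff (n + 1)).2 (hac K hK) hac'
  let b' := b - (cechMap i (isHom_subtype F _ (isHomogeneous_ker hp)) l).f n a'
  have hb' : b' ∈ (cech F l).cyc n := by
    change (cech F l).d n (b - _) = 0
    rw [map_sub, (cechMap i _ l).comm, ha', ha, sub_self]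
  refine ⟨fun c => hLin l n (Y := gmod 𝒜 𝒜) (LinearMap.proj c : (κ → R) →ₗ[R] R) (mkH l n ⟨b', hb'⟩), ?_⟩
  have hid : ∑ c : κ, (spanMap (gen c)) ∘ₗ (LinearMap.proj c : (κ → R) →ₗ[R] R) = p := LinearMap.ext fun (v : κ → R) => by
    rw [LinearMap.sum_apply]
    exact (Fintype.linearCombination_apply R gen v).symm
  simp only [← hLin_comp]
  rw [← LinearMap.sum_apply, ← map_sum (hLin (X := F) (Y := X) l n)]
  refine Eq.trans ?_ (congrArg (fun f : F.carrier →ₗ[R] X.carrier => hLin l n f (mkH l n ⟨b', hb'⟩)) hid).symm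
  refine congrArg (mkH (X := X) l n) (Subtype.ext ?_)
  change z.1 = cLin p l n (b - _)
  rw [cLin_eq_cechMap p hp, map_sub, hb, S.psi_phi, sub_zero]

/-- Relations among classes in the top cohomology come from syzygies. -/
theorem exists_syzygy_of_sum_hLin (l : List (HElt 𝒜)) (n : ℕ)
    (hac : ∀ K : GMod.{u} 𝒜, Module.Finite R K.carrier → ∀ g, Van l K (n + 1) g)
    {κ : Type u} [Fintype κ] (deg : κ → ι) (gen : κ → X.carrier) (hgen : ∀ a, gen a ∈ X.gr (deg a))
    (hspan : Submodule.span R (Set.range gen) = ⊤) (z : κ → ((cech (gmod 𝒜 𝒜) l).H n).carrier)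
    (hz : ∑ a, hLin l n (spanMap (gen a)) (z a) = 0) :
    ∃ (μ : Type u) (_ : Fintype μ) (w : μ → κ → R) (y : μ → ((cech (gmod 𝒜 𝒜) l).H n).carrier),
      (∀ c, ∑ a, w c a • gen a = 0) ∧ ∀ a, z a = ∑ c, w c a • y c := by
  classical
  let F : GMod.{u} 𝒜 := pi fun a : κ => shift (gmod 𝒜 𝒜) (-deg a)
  let p : F.carrier →ₗ[R] X.carrier := (Fintype.linearCombination R gen : (κ → R) →ₗ[R] X.carrier)
  have hp : IsHom p := isHom_linearCombination deg gen hgen
  have hs : Function.Surjective p := by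
    change Function.Surjective (Fintype.linearCombination R gen : (κ → R) →ₗ[R] X.carrier)
    rw [← LinearMap.range_eq_top, Fintype.range_linearCombination, hspan]
  let K : GMod.{u} 𝒜 := sub F (LinearMap.ker p) (isHomogeneous_ker hp)
  have : IsNoetherian R F.carrier := (inferInstance : IsNoetherian R (κ → R))
  have hK : Module.Finite R K.carrier := (inferInstance : Module.Finite R (LinearMap.ker p))
  let i : K.carrier →ₗ[R] F.carrier := (LinearMap.ker p).subtype
  have hi : IsHom i := isHom_subtype F _ (isHomogeneous_ker hp)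
  have S := cechMap_ses (X := K) (Y := F) (Z := X) hi hp (Submodule.subtype_injective _) hs
    (LinearMap.exact_subtype_ker_map p) l
  let sgl : κ → ((gmod 𝒜 𝒜).carrier →ₗ[R] F.carrier) := fun a =>
    (LinearMap.single R (fun _ : κ => R) a : R →ₗ[R] κ → R)
  let pr : κ → (F.carrier →ₗ[R] (gmod 𝒜 𝒜).carrier) := fun a => (LinearMap.proj a : (κ → R) →ₗ[R] R)
  have hps : ∀ a, p ∘ₗ sgl a = spanMap (gen a) := fun a => LinearMap.ext_ring (by
    change Fintype.linearCombination R gen (Pi.single a (1 : R)) = (1 : R) • gen a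
    rw [Fintype.linearCombination_apply_single, one_smul])
  let h' := ∑ a, hLin l n (sgl a) (z a)
  have hpr : ∀ a, hLin l n (pr a) h' = z a := by
    intro a
    rw [map_sum, Finset.sum_eq_single a]
    · rw [← hLin_comp, show pr a ∘ₗ sgl a = LinearMap.id from LinearMap.ext fun (r : R) => Pi.single_eq_same (M := fun _ : κ => R) a r,
        hLin_id]
    · intro b _ hb
      rw [← hLin_comp, show pr a ∘ₗ sgl b = 0 from LinearMap.ext fun (r : R) => Pi.single_eq_of_ne (M := fun _ : κ => R) (Ne.symm hb) r,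
        map_zero, LinearMap.zero_apply]
    · exact fun h => absurd (Finset.mem_univ a) h
  have hp0 : hLin l n p h' = 0 := by
    rw [map_sum]
    simpa only [← hLin_comp, hps] using hz
  obtain ⟨⟨b, hb⟩, hbh⟩ := mkH_surjective l n h'
  rw [← hbh, hLin_mkH, mkH_eq_zero] at hp0
  have hpb : (cechMap p hp l).f n b ∈ (cech X l).bdy n := cLin_eq_cechMap p hp l n ▸ hp0
  obtain ⟨b₀, hb₀, hb₀e⟩ := S.bdy_le_map n hpb
  obtain ⟨a, ha⟩ := (S.exact n (b - b₀)).1 (by rw [map_sub, hb₀e, sub_self])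
  have hac' : a ∈ (cech K l).cyc n := by
    apply S.inj (n + 1)
    rw [map_zero, ← (cechMap i hi l).comm, ha, map_sub, show (cech F l).d n b = 0 from hb,
      show (cech F l).d n b₀ = 0 from (cech F l).bdy_le_cyc n hb₀, sub_zero]
  have hlift : hLin l n i (mkH l n ⟨a, hac'⟩) = h' := by
    rw [← hbh, hLin_mkH, ← sub_eq_zero, ← map_sub, mkH_eq_zero]
    change cLin i l n a - b ∈ _
    rw [cLin_eq_cechMap i hi, ha, sub_sub_cancel_left]
    exact neg_mem hb₀
  obtain ⟨μ, _, degK, genK, hgenK, hspanK⟩ := exists_homogeneous_generators K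
  obtain ⟨y, hy⟩ := exists_sum_hLin l n hac degK genK hgenK hspanK (mkH l n ⟨a, hac'⟩)
  let cf : μ → κ → R := fun c e => (show κ → R from i (genK c)) e
  refine ⟨μ, inferInstance, cf, y, fun c => ?_, fun e => ?_⟩
  · exact (Fintype.linearCombination_apply R gen (i (genK c) : κ → R)).symm.trans (genK c).2
  · rw [← hpr e, ← hlift, hy, map_sum, map_sum]
    refine Finset.sum_congr rfl fun c _ => ?_
    rw [← hLin_comp, ← hLin_comp,
      show (pr e ∘ₗ i) ∘ₗ spanMap (genK c) = cf c e • (LinearMap.id : (gmod 𝒜 𝒜).carrier →ₗ[R] _) from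
        LinearMap.ext_ring (by
        change (show κ → R from i ((1 : R) • genK c)) e = cf c e * (1 : R)
        rw [one_smul, mul_one]),
      map_smul, LinearMap.smul_apply, hLin_id]

end

end GrothLib.GrLC
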