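import Groth.Agent.Lib.GrLC.Tools

/-!
# Local cohomology from a complex with acyclic terms and torsion cohomology
-/

universe u

open DirectSum

namespace GrothLib.GrLC

open _root_.GrLC (GMod IsGrHom gam)

variable {ι : Type} [AddCommGroup ι] [DecidableEq ι] {R : Type u} [CommRing R] {σ : Type u} [SetLike σ R]
  [AddSubgroupClass σ R] {𝒜 : ι → σ} [GradedRing 𝒜]

/-- A subquotient is any graded module receiving the cocycles onto with kernel the boundaries. -/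
theorem iso_subquot_of_surj {X Y : GMod.{u} 𝒜} {P B : Submodule R X.carrier} (hP : P.IsHomogeneous X.gr)
    (hB : B.IsHomogeneous X.gr) (π : P →ₗ[R] Y.carrier) (hπ : IsHom (X := sub X P hP) π)
    (hs : Function.Surjective π) (hk : LinearMap.ker π = B.comap P.subtype) : Iso (subquot X P B hP hB) Y := by
  refine ⟨((Submodule.quotEquivOfEq _ _ hk.symm).trans (π.quotKerEquivOfSurjective hs)), ?_⟩
  rintro g _ ⟨z, hz, rfl⟩
  exact hπ g z hz

namespace SES

variable {A B C : GCx.{u} 𝒜} {φ : Mor A B} {ψ : Mor B C} (S : SES φ ψ)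

include S

/-- The quotient complex being acyclic, the subcomplex computes the middle one. -/
theorem iso_left (n : ℕ) (hC : C.Acyclic n) (hC' : C.Acyclic (n + 1)) : Iso (A.H (n + 1)) (B.H (n + 1)) := by
  refine iso_of_rel _ _ _ _ _ _ _ _
    (((A.cyc (n + 1)).map (LinearMap.id.prod (φ.f (n + 1)))) ⊔ Submodule.prod ⊥ (B.bdy (n + 1))) ?_ ?_ ?_
  · intro z w h
    obtain ⟨_, ⟨a, ha, rfl⟩, ⟨z', w'⟩, ⟨hz', hw'⟩, e⟩ := Submodule.mem_sup.1 h
    obtain ⟨rfl, rfl⟩ : a + z' = z ∧ φ.f (n + 1) a + w' = w := Prod.ext_iff.1 e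
    obtain rfl : z' = 0 := (Submodule.mem_bot R).1 hz'
    rw [add_zero]
    refine ⟨ha, add_mem (Mor.map_cyc_le φ _ ⟨a, ha, rfl⟩) (B.bdy_le_cyc _ hw'), fun hb =>
      add_mem (Mor.map_bdy_le φ _ ⟨a, hb, rfl⟩) hw', fun hb => ?_⟩
    obtain ⟨v, hv⟩ : φ.f (n + 1) a ∈ B.bdy (n + 1) := by simpa using sub_mem hb hw'
    obtain ⟨c, hc, hcv⟩ := S.bdy_le_map n (hC (show ψ.f n v ∈ C.cyc n by
      change C.d n (ψ.f n v) = 0
      rw [ψ.comm, hv, S.psi_phi]))
    obtain ⟨a', ha'⟩ := (S.exact n (v - c)).1 (by rw [map_sub, hcv, sub_self])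
    refine ⟨a', S.inj (n + 1) ?_⟩
    rw [← φ.comm, ha', map_sub, show B.d n c = 0 from B.bdy_le_cyc n hc, sub_zero, hv]
  · intro w hw
    obtain ⟨b, hb, hbw⟩ := S.bdy_le_map (n + 1) (hC' (Mor.map_cyc_le ψ (n + 1) ⟨w, hw, rfl⟩))
    obtain ⟨a, ha⟩ := (S.exact (n + 1) (w - b)).1 (by rw [map_sub, hbw, sub_self])
    have hac : a ∈ A.cyc (n + 1) := by
      apply S.inj (n + 1 + 1)
      rw [map_zero, ← φ.comm, ha, map_sub, show B.d (n + 1) w = 0 from hw,
        show B.d (n + 1) b = 0 from B.bdy_le_cyc (n + 1) hb, sub_zero]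
    exact ⟨a, Submodule.mem_sup.2 ⟨_, ⟨a, hac, rfl⟩, (0, b), ⟨zero_mem _, hb⟩,
      Prod.ext (add_zero a) (by change φ.f (n + 1) a + b = w; rw [ha, sub_add_cancel])⟩⟩
  · exact fun g z hz hg => ⟨φ.f (n + 1) z, φ.hom _ g z hg, Submodule.mem_sup_left ⟨z, hz, rfl⟩⟩

/-- The subcomplex being acyclic, the quotient computes the middle one. -/
theorem iso_right (n : ℕ) (hA : A.Acyclic n) (hA' : A.Acyclic (n + 1)) : Iso (B.H n) (C.H n) := by
  refine iso_of_rel _ _ _ _ _ _ _ _ ((B.cyc n).map (LinearMap.id.prod (ψ.f n))) ?_ ?_ ?_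
  · rintro z w ⟨x, hx, e⟩
    obtain ⟨rfl, rfl⟩ := Prod.ext_iff.1 e
    refine ⟨hx, Mor.map_cyc_le ψ n ⟨_, hx, rfl⟩, fun h => Mor.map_bdy_le ψ n ⟨_, h, rfl⟩, fun h => ?_⟩
    obtain ⟨b, hb, hbx⟩ := S.bdy_le_map n h
    obtain ⟨a, ha⟩ := (S.exact n (x - b)).1 (by rw [map_sub, hbx]; exact sub_self _)
    have hac : a ∈ A.cyc n := by
      apply S.inj (n + 1)
      rw [map_zero, ← φ.comm, ha, map_sub, show B.d n x = 0 from hx,
        show B.d n b = 0 from B.bdy_le_cyc n hb, sub_zero]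
    have h' := add_mem (Mor.map_bdy_le φ n ⟨a, hA hac, rfl⟩) hb
    rwa [ha, sub_add_cancel] at h'
  · intro w hw
    obtain ⟨b, rfl⟩ := S.surj n w
    obtain ⟨a, ha⟩ := (S.exact (n + 1) (B.d n b)).1 (by rw [← ψ.comm]; exact hw)
    have hac : a ∈ A.cyc (n + 1) := by
      apply S.inj (n + 1 + 1)
      rw [map_zero, ← φ.comm, ha, B.d_d]
    obtain ⟨a₀, ha₀⟩ := hA' hac
    refine ⟨b - φ.f n a₀, b - φ.f n a₀, ?_, ?_⟩
    · change B.d n (b - φ.f n a₀) = 0
      rw [map_sub, φ.comm, ha₀, ha, sub_self]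
    · exact Prod.ext rfl ((map_sub _ _ _).trans (by rw [S.psi_phi, sub_zero]))
  · exact fun g z hz hg => ⟨ψ.f n z, ψ.hom n g z hg, z, hz, rfl⟩

end SES

variable {l : List (HElt 𝒜)}

theorem acyclic_of_torsion {X : GMod.{u} 𝒜} (h : ∀ y ∈ l, ∀ m : X.carrier, ∃ k : ℕ, y.val ^ k • m = 0) (n : ℕ) :
    (cech X l).Acyclic (n + 1) :=
  ((cech X l).acyclic_iff _).2 fun g => van_torsion h (i := n + 1) (g := g) (Nat.succ_pos n)

theorem acyclic_zero_of_injective {X Y : GMod.{u} 𝒜} (f : X.carrier →ₗ[R] Y.carrier) (hf : IsHom f)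
    (hinj : Function.Injective f) (h : (cech Y l).Acyclic 0) : (cech X l).Acyclic 0 := by
  intro z hz
  obtain ⟨m, rfl⟩ := (inc0_bijective X l).2 z
  have h1 := h (show inc0 Y l (f m) ∈ (cech Y l).cyc 0 from
    (mem_cyc_zero l _).2 (map_gam f ((mem_cyc_zero l m).1 hz)))
  have h2 : f m = 0 := (inc0_bijective Y l).1 (((Submodule.mem_bot R).1 h1).trans (map_zero _).symm)
  rw [show m = 0 from hinj (h2.trans (map_zero _).symm), map_zero]
  exact zero_mem _

theorem iso_H_zero_of_torsion {X : GMod.{u} 𝒜} (h : ∀ y ∈ l, ∀ m : X.carrier, ∃ k : ℕ, y.val ^ k • m = 0) :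
    Iso X ((cech X l).H 0) := by
  let f : X.carrier →ₗ[R] (cech X l).cyc 0 := (inc0 X l).codRestrict _ fun m =>
    (mem_cyc_zero l m).2 ((forall_list_iff_mem_gam l m).1 fun y hy => h y hy m)
  refine ⟨LinearEquiv.ofBijective ((Submodule.mkQ _) ∘ₗ f) ⟨fun a b hab => ?_, fun q => ?_⟩, fun g m hm => ?_⟩
  · have := (Submodule.Quotient.eq _).1 hab
    exact (inc0_bijective X l).1 (sub_eq_zero.1 ((Submodule.mem_bot R).1 this))
  · obtain ⟨⟨z, hz⟩, rfl⟩ := Submodule.mkQ_surjective _ q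
    obtain ⟨m, rfl⟩ := (inc0_bijective X l).2 z
    exact ⟨m, rfl⟩
  · exact ⟨f m, isHom_inc0 X l g m hm, rfl⟩

namespace GCx

variable (A : GCx.{u} 𝒜)

/-- cocycles -/
noncomputable abbrev Zm (n : ℕ) : GMod.{u} 𝒜 := sub (A.X n) (A.cyc n) (A.isHomogeneous_cyc n)

/-- coboundaries -/
noncomputable abbrev Bm (n : ℕ) : GMod.{u} 𝒜 := sub (A.X n) (A.bdy n) (A.isHomogeneous_bdy n)

/-- inclusion of the coboundaries -/
noncomputable def inBZ (n : ℕ) : (A.Bm n).carrier →ₗ[R] (A.Zm n).carrier :=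
  Submodule.inclusion (A.bdy_le_cyc n)

/-- the differential onto the coboundaries -/
noncomputable def toB (n : ℕ) : (A.X n).carrier →ₗ[R] (A.Bm (n + 1)).carrier :=
  (A.d n).codRestrict _ fun x => ⟨x, rfl⟩

theorem ses_ZB (n : ℕ) (l : List (HElt 𝒜)) :
    SES (cechMap (X := A.Zm n) (Y := A.X n) (A.cyc n).subtype (isHom_subtype (A.X n) _ (A.isHomogeneous_cyc n)) l)
      (cechMap (X := A.X n) (Y := A.Bm (n + 1)) (A.toB n) (fun g x hx => A.d_hom n g x hx) l) :=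
  cechMap_ses _ _ (Submodule.subtype_injective _)
    (fun z => by obtain ⟨x, hx⟩ := z.2; exact ⟨x, Subtype.ext hx⟩)
    (fun x => ⟨fun (h : A.toB n x = 0) => ⟨(⟨x, congrArg Subtype.val h⟩ : A.cyc n), rfl⟩,
      by rintro ⟨z, rfl⟩; exact Subtype.ext z.2⟩) l

/-- the cocycles onto cohomology -/
noncomputable def qH (n : ℕ) : (A.Zm n).carrier →ₗ[R] (A.H n).carrier :=
  Submodule.mkQ ((A.bdy n).comap (A.cyc n).subtype)

theorem isHom_qH (n : ℕ) : IsHom (A.qH n) :=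
  isHom_mkQ (A.Zm n) _ (isHomogeneous_comap (isHom_subtype (A.X n) _ (A.isHomogeneous_cyc n))
    (A.isHomogeneous_bdy n))

theorem ses_BH (n : ℕ) (l : List (HElt 𝒜)) :
    SES (cechMap (X := A.Bm n) (Y := A.Zm n) (A.inBZ n) (fun _ _ hx => hx) l)
      (cechMap (X := A.Zm n) (Y := A.H n) (A.qH n) (A.isHom_qH n) l) :=
  cechMap_ses (X := A.Bm n) (Y := A.Zm n) (Z := A.H n) (f := A.inBZ n)
    (g := A.qH n) _ _ (Submodule.inclusion_injective (A.bdy_le_cyc n))
    (Submodule.mkQ_surjective ((A.bdy n).comap (A.cyc n).subtype))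
    (fun x => by
      constructor
      · intro h
        exact ⟨(⟨x.1, (Submodule.Quotient.mk_eq_zero ((A.bdy n).comap (A.cyc n).subtype)).1 h⟩ : A.bdy n), rfl⟩
      · rintro ⟨z, rfl⟩
        exact (Submodule.Quotient.mk_eq_zero ((A.bdy n).comap (A.cyc n).subtype)).2 z.2) l

variable {A} (hac : ∀ n i g, Van l (A.X (n + 1)) i g)
  (htor : ∀ n, ∀ z ∈ A.cyc n, ∀ y ∈ l, ∃ K : ℕ, y.val ^ K • z ∈ A.bdy n)

include htor

theorem H_torsion (n : ℕ) : ∀ y ∈ l, ∀ m : (A.H n).carrier, ∃ k : ℕ, y.val ^ k • m = 0 := by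
  intro y hy m
  obtain ⟨⟨z, hz⟩, rfl⟩ := Submodule.mkQ_surjective _ m
  obtain ⟨K, hK⟩ := htor n z hz y hy
  exact ⟨K, (map_smul ((A.bdy n).comap (A.cyc n).subtype).mkQ _ _).symm.trans ((Submodule.Quotient.mk_eq_zero _).2 hK)⟩

include hac

theorem iso_shift_B (i n : ℕ) :
    Iso ((cech (A.Bm (n + 2)) l).H (i + 1)) ((cech (A.Bm (n + 1)) l).H (i + 2)) := by
  have ha : ∀ j, (cech (A.X (n + 1)) l).Acyclic j := fun j => ((cech _ l).acyclic_iff j).2 fun g => hac n j g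
  have ht := H_torsion htor (n + 1)
  exact ((A.ses_ZB (n + 1) l).iso_shift (i + 1) (ha _) (ha _)).trans
    ((A.ses_BH (n + 1) l).iso_left (i + 1) (acyclic_of_torsion ht i) (acyclic_of_torsion ht (i + 1))).symm

theorem iso_shift_B_iter : ∀ j i : ℕ, Iso ((cech (A.Bm (j + 1)) l).H (i + 1)) ((cech (A.Bm 1) l).H (i + 1 + j))
  | 0, i => Iso.refl _
  | j + 1, i => by
    have h := (iso_shift_B hac htor i j).trans (iso_shift_B_iter j (i + 1))
    rwa [show i + 1 + 1 + j = i + 1 + (j + 1) by omega] at h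

theorem iso_H_succ (n : ℕ) : Iso (A.H (n + 1)) ((cech (A.Bm (n + 1)) l).H 1) := by
  have ha : ∀ j, (cech (A.X (n + 1)) l).Acyclic j := fun j => ((cech _ l).acyclic_iff j).2 fun g => hac n j g
  have hB2 : (cech (A.Bm (n + 2)) l).Acyclic 0 :=
    acyclic_zero_of_injective (A.bdy (n + 2)).subtype (isHom_subtype (A.X (n + 2)) _ (A.isHomogeneous_bdy _))
      (Submodule.subtype_injective _) (((cech _ l).acyclic_iff 0).2 fun g => hac (n + 1) 0 g)
  have hZ0 : (cech (A.Zm (n + 1)) l).Acyclic 0 :=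
    acyclic_zero_of_injective (A.cyc (n + 1)).subtype (isHom_subtype (A.X (n + 1)) _ (A.isHomogeneous_cyc _))
      (Submodule.subtype_injective _) (ha 0)
  have hZ1 : (cech (A.Zm (n + 1)) l).Acyclic 1 := by
    refine ((cech _ l).acyclic_iff 1).2 fun g => ?_
    exact (A.ses_ZB (n + 1) l).vanish_left (((cech _ l).acyclic_iff 0).1 hB2 g) (hac n 1 g)
  have h := (A.ses_BH (n + 1) l).iso_connecting 0 hZ1
  simp only [(A.ses_BH (n + 1) l).map_cyc_eq_bdy 0 hZ0] at h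
  exact (iso_H_zero_of_torsion (H_torsion htor (n + 1))).trans h

/-- Acyclic terms and torsion cohomology compute the local cohomology of the first term. -/
theorem iso_cech_of_acyclic : ∀ q : ℕ, Iso ((cech (A.X 0) l).H q) (A.H q)
  | 0 => by
    have hB1 : (cech (A.Bm 1) l).Acyclic 0 :=
      acyclic_zero_of_injective (A.bdy 1).subtype (isHom_subtype (A.X 1) _ (A.isHomogeneous_bdy _))
        (Submodule.subtype_injective _) (((cech _ l).acyclic_iff 0).2 fun g => hac 0 0 g)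
    refine Iso.symm (iso_of_rel _ _ _ _ _ _ _ _ ((A.cyc 0).map (LinearMap.id.prod (inc0 (A.X 0) l))) ?_ ?_ ?_)
    · rintro z w ⟨x, hx, e⟩
      obtain ⟨rfl, rfl⟩ := Prod.ext_iff.1 e
      refine ⟨hx, (mem_cyc_zero l x).2 ((forall_list_iff_mem_gam l x).1 fun y hy => ?_), fun h => ?_, fun h => ?_⟩
      · obtain ⟨K, hK⟩ := htor 0 x hx y hy
        exact ⟨K, (Submodule.mem_bot R).1 hK⟩
      · change inc0 (A.X 0) l x ∈ (⊥ : Submodule R _)
        rw [show x = 0 from (Submodule.mem_bot R).1 h, map_zero]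
        exact zero_mem _
      · exact (Submodule.mem_bot R).2 ((inc0_bijective (A.X 0) l).1
          (((Submodule.mem_bot R).1 h).trans (map_zero _).symm))
    · intro w hw
      obtain ⟨x, rfl⟩ := (inc0_bijective (A.X 0) l).2 w
      refine ⟨x, x, ?_, rfl⟩
      have h := hB1 (show inc0 (A.Bm 1) l (A.toB 0 x) ∈ (cech (A.Bm 1) l).cyc 0 from
        (mem_cyc_zero l _).2 (map_gam (A.toB 0) ((mem_cyc_zero l x).1 hw)))
      have h' : A.toB 0 x = 0 := (inc0_bijective (A.Bm 1) l).1 (((Submodule.mem_bot R).1 h).trans (map_zero _).symm)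
      exact congrArg Subtype.val h'
    · exact fun g z hz hg => ⟨inc0 _ l z, isHom_inc0 _ l g z hg, z, hz, rfl⟩
  | q + 1 => by
    have ht : ∀ y ∈ l, ∀ m : (A.Zm 0).carrier, ∃ k : ℕ, y.val ^ k • m = 0 := fun y hy m => by
      obtain ⟨K, hK⟩ := htor 0 m.1 m.2 y hy
      exact ⟨K, Subtype.ext ((Submodule.mem_bot R).1 hK)⟩
    have h1 := (A.ses_ZB 0 l).iso_right (q + 1) (acyclic_of_torsion ht q) (acyclic_of_torsion ht (q + 1))
    have h2 := iso_shift_B_iter hac htor q 0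
    rw [zero_add, show 1 + q = q + 1 by omega] at h2
    exact h1.trans (h2.symm.trans (iso_H_succ hac htor q).symm)

end GCx

end GrothLib.GrLC
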