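import Groth.Agent.Lib.GrLC.CanonGor
import Groth.Agent.Lib.CanonMod.Ass
import Mathlib.RingTheory.Ideal.KrullsHeightTheorem

/-!
# A canonical module of a standard graded ring of dimension at least two grows
-/

universe u

open CategoryTheory

namespace GrothLib.GrLC

open _root_.GrLC (deg0)

noncomputable section

variable {R : Type u} [CommRing R] [IsNoetherianRing R] {σ : Type u} [SetLike σ R] [AddSubgroupClass σ R] {𝒜 : ℤ → σ}
  [GradedRing 𝒜] (hpos : ∀ n : ℤ, n < 0 → ∀ r ∈ 𝒜 n, r = 0) (h0 : IsField (deg0 𝒜))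
  {m : HomogeneousIdeal 𝒜} (hm : _root_.GrLC.IsStarLocal 𝒜 m)
  (hirr : ∀ n : ℤ, 0 < n → ∀ r ∈ 𝒜 n, r ∈ m.toIdeal)
  (hstd : m.toIdeal ≤ Ideal.span (𝒜 1 : Set R))
  {n : ℕ} (hn : ringKrullDim R = n) (h2 : 2 ≤ n)
  {E' : Type u} [AddCommGroup E'] [Module R E'] {𝓔 : ℤ → AddSubgroup E'} [DirectSum.Decomposition 𝓔]
  [SetLike.GradedSMul 𝒜 𝓔] {e : (R ⧸ m.toIdeal) →ₗ[R] E'}
  (he : _root_.GrLC.IsStarInjHull 𝒜 (_root_.GrLC.quotGr 𝒜 m) 𝓔 e)
  {I : _root_.GrLC.StarInjRes 𝒜 𝒜}
  {C : Type u} [AddCommGroup C] [Module R C] {𝒞 : ℤ → AddSubgroup C} [DirectSum.Decomposition 𝒞]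
  [SetLike.GradedSMul 𝒜 𝒞] (hC : _root_.GrLC.IsStarCanonical 𝒜 𝒞 𝓔 m n I)

include hpos h0 hm hirr hstd hn h2 he hC in
/-- Above a nonzero degree, a piece of a canonical module has two independent elements. -/
theorem exists_two_indep {a j : ℤ} {x : C} (hx : x ∈ 𝒞 a) (hx0 : x ≠ 0) (hj : a < j) :
    ∃ u v : C, u ∈ 𝒞 j ∧ v ∈ 𝒞 j ∧ ∀ c d : deg0 𝒜, (c : R) • u + (d : R) • v = 0 → c = 0 ∧ d = 0 := by
  classical
  have := isMaximal_of_isStarLocal hpos hm
  let A := Localization.AtPrime m.toIdeal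
  let mk := LocalizedModule.mkLinearMap m.toIdeal.primeCompl C
  obtain ⟨E₀, _, _, f, hf, ⟨eK⟩⟩ := exists_local_canonical he hC
  have hd := ringKrullDim_localization hpos hm hn
  have hv : mk x ≠ 0 := fun h => by
    obtain ⟨s, hs⟩ := (IsLocalizedModule.eq_zero_iff m.toIdeal.primeCompl mk).1 h
    exact hx0 ((Submodule.mem_bot R).1 (mem_of_smul_mem hpos (isUnit_cmp_zero hpos h0 hirr s.2) (gmod 𝒜 𝒞)
      isHomogeneous_bot ((Submodule.mem_bot R).2 hs)))
  let q : Ideal A := LinearMap.ker (LinearMap.toSpanSingleton A _ (mk x))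
  have hq : ringKrullDim (A ⧸ q) = n :=
    GrothLib.CanonMod.dim_quotient_eq_of_hom_ne_zero hd hf eK hv fun a ha => LinearMap.mem_ker.1 ha
  have hker : ∀ r : R, r • x = 0 → algebraMap R A r ∈ q := fun r hr => by
    rw [LinearMap.mem_ker, LinearMap.toSpanSingleton_apply, algebraMap_smul, ← map_smul, hr, map_zero]
  obtain ⟨p, hp⟩ : ∃ p : ℕ, (p : ℤ) = j - a := ⟨(j - a).toNat, Int.toNat_of_nonneg (by omega)⟩
  by_contra hcon
  push_neg at hcon
  -- every degree-`p` element is a multiple of one element, modulo the annihilator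
  obtain ⟨y, hy, hgen⟩ : ∃ y ∈ 𝒜 (p : ℤ), ∀ r ∈ 𝒜 (p : ℤ), algebraMap R A r ∈ q ⊔ Ideal.span {algebraMap R A y} := by
    by_cases hall : ∀ r ∈ 𝒜 (p : ℤ), r • x = 0
    · exact ⟨0, zero_mem _, fun r hr => Ideal.mem_sup_left (hker r (hall r hr))⟩
    push_neg at hall
    obtain ⟨y, hy, hy0⟩ := hall
    refine ⟨y, hy, fun r hr => ?_⟩
    have hmem : ∀ z ∈ 𝒜 (p : ℤ), z • x ∈ 𝒞 j := fun z hz => by
      have := smul_mem' (𝒜 := 𝒜) 𝒞 hz hx
      rwa [hp, sub_add_cancel] at this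
    obtain ⟨c, d, hrel, hne⟩ := hcon (y • x) (r • x) (hmem y hy) (hmem r hr)
    by_cases hd0 : d = 0
    · exfalso
      have hc0 : c ≠ 0 := fun h => hne h hd0
      obtain ⟨c', hc'⟩ := h0.mul_inv_cancel hc0
      rw [hd0, ZeroMemClass.coe_zero, zero_smul, add_zero] at hrel
      apply hy0
      have e1 : ((c : R) * (c' : R)) = 1 := congrArg Subtype.val hc'
      rw [← one_smul R (y • x), ← e1, mul_comm, mul_smul, hrel, smul_zero]
    · obtain ⟨d', hd'⟩ := h0.mul_inv_cancel hd0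
      have e1 : ((d : R) * (d' : R)) = 1 := congrArg Subtype.val hd'
      have hz : (r + (d' : R) * c * y) • x = 0 := by
        have h := congrArg ((d' : R) • ·) hrel
        simp only [smul_add, smul_zero, smul_smul] at h
        rw [← mul_assoc (d' : R) (d : R) r, mul_comm (d' : R) (d : R), e1, one_mul] at h
        rw [add_smul, add_comm, mul_assoc]
        exact h
      rw [show r = (r + (d' : R) * c * y) - ((d' : R) * c) * y by ring, map_sub]
      exact sub_mem (Ideal.mem_sup_left (hker _ hz))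
        (Ideal.mem_sup_right (Ideal.mem_span_singleton'.2 ⟨_, (map_mul _ _ _).symm⟩))
  have hrad : IsLocalRing.maximalIdeal A ≤ (q ⊔ Ideal.span {algebraMap R A y}).radical := by
    rw [← Localization.AtPrime.map_eq_maximalIdeal, Ideal.map_le_iff_le_comap]
    refine hstd.trans (Ideal.span_le.2 fun r hr => ⟨p, ?_⟩)
    rw [← map_pow]
    refine hgen _ ?_
    have := SetLike.pow_mem_graded p hr
    rwa [nsmul_eq_mul, mul_one] at this
  let B := A ⧸ q
  have hntB : Nontrivial B := Ideal.Quotient.nontrivial_iff.2 fun h => hv (by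
    have h1 : (1 : A) ∈ q := by rw [h]; exact Submodule.mem_top
    rw [LinearMap.mem_ker, LinearMap.toSpanSingleton_apply, one_smul] at h1
    exact h1)
  have : IsLocalRing B := IsLocalRing.of_surjective' (Ideal.Quotient.mk q) Ideal.Quotient.mk_surjective
  have hmin : IsLocalRing.maximalIdeal B ∈ (Ideal.span {Ideal.Quotient.mk q (algebraMap R A y)}).minimalPrimes := by
    refine ⟨⟨inferInstance, ?_⟩, fun P ⟨hP, hyP⟩ hle => ?_⟩
    · rw [Ideal.span_le, Set.singleton_subset_iff, SetLike.mem_coe, IsLocalRing.mem_maximalIdeal]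
      intro hu
      have hym : y ∈ m.toIdeal := hirr _ (by omega) y hy
      obtain ⟨b, hb⟩ := hu.exists_right_inv
      obtain ⟨b, rfl⟩ := Ideal.Quotient.mk_surjective b
      rw [← map_mul, ← map_one (Ideal.Quotient.mk q), Ideal.Quotient.eq] at hb
      have hqm : q ≤ IsLocalRing.maximalIdeal A :=
        IsLocalRing.le_maximalIdeal (Ideal.Quotient.nontrivial_iff.1 hntB)
      have h1 := sub_mem (Ideal.mul_mem_right b _
        ((IsLocalization.AtPrime.to_map_mem_maximal_iff A m.toIdeal y).2 hym)) (hqm hb)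
      rw [sub_sub_cancel] at h1
      exact (IsLocalRing.maximalIdeal.isMaximal A).ne_top ((Ideal.eq_top_iff_one _).2 h1)
    · intro z hz
      obtain ⟨z, rfl⟩ := Ideal.Quotient.mk_surjective z
      have hz' : z ∈ IsLocalRing.maximalIdeal A := fun hu => hz (hu.map _)
      obtain ⟨N, hN⟩ := hrad hz'
      obtain ⟨a, ha, b, hb, hab⟩ := Submodule.mem_sup.1 hN
      refine hP.mem_of_pow_mem N ?_
      rw [← map_pow, ← hab, map_add, Ideal.Quotient.eq_zero_iff_mem.2 ha, zero_add]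
      obtain ⟨c, rfl⟩ := Ideal.mem_span_singleton'.1 hb
      rw [map_mul]
      exact Ideal.mul_mem_left _ _ (hyP (Ideal.mem_span_singleton_self _))
  have h1 := Ideal.height_le_one_of_isPrincipal_of_mem_minimalPrimes
    (Ideal.span {Ideal.Quotient.mk q (algebraMap R A y)}) (IsLocalRing.maximalIdeal B) hmin
  have h3 := IsLocalRing.maximalIdeal_height_eq_ringKrullDim (R := B)
  rw [hq] at h3
  have h4 : (n : WithBot ℕ∞) ≤ ((1 : ℕ∞) : WithBot ℕ∞) := h3 ▸ WithBot.coe_le_coe.2 h1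
  have : n ≤ 1 := by exact_mod_cast h4
  omega

end

end GrothLib.GrLC
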