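import Groth.Agent.Lib.GrLC.VerSetup
import Groth.Agent.Lib.Segre.CMRing

/-!
# A Veronese subring of a Cohen–Macaulay ring is Cohen–Macaulay
-/

universe u

open DirectSum

namespace GrothLib.GrLC.Ver

open _root_.GrLC (GMod StarInjRes deg0 IsStarLocal)
open GrothLib.GrLC (VMap EH OverField.alg)
open scoped GrothLib.Segre

noncomputable section

variable {R : Type u} [CommRing R] {𝒜 : ℤ → AddSubgroup R} [GradedRing 𝒜]
  {q : ℕ} {R' : Type u} [CommRing R'] {𝒜' : ℤ → AddSubgroup R'} [GradedRing 𝒜'] {φ : R' →+* R}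

/-- For a Cohen–Macaulay ring the cohomology is concentrated in the dimension. -/
theorem EH_eq_zero_of_cm [LocCoh.IsCohenMacaulayRing R] (hpos : ∀ n : ℤ, n < 0 → 𝒜 n = ⊥) (h0 : IsField (deg0 𝒜))
    {m : HomogeneousIdeal 𝒜} (hmsp : m.toIdeal = Ideal.span (⋃ n ∈ Set.Ioi (0 : ℤ), (𝒜 n : Set R)))
    {n : ℕ} (hn : ringKrullDim R = n) (I : StarInjRes 𝒜 𝒜) {i : ℕ} (hi : i ≠ n) (g : ℤ) :
    ∀ x ∈ (EH I m i).gr g, x = 0 := by
  letI : Field (deg0 𝒜) := h0.toField
  have hp := GrothLib.GrLC.pos_of_bot hpos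
  haveI := GrothLib.GrLC.OverField.finiteType_alg (𝒜 := 𝒜) hp
  have hs := GrothLib.GrLC.OverField.mem_alg 𝒜
  have hc := GrothLib.Segre.conc_ring (k := deg0 𝒜) (GrothLib.GrLC.OverField.hpos_alg hp)
    GrothLib.GrLC.OverField.zero_alg (GrothLib.GrLC.OverField.hmsp_alg hmsp)
    (GrothLib.GrLC.OverField.resTo hs I) hn
  intro x hx
  have h1 := (GrothLib.GrLC.Hcomp_eq_bot_iff_Hgr _ i g).1 (hc.vanish i hi g)
  exact (AddSubgroup.eq_bot_iff_forall _).1 h1 x ((GrothLib.GrLC.EH_gr_iff I m i g x).2 hx)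

variable [LocCoh.IsCohenMacaulayRing R] (hdeg : ∀ j : ℤ, (𝒜' j).map (φ : R' →+ R) = 𝒜 (j * q))
  (hq : 0 < q) (hφ : Function.Injective φ) {m : HomogeneousIdeal 𝒜} (hm : IsStarLocal 𝒜 m)
  (hmsp : m.toIdeal = Ideal.span (⋃ n ∈ Set.Ioi (0 : ℤ), (𝒜 n : Set R)))
  (hpos : ∀ n : ℤ, n < 0 → 𝒜 n = ⊥) (h0 : IsField (deg0 𝒜)) {n : ℕ} (hn : ringKrullDim R = n)

include hdeg hq hφ hm hmsp hpos h0 hn in
/-- The Veronese subring of a Cohen–Macaulay ring is Cohen–Macaulay. -/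
theorem isCohenMacaulayRing : LocCoh.IsCohenMacaulayRing R' := by
  haveI : Nontrivial R := not_subsingleton_iff_nontrivial.1 fun h => by
    rw [ringKrullDim_eq_bot_of_subsingleton] at hn; exact WithBot.bot_ne_coe hn
  haveI := Groth.Agent.S18671.isNoetherianRing_veronese φ hφ q hq hdeg
  haveI : Nontrivial R' := φ.domain_nontrivial
  have hpos' := neg_eq_bot hdeg hφ hpos hq
  have h0' := isField_zero hdeg hφ h0
  letI : Field (deg0 𝒜') := h0'.toField
  have hp' := GrothLib.GrLC.pos_of_bot hpos'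
  haveI := GrothLib.GrLC.OverField.finiteType_alg (𝒜 := 𝒜') hp'
  have hs' := GrothLib.GrLC.OverField.mem_alg 𝒜'
  have hposA := GrothLib.GrLC.OverField.hpos_alg hp'
  have h0A := GrothLib.GrLC.OverField.zero_alg (𝒜 := 𝒜')
  let mA := GrothLib.GrLC.OverField.idealTo hs' (irrel 𝒜')
  have hmA := GrothLib.GrLC.OverField.hmsp_alg (𝒜 := 𝒜') (m := irrel 𝒜') irrel_toIdeal
  haveI : mA.toIdeal.IsMaximal := GrothLib.Segre.isMaximal hposA h0A hmA
  let I' := GrothLib.GrLC.starInjRes 𝒜' 𝒜'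
  let I := GrothLib.GrLC.starInjRes 𝒜 𝒜
  let F := GrothLib.Segre.resAgr (GrothLib.GrLC.OverField.resTo hs' I')
  have hvan : ∀ i, i ≠ n → ∀ g, F.Hcomp mA i g = ⊥ := by
    intro i hi g
    obtain ⟨v⟩ := nonempty_vmap_EH hdeg hq hφ hm hmsp hpos (m' := irrel 𝒜') irrel_toIdeal I I' i
    refine (GrothLib.GrLC.Hcomp_eq_bot_iff_Hgr _ i g).2 ((AddSubgroup.eq_bot_iff_forall _).2 fun x hx => ?_)
    have hy : ∀ y : (EH I' (irrel 𝒜') i).carrier, y ∈ (EH I' (irrel 𝒜') i).gr g → y = 0 := fun y hy =>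
      v.inj ((EH_eq_zero_of_cm hpos h0 hmsp hn I hi (g * q) _ (v.hom g y hy)).trans (map_zero v.f).symm)
    exact hy x ((GrothLib.GrLC.EH_gr_iff I' (irrel 𝒜') i g x).1 hx)
  haveI : mA.toIdeal.IsPrime := Ideal.IsMaximal.isPrime inferInstance
  haveI : IsNoetherianRing (Localization.AtPrime mA.toIdeal) :=
    IsLocalization.isNoetherianRing mA.toIdeal.primeCompl _ inferInstance
  have hne : ∃ g, F.Hcomp mA n g ≠ ⊥ := by
    haveI : Module.Finite (Localization.AtPrime mA.toIdeal) (LocalizedModule mA.toIdeal.primeCompl R') :=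
      Module.Finite.of_isLocalizedModule mA.toIdeal.primeCompl (LocalizedModule.mkLinearMap mA.toIdeal.primeCompl R')
    refine (GrothLib.Segre.nontrivial_H_iff hposA h0A hmA F n).1
      (GrothLib.LC.not_finite_and_nontrivial_H_maximal n _ ?_).1
    have hd : ringKrullDim (Localization.AtPrime mA.toIdeal) = n :=
      GrothLib.GrLC.ringKrullDim_localization (GrothLib.Segre.pos' hposA)
        (GrothLib.Segre.isStarLocal_irrel hposA h0A hmA) ((ringKrullDim_eq hdeg hq hφ hpos).trans hn)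
    let e := LinearEquiv.extendScalarsOfIsLocalization mA.toIdeal.primeCompl (Localization.AtPrime mA.toIdeal)
      (IsLocalizedModule.iso mA.toIdeal.primeCompl (Algebra.linearMap R' (Localization.AtPrime mA.toIdeal)))
    rw [Module.supportDim_eq_of_equiv e, Module.supportDim_self_eq_ringKrullDim, hd]
  exact GrothLib.Segre.cmRing_iff_module.2 ((GrothLib.Segre.cm_iff hposA h0A hmA F).2
    ⟨n, hne, fun i ⟨g, hg⟩ => by_contra fun h => hg (hvan i h g)⟩)

end

end GrothLib.GrLC.Ver
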