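import Groth.Agent.Lib.GrLC.Pieces
import Groth.Agent.Lib.GrLC.Radical
import Mathlib.LinearAlgebra.Dimension.Basic
import Mathlib.LinearAlgebra.Dimension.Finrank

/-!
# The Čech complex of a Veronese module consists of pieces of the Čech complex
-/

universe u

open DirectSum

namespace GrothLib.GrLC

open _root_.GrLC (GMod StarInjRes deg0 comp gam)

variable {R' R : Type u} [CommRing R'] [CommRing R] {σ' : Type u} [SetLike σ' R'] [AddSubgroupClass σ' R']
  {σ : Type u} [SetLike σ R] [AddSubgroupClass σ R] {𝒜' : ℤ → σ'} [GradedRing 𝒜'] {𝒜 : ℤ → σ} [GradedRing 𝒜]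

/-- `X'` is the `q`-th Veronese of `X`, along `φ` -/
structure VMap (φ : R' →+* R) (q : ℕ) (X' : GMod.{u} 𝒜') (X : GMod.{u} 𝒜) where
  /-- the map -/
  f : X'.carrier →+ X.carrier
  smul : ∀ (r : R') (x : X'.carrier), f (r • x) = φ r • f x
  inj : Function.Injective f
  hom : ∀ j : ℤ, ∀ x ∈ X'.gr j, f x ∈ X.gr (j * q)
  onto : ∀ j : ℤ, ∀ y ∈ X.gr (j * q), ∃ x ∈ X'.gr j, f x = y

variable {φ : R' →+* R} {q : ℕ} (hφ : ∀ j : ℤ, ∀ r ∈ 𝒜' j, φ r ∈ 𝒜 (j * q))

/-- the image of a homogeneous element -/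
def mapElt (x : HElt 𝒜') : HElt 𝒜 := ⟨φ x.val, x.deg * q, hφ _ _ x.mem⟩

theorem mapElt_deg (x : HElt 𝒜') (g : ℤ) (n : ℕ) :
    (g + n • x.deg) * (q : ℤ) = g * q + n • (mapElt hφ x).deg := by
  simp only [mapElt, nsmul_eq_mul]
  ring

namespace VMap

variable {X' Y' : GMod.{u} 𝒜'} {X Y : GMod.{u} 𝒜} (v : VMap φ q X' X) (w : VMap φ q Y' Y)

/-- the localised map -/
noncomputable def locFun (x : HElt 𝒜') (z : LocalizedModule (Submonoid.powers x.val) X'.carrier) :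
    LocalizedModule (Submonoid.powers (mapElt hφ x).val) X.carrier :=
  fr (mapElt hφ x) (exists_fr x z).choose (v.f (exists_fr x z).choose_spec.choose)

theorem locFun_fr (x : HElt 𝒜') (n : ℕ) (m : X'.carrier) :
    v.locFun hφ x (fr x n m) = fr (mapElt hφ x) n (v.f m) := by
  obtain ⟨k, hk⟩ := (fr_eq_iff x).1 (exists_fr x (fr x n m)).choose_spec.choose_spec
  refine (fr_eq_iff (mapElt hφ x)).2 ⟨k, ?_⟩
  have h := congrArg v.f hk
  rw [v.smul, v.smul, map_pow, map_pow] at h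
  exact h

/-- the localised map, additive -/
noncomputable def locHom (x : HElt 𝒜') :
    LocalizedModule (Submonoid.powers x.val) X'.carrier →+
      LocalizedModule (Submonoid.powers (mapElt hφ x).val) X.carrier :=
  AddMonoidHom.mk' (v.locFun hφ x) fun a b => by
    obtain ⟨n, a, rfl⟩ := exists_fr x a
    obtain ⟨n', b, rfl⟩ := exists_fr x b
    rw [← fr_pow_smul x n n' a, ← fr_pow_smul x n' n b, add_comm n' n, ← fr_add, locFun_fr, locFun_fr,
      locFun_fr, map_add, fr_add]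

theorem locHom_fr (x : HElt 𝒜') (n : ℕ) (m : X'.carrier) :
    v.locHom hφ x (fr x n m) = fr (mapElt hφ x) n (v.f m) := v.locFun_fr hφ x n m

theorem locHom_injective (x : HElt 𝒜') : Function.Injective (v.locHom hφ x) := by
  rw [injective_iff_map_eq_zero]
  intro z hz
  obtain ⟨n, m, rfl⟩ := exists_fr x z
  rw [locHom_fr, fr_eq_zero_iff] at hz
  obtain ⟨k, hk⟩ := hz
  refine (fr_eq_zero_iff x).2 ⟨k, v.inj ?_⟩
  rw [v.smul, map_pow, map_zero]
  exact hk

theorem locHom_smul (x : HElt 𝒜') (r : R') (z : LocalizedModule (Submonoid.powers x.val) X'.carrier) :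
    v.locHom hφ x (r • z) = φ r • v.locHom hφ x z := by
  obtain ⟨n, m, rfl⟩ := exists_fr x z
  rw [← fr_smul, locHom_fr, locHom_fr, v.smul, fr_smul]

/-- localisation -/
noncomputable def loc (x : HElt 𝒜') : VMap φ q (GrLC.loc x X') (GrLC.loc (mapElt hφ x) X) where
  f := v.locHom hφ x
  smul := v.locHom_smul hφ x
  inj := v.locHom_injective hφ x
  hom := by
    rintro g _ ⟨n, m, hm, rfl⟩
    refine ⟨n, v.f m, ?_, (v.locFun_fr hφ x n m).symm⟩
    rw [← mapElt_deg hφ]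
    exact v.hom _ m hm
  onto := by
    rintro g _ ⟨n, m, hm, rfl⟩
    rw [← mapElt_deg hφ] at hm
    obtain ⟨m', hm', rfl⟩ := v.onto _ m hm
    exact ⟨fr x n m', ⟨n, m', hm', rfl⟩, v.locFun_fr hφ x n m'⟩

/-- product -/
noncomputable def prod : VMap φ q (GrLC.prod X' Y') (GrLC.prod X Y) where
  f := v.f.prodMap w.f
  smul r z := Prod.ext (v.smul r z.1) (w.smul r z.2)
  inj := Function.Injective.prodMap v.inj w.inj
  hom g z hz := ⟨v.hom g _ hz.1, w.hom g _ hz.2⟩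
  onto g z hz := by
    obtain ⟨a, ha, e1⟩ := v.onto g _ hz.1
    obtain ⟨b, hb, e2⟩ := w.onto g _ hz.2
    exact ⟨((a, b) : _ × _), ⟨ha, hb⟩, Prod.ext e1 e2⟩

/-- the zero modules -/
noncomputable def zero : VMap φ q (zeroMod X') (zeroMod X) where
  f := 0
  smul _ _ := (smul_zero _).symm
  inj a b _ := Subtype.ext (((Submodule.mem_bot R').1 a.2).trans ((Submodule.mem_bot R').1 b.2).symm)
  hom _ _ _ := zero_mem _
  onto j y _ := ⟨0, zero_mem _, Subtype.ext ((Submodule.mem_bot R).1 y.2).symm⟩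

end VMap

/-- Veronese comparison of complexes -/
structure VMor (φ : R' →+* R) (q : ℕ) (C' : GCx.{u} 𝒜') (C : GCx.{u} 𝒜) where
  /-- the terms -/
  v : ∀ n, VMap φ q (C'.X n) (C.X n)
  comm : ∀ n z, (v (n + 1)).f (C'.d n z) = C.d n ((v n).f z)

/-- the terms of the extension -/
noncomputable def VMor.extV {C' : GCx.{u} 𝒜'} {C : GCx.{u} 𝒜} (V : VMor φ q C' C) (x : HElt 𝒜') :
    ∀ n, VMap φ q (extX x C' n) (extX (mapElt hφ x) C n)
  | 0 => V.v 0
  | n + 1 => (V.v (n + 1)).prod ((V.v n).loc hφ x)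

theorem VMor.ext_comm {C' : GCx.{u} 𝒜'} {C : GCx.{u} 𝒜} (V : VMor φ q C' C) (x : HElt 𝒜') (n : ℕ)
    (a : (C'.X (n + 1)).carrier) (b : LocalizedModule (Submonoid.powers x.val) (C'.X n).carrier) :
    (V.v (n + 1)).locHom hφ x (toLoc x a - locMap x (C'.d n) b) =
      toLoc (mapElt hφ x) ((V.v (n + 1)).f a) - locMap (mapElt hφ x) (C.d n) ((V.v n).locHom hφ x b) := by
  obtain ⟨k, m, rfl⟩ := exists_fr x b
  rw [map_sub, locMap_fr, toLoc_apply, toLoc_apply, VMap.locHom_fr, VMap.locHom_fr, VMap.locHom_fr, locMap_fr,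
    V.comm]

/-- extension -/
noncomputable def VMor.ext {C' : GCx.{u} 𝒜'} {C : GCx.{u} 𝒜} (V : VMor φ q C' C) (x : HElt 𝒜') :
    VMor φ q (GrLC.ext x C') (GrLC.ext (mapElt hφ x) C) where
  v := V.extV hφ x
  comm := fun
    | 0, z => by
      refine Prod.ext (V.comm 0 z) ?_
      change (V.v 0).locFun hφ x (toLoc x z) = toLoc (mapElt hφ x) ((V.v 0).f z)
      rw [toLoc_apply, VMap.locFun_fr, toLoc_apply]
    | n + 1, z => Prod.ext (V.comm (n + 1) z.1) (VMor.ext_comm hφ V x n z.1 z.2)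

variable {X' : GMod.{u} 𝒜'} {X : GMod.{u} 𝒜}

/-- the terms of `single` -/
noncomputable def singleV (v : VMap φ q X' X) : ∀ n, VMap φ q (singleX X' n) (singleX X n)
  | 0 => v
  | _ + 1 => VMap.zero

/-- comparison of the Čech complexes -/
noncomputable def vcech (v : VMap φ q X' X) : ∀ l : List (HElt 𝒜'),
    VMor φ q (cech X' l) (cech X (l.map (mapElt hφ)))
  | [] => ⟨singleV v, fun n z => (map_zero _).trans rfl⟩
  | x :: l => (vcech v l).ext hφ x

/-- Dimensions of cohomology pieces. -/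
theorem VMor.finrank_HP_eq {C' : GCx.{u} 𝒜'} {C : GCx.{u} 𝒜} (V : VMor φ q C' C)
    (i : deg0 𝒜' → deg0 𝒜) (hi : Function.Bijective i) (hival : ∀ r, (i r : R) = φ r) (n : ℕ) (j : ℤ) :
    Module.finrank (deg0 𝒜') (HP C' n j) = Module.finrank (deg0 𝒜) (HP C n (j * q)) := by
  have hcyc : ∀ z ∈ ZP C' n j, (V.v n).f z ∈ ZP C n (j * q) := fun z hz => by
    refine ⟨(V.v n).hom j z hz.1, LinearMap.mem_ker.2 ?_⟩
    rw [← V.comm, show C'.d n z = 0 from hz.2, map_zero]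
  let f₀ : ZP C' n j →+ HP C n (j * q) :=
    AddMonoidHom.mk' (fun z => Submodule.Quotient.mk ⟨(V.v n).f z.1, hcyc _ z.2⟩) fun a b => by
      rw [← Submodule.Quotient.mk_add]
      exact congrArg _ (Subtype.ext (map_add _ _ _))
  have hbdy : ∀ z : ZP C' n j, f₀ z = 0 ↔ (z : (C'.X n).carrier) ∈ C'.bdy n := by
    intro z
    refine (HP_mk_eq_zero C _).trans ?_
    cases n with
    | zero =>
      exact ⟨fun h => (Submodule.mem_bot R').2 ((V.v 0).inj (((Submodule.mem_bot R).1 h).trans (map_zero _).symm)),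
        fun h => (Submodule.mem_bot R).2 ((congrArg (V.v 0).f ((Submodule.mem_bot R').1 h)).trans (map_zero _))⟩
    | succ n =>
      constructor
      · rintro ⟨b, hb⟩
        obtain ⟨b', -, e⟩ := (V.v n).onto j _ (cmp_mem (C.X n).gr (j * q) b)
        refine ⟨b', (V.v (n + 1)).inj ?_⟩
        rw [V.comm, e, (C.d_hom n).cmp, hb]
        exact cmp_of_mem _ ((V.v (n + 1)).hom j _ z.2.1)
      · rintro ⟨b, hb⟩
        exact ⟨(V.v n).f b, (V.comm n b).symm.trans (congrArg _ hb)⟩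
  let f : HP C' n j →+ HP C n (j * q) :=
    QuotientAddGroup.lift (((C'.bdy n).restrictScalars (deg0 𝒜')).comap (ZP C' n j).subtype).toAddSubgroup f₀
      fun z hz => (hbdy z).2 hz
  have hf : Function.Bijective f := by
    refine ⟨(injective_iff_map_eq_zero f).2 fun y hy => ?_, fun y => ?_⟩
    · obtain ⟨z, rfl⟩ := Submodule.Quotient.mk_surjective _ y
      exact (HP_mk_eq_zero C' z).2 ((hbdy z).1 hy)
    · obtain ⟨⟨w, hw, hwc⟩, rfl⟩ := Submodule.Quotient.mk_surjective _ y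
      obtain ⟨z, hz, rfl⟩ := (V.v n).onto j w hw
      have hzc : C'.d n z = 0 := (V.v (n + 1)).inj (by rw [V.comm, map_zero]; exact hwc)
      exact ⟨Submodule.Quotient.mk ⟨z, hz, hzc⟩, rfl⟩
  refine congrArg Cardinal.toNat (rank_eq_of_equiv_equiv i (AddEquiv.ofBijective f hf) hi fun r y => ?_)
  obtain ⟨z, rfl⟩ := Submodule.Quotient.mk_surjective _ y
  refine congrArg Submodule.Quotient.mk (Subtype.ext ?_)
  change (V.v n).f ((r : R') • z.1) = ((i r : R) • (V.v n).f z.1)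
  rw [(V.v n).smul, hival]

theorem nonempty_Hcomp_congr_radical [IsNoetherianRing R] {M : Type u} [AddCommGroup M] [Module R M]
    {τ : Type u} [SetLike τ M] [AddSubgroupClass τ M] {ℳ : ℤ → τ} [Decomposition ℳ] [SetLike.GradedSMul 𝒜 ℳ]
    (E : StarInjRes 𝒜 ℳ) {a b : HomogeneousIdeal 𝒜} (h : a.toIdeal.radical = b.toIdeal.radical) (i : ℕ) (g : ℤ) :
    Nonempty (E.Hcomp a i g ≃ₗ[deg0 𝒜] E.Hcomp b i g) := by
  have hcyc : E.cocyc a i = E.cocyc b i := by
    rw [StarInjRes.cocyc, StarInjRes.cocyc, gam_congr_radical h]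
  have hbdy : E.cobdy a i = E.cobdy b i := by
    cases i with
    | zero => rfl
    | succ j => rw [StarInjRes.cobdy, StarInjRes.cobdy, gam_congr_radical h]
  let e : E.H a i ≃ₗ[R] E.H b i := Submodule.Quotient.equiv _ _ (LinearEquiv.ofEq _ _ hcyc) (by
    ext z
    simp only [Submodule.mem_map, Submodule.mem_comap, Submodule.subtype_apply]
    refine ⟨?_, fun hz => ⟨⟨z.1, hcyc.ge z.2⟩, hbdy.ge hz, rfl⟩⟩
    rintro ⟨w, hw, rfl⟩
    exact hbdy.le hw)
  refine ⟨(e.restrictScalars (deg0 𝒜)).ofSubmodules _ _ ?_⟩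
  ext y
  simp only [Submodule.mem_map]
  constructor
  · rintro ⟨_, ⟨z, hz, rfl⟩, rfl⟩
    exact ⟨⟨z.1, hcyc.le z.2⟩, hz, rfl⟩
  · rintro ⟨z, hz, rfl⟩
    exact ⟨E.toH a i ⟨z.1, hcyc.ge z.2⟩, ⟨_, hz, rfl⟩, rfl⟩

end GrothLib.GrLC
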