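import Groth.Agent.Lib.GrLC.Veronese
import Groth.Agent.Lib.GrLC.OverField
import Groth.Agent.Lib.Segre.TopDeg
import Groth.Agent.S18671

/-!
# Veronese comparisons of local cohomology and of canonical modules
-/

universe u

open DirectSum

namespace GrothLib.GrLC

open _root_.GrLC (GMod StarInjRes deg0)

noncomputable section

variable {R' R : Type u} [CommRing R'] [CommRing R] {σ' : Type u} [SetLike σ' R'] [AddSubgroupClass σ' R']
  {σ : Type u} [SetLike σ R] [AddSubgroupClass σ R] {𝒜' : ℤ → σ'} [GradedRing 𝒜'] {𝒜 : ℤ → σ} [GradedRing 𝒜]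
  {φ : R' →+* R} {q : ℕ}

namespace VMap

variable {X' X'' : GMod.{u} 𝒜'} {X Y : GMod.{u} 𝒜} (v : VMap φ q X' X)

/-- composition with isomorphisms -/
def congr (e₁ : X''.carrier ≃ₗ[R'] X'.carrier) (h₁ : IsHom e₁.toLinearMap)
    (e₂ : X.carrier ≃ₗ[R] Y.carrier) (h₂ : IsHom e₂.toLinearMap) : VMap φ q X'' Y where
  f := e₂.toLinearMap.toAddMonoidHom.comp (v.f.comp e₁.toLinearMap.toAddMonoidHom)
  smul r x := by
    change e₂ (v.f (e₁ (r • x))) = φ r • e₂ (v.f (e₁ x))
    rw [map_smul, v.smul, map_smul]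
  inj a b h := e₁.injective (v.inj (e₂.injective h))
  hom j x hx := h₂ _ _ (v.hom j _ (h₁ j x hx))
  onto j y hy := by
    obtain ⟨x, hx, e⟩ := v.onto j _ (h₂.symm _ y hy)
    refine ⟨e₁.symm x, h₁.symm j x hx, ?_⟩
    change e₂ (v.f (e₁ (e₁.symm x))) = y
    rw [e₁.apply_symm_apply, e]
    exact e₂.apply_symm_apply y

include v in
/-- transport along isomorphisms -/
theorem nonempty_congr (h₁ : Iso X'' X') (h₂ : Iso X Y) : Nonempty (VMap φ q X'' Y) := by
  obtain ⟨e₁, he₁⟩ := h₁
  obtain ⟨e₂, he₂⟩ := h₂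
  exact ⟨v.congr e₁ he₁ e₂ he₂⟩

theorem cmp_f (hq : 0 < q) (j : ℤ) (x : X'.carrier) : cmp X.gr (j * q) (v.f x) = v.f (cmp X'.gr j x) := by
  have hqz : (q : ℤ) ≠ 0 := by exact_mod_cast hq.ne'
  induction x using gr_induction X'.gr with
  | h0 => simp
  | hadd a b ha hb => simp only [map_add, ha, hb]
  | hh i x hx =>
    by_cases hij : i = j
    · subst hij
      rw [cmp_of_mem _ hx, cmp_of_mem _ (v.hom i x hx)]
    · rw [cmp_of_mem_ne _ hx hij, cmp_of_mem_ne _ (v.hom i x hx)
        (fun h => hij (mul_right_cancel₀ hqz h)), map_zero]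

theorem cmp_f_of_not_dvd (i : ℤ) (hi : ¬ (q : ℤ) ∣ i) (x : X'.carrier) : cmp X.gr i (v.f x) = 0 := by
  induction x using gr_induction X'.gr with
  | h0 => simp
  | hadd a b ha hb => simp only [map_add, ha, hb, add_zero]
  | hh j x hx => exact cmp_of_mem_ne _ (v.hom j x hx) fun h => hi ⟨j, by rw [← h, mul_comm]⟩

end VMap

namespace VMor

variable {C' : GCx.{u} 𝒜'} {C : GCx.{u} 𝒜} (V : VMor φ q C' C)

theorem mem_cyc (n : ℕ) (z : C'.cyc n) : (V.v n).f z ∈ C.cyc n := by
  change C.d n _ = 0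
  rw [← V.comm, show C'.d n z.1 = 0 from z.2, map_zero]

theorem mem_bdy_iff (hq : 0 < q) (n : ℕ) (z : (C'.X n).carrier) :
    (V.v n).f z ∈ C.bdy n ↔ z ∈ C'.bdy n := by
  cases n with
  | zero =>
    exact ⟨fun h => (Submodule.mem_bot R').2 ((V.v 0).inj (((Submodule.mem_bot R).1 h).trans (map_zero _).symm)),
      fun h => (Submodule.mem_bot R).2 ((congrArg (V.v 0).f ((Submodule.mem_bot R').1 h)).trans (map_zero _))⟩
  | succ n =>
    refine ⟨?_, ?_⟩
    · rintro ⟨b, hb⟩
      obtain ⟨S, hS⟩ := exists_sum_cmp (C'.X (n + 1)).gr z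
      rw [hS]
      refine Submodule.sum_mem _ fun j _ => ?_
      obtain ⟨b', -, e⟩ := (V.v n).onto j _ (cmp_mem (C.X n).gr (j * q) b)
      refine ⟨b', (V.v (n + 1)).inj ?_⟩
      rw [V.comm, e, (C.d_hom n).cmp, hb, (V.v (n + 1)).cmp_f hq]
    · rintro ⟨b, hb⟩
      exact ⟨(V.v n).f b, (V.comm n b).symm.trans (congrArg _ hb)⟩

/-- cohomology -/
def hmap (hq : 0 < q) (n : ℕ) : VMap φ q (C'.H n) (C.H n) where
  f := QuotientAddGroup.lift ((C'.bdy n).comap (C'.cyc n).subtype).toAddSubgroup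
    (AddMonoidHom.mk' (fun z => Submodule.Quotient.mk (p := (C.bdy n).comap (C.cyc n).subtype)
      ⟨(V.v n).f z.1, V.mem_cyc n z⟩) fun a b =>
        (congrArg (Submodule.Quotient.mk (p := (C.bdy n).comap (C.cyc n).subtype))
          (Subtype.ext (map_add (V.v n).f a.1 b.1) : _ = _ + _)).trans (Submodule.Quotient.mk_add _))
    fun z hz => (Submodule.Quotient.mk_eq_zero _).2 ((V.mem_bdy_iff hq n z.1).2 hz)
  smul r x := by
    obtain ⟨z, rfl⟩ := Submodule.Quotient.mk_surjective _ x
    refine congrArg (Submodule.Quotient.mk (p := (C.bdy n).comap (C.cyc n).subtype)) (Subtype.ext ?_)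
    exact (V.v n).smul r z.1
  inj := by
    refine (injective_iff_map_eq_zero _).2 fun x hx => ?_
    obtain ⟨z, rfl⟩ := Submodule.Quotient.mk_surjective _ x
    exact (Submodule.Quotient.mk_eq_zero _).2 ((V.mem_bdy_iff hq n z.1).1
      ((Submodule.Quotient.mk_eq_zero ((C.bdy n).comap (C.cyc n).subtype) (x := ⟨(V.v n).f z.1, V.mem_cyc n z⟩)).1 (by exact hx)))
  hom := by
    rintro j _ ⟨z, hz, rfl⟩
    exact ⟨⟨(V.v n).f z.1, V.mem_cyc n z⟩, (V.v n).hom j z.1 hz, rfl⟩
  onto := by
    rintro j _ ⟨w, hw, rfl⟩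
    obtain ⟨z, hz, e⟩ := (V.v n).onto j w.1 hw
    have hzc : C'.d n z = 0 := (V.v (n + 1)).inj (by
      rw [V.comm, e, map_zero]; exact w.2)
    exact ⟨Submodule.Quotient.mk ⟨z, hzc⟩, ⟨⟨z, hzc⟩, hz, rfl⟩,
      congrArg (Submodule.Quotient.mk (p := (C.bdy n).comap (C.cyc n).subtype)) (Subtype.ext e)⟩

end VMor

end

end GrothLib.GrLC

namespace GrothLib.GrDual

open _root_.GrLC (GMod)
open GrothLib.GrLC (cmp cmp_mem cmp_of_mem cmp_of_mem_ne gr_induction eq_zero_of_cmp smul_mem' exists_sum_cmp VMap)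
open scoped GrothLib.Segre

noncomputable section

variable {k k' : Type u} [Field k] [Field k'] {R : Type u} [CommRing R] [Algebra k R] {𝒜 : ℤ → Submodule k R}
  [GradedAlgebra 𝒜] {R' : Type u} [CommRing R'] [Algebra k' R'] {𝒜' : ℤ → Submodule k' R'} [GradedAlgebra 𝒜']
  {φ : R' →+* R} {q : ℕ}

/-- The graded dual of a Veronese module is the Veronese module of the graded dual. -/
theorem nonempty_vmap_dual (hq : 0 < q) (i : k' ≃+* k)
    (hi : ∀ c, φ (algebraMap k' R' c) = algebraMap k R (i c))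
    (hφ : ∀ j : ℤ, ∀ r ∈ 𝒜' j, φ r ∈ 𝒜 (j * q))
    {H C : GMod.{u} 𝒜} {H' C' : GMod.{u} 𝒜'} (G : VMap φ q H' H)
    {β : H.carrier →ₗ[k] C.carrier →ₗ[k] k} (hβ : GrSeg.IsGDual R C.gr H.gr β)
    {β' : H'.carrier →ₗ[k'] C'.carrier →ₗ[k'] k'} (hβ' : GrSeg.IsGDual R' C'.gr H'.gr β')
    (hfin : ∀ n, FiniteDimensional k (pieceK 𝒜 C.gr n))
    (hfin' : ∀ n, FiniteDimensional k' (pieceK 𝒜' C'.gr n)) : Nonempty (VMap φ q C' C) := by
  classical
  have hqz : (q : ℤ) ≠ 0 := by exact_mod_cast hq.ne'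
  have hflip := isGDual_flip (𝒜 := 𝒜) hβ hfin
  have hflip' := isGDual_flip (𝒜 := 𝒜') hβ' hfin'
  have hGk : ∀ (c : k') (h : H'.carrier), G.f (c • h) = i c • G.f h := fun c h => by
    rw [← algebraMap_smul (M := H'.carrier) R' c h, G.smul, hi, algebraMap_smul]
  -- homogeneous elements outside the Veronese degrees stay outside
  have houtside : ∀ (r : R') (h : H.carrier) (i : ℤ), h ∈ H.gr i → ¬ (q : ℤ) ∣ i →
      ∀ x : C.carrier, (∀ i, ¬ (q : ℤ) ∣ i → ∀ h ∈ H.gr i, β h x = 0) → β (φ r • h) x = 0 := by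
    intro r h i hh hdiv x hx
    induction r using gr_induction 𝒜' with
    | h0 => rw [map_zero, zero_smul, map_zero, LinearMap.zero_apply]
    | hadd a b ha hb => rw [map_add, add_smul, map_add, LinearMap.add_apply, ha, hb, add_zero]
    | hh j r hr =>
      exact hx _ (fun hd => hdiv ((dvd_add_right (dvd_mul_left _ _)).1 hd)) _
        (smul_mem' (𝒜 := 𝒜) H.gr (hφ j r hr) hh)
  let P : C'.carrier → C.carrier → Prop := fun c x =>
    (∀ h, β (G.f h) x = i (β' h c)) ∧ ∀ j, ¬ (q : ℤ) ∣ j → ∀ h ∈ H.gr j, β h x = 0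
  have hhom : ∀ (j : ℤ), ∀ c ∈ C'.gr j, ∃ x ∈ C.gr (j * q), P c x := by
    intro j c hc
    have hu : ∀ h : H.carrier, ∃ h' ∈ H'.gr (-j), G.f h' = cmp H.gr (-(j * q)) h := fun h =>
      G.onto (-j) _ (by rw [neg_mul]; exact cmp_mem _ _ h)
    choose w hw hGw using hu
    have hwadd : ∀ a b, w (a + b) = w a + w b := fun a b => G.inj (by rw [map_add, hGw, hGw, hGw, map_add])
    have hwsmul : ∀ (a : k) (h : H.carrier), w (a • h) = i.symm a • w h := fun a h => G.inj (by
      rw [hGk, hGw, hGw, i.apply_symm_apply, ← algebraMap_smul (M := H.carrier) R a h,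
        ← algebraMap_smul (M := H.carrier) R a (cmp H.gr _ h)]
      have ha : algebraMap k R a ∈ 𝒜 0 := SetLike.algebraMap_mem_graded 𝒜 a
      rw [GrothLib.GrLC.cmp_smul_of_mem (𝒜 := 𝒜) H.gr ha, sub_zero])
    let g : H.carrier →ₗ[k] k :=
      { toFun := fun h => i (β' (w h) c)
        map_add' := fun a b => by rw [hwadd, map_add, LinearMap.add_apply, map_add]
        map_smul' := fun a h => by
          rw [hwsmul, map_smul, LinearMap.smul_apply, smul_eq_mul, map_mul, i.apply_symm_apply, RingHom.id_apply,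
            smul_eq_mul] }
    obtain ⟨x, hx, hgx⟩ := hflip.exists_eq (j * q) g
    refine ⟨x, hx, fun h => ?_, fun l hl h hh => ?_⟩
    · induction h using gr_induction H'.gr with
      | h0 => simp
      | hadd a b ha hb => simp only [map_add, LinearMap.add_apply, ha, hb]
      | hh l h hh =>
        by_cases hlj : l = -j
        · subst hlj
          have hGh : G.f h ∈ H.gr (-(j * q)) := by rw [← neg_mul]; exact G.hom _ h hh
          refine (hgx _ hGh).trans (congrArg (fun y => i (β' y c)) (G.inj ?_))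
          rw [hGw, cmp_of_mem _ hGh]
        · rw [hβ'.vanish l h hh j (fun e => hlj (by omega)) c hc, map_zero]
          exact hβ.vanish _ _ (G.hom l h hh) (j * q) (fun e => hlj (by
            have : (j + l) * (q : ℤ) = 0 := by rw [add_mul]; omega
            rcases mul_eq_zero.1 this with h | h
            · omega
            · exact absurd h hqz)) x hx
    · exact hβ.vanish l h hh (j * q) (fun e => hl ⟨-j, by rw [mul_neg, mul_comm]; omega⟩) x hx
  have hall : ∀ c, ∃ x, P c x := by
    intro c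
    induction c using gr_induction C'.gr with
    | h0 => exact ⟨0, fun h => by simp, fun j _ h _ => map_zero _⟩
    | hh j c hc => obtain ⟨x, -, hx⟩ := hhom j c hc; exact ⟨x, hx⟩
    | hadd a b ha hb =>
      obtain ⟨x, hx⟩ := ha
      obtain ⟨y, hy⟩ := hb
      exact ⟨x + y, fun h => by simp only [map_add, hx.1, hy.1],
        fun j hj h hh => by rw [map_add, hx.2 j hj h hh, hy.2 j hj h hh, add_zero]⟩
  have huniq : ∀ c x y, P c x → P c y → x = y := by
    intro c x y hx hy
    refine ext_primal (𝒜 := 𝒜) hβ fun h => ?_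
    induction h using gr_induction H.gr with
    | h0 => simp
    | hadd a b ha hb => simp only [map_add, LinearMap.add_apply, ha, hb]
    | hh l h hh =>
      by_cases hl : (q : ℤ) ∣ l
      · obtain ⟨j, rfl⟩ := hl
        obtain ⟨h', -, rfl⟩ := G.onto j h (by rwa [mul_comm])
        rw [hx.1, hy.1]
      · rw [hx.2 l hl h hh, hy.2 l hl h hh]
  choose f hf using hall
  refine ⟨{ f := AddMonoidHom.mk' f fun a b => huniq (a + b) _ _ (hf _)
              ⟨fun h => by simp only [map_add, (hf a).1, (hf b).1],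
               fun j hj h hh => by rw [map_add, (hf a).2 j hj h hh, (hf b).2 j hj h hh, add_zero]⟩
            smul := fun r c => huniq (r • c) _ _ (hf _) ⟨fun h => ?_, fun j hj h hh => ?_⟩
            inj := ?_
            hom := fun j c hc => ?_
            onto := fun j y hy => ?_ }⟩
  · change β (G.f h) (φ r • f c) = i (β' h (r • c))
    rw [← hβ.map_smul, ← G.smul, (hf c).1, hβ'.map_smul]
  · change β h (φ r • f c) = 0
    rw [← hβ.map_smul]
    exact houtside r h j hh hj _ (hf c).2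
  · refine (injective_iff_map_eq_zero _).2 fun c hc => ext_primal (𝒜 := 𝒜') hβ' fun h => i.injective ?_
    have hc' : f c = 0 := hc
    rw [← (hf c).1 h, hc', map_zero, map_zero, map_zero]
  · obtain ⟨x, hx, hPx⟩ := hhom j c hc
    change f c ∈ _
    rw [huniq c _ _ (hf c) hPx]
    exact hx
  · let g : H'.carrier →ₗ[k'] k' :=
      { toFun := fun h => i.symm (β (G.f h) y)
        map_add' := fun a b => by rw [map_add, map_add, LinearMap.add_apply, map_add]
        map_smul' := fun a h => by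
          rw [hGk, map_smul, LinearMap.smul_apply, smul_eq_mul, map_mul, i.symm_apply_apply, RingHom.id_apply,
            smul_eq_mul] }
    obtain ⟨c, hc, hgc⟩ := hflip'.exists_eq j g
    refine ⟨c, hc, huniq c _ _ (hf c) ⟨fun h => ?_, fun l hl h hh => ?_⟩⟩
    · induction h using gr_induction H'.gr with
      | h0 => simp
      | hadd a b ha hb => simp only [map_add, LinearMap.add_apply, ha, hb]
      | hh l h hh =>
        by_cases hlj : l = -j
        · subst hlj
          have := hgc h hh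
          simp only [LinearMap.flip_apply] at this
          rw [this]
          exact (i.apply_symm_apply _).symm
        · rw [hβ'.vanish l h hh j (fun e => hlj (by omega)) c hc, map_zero]
          exact hβ.vanish _ _ (G.hom l h hh) (j * q) (fun e => hlj (by
            have : (j + l) * (q : ℤ) = 0 := by rw [add_mul]; omega
            rcases mul_eq_zero.1 this with h | h
            · omega
            · exact absurd h hqz)) y hy
    · exact hβ.vanish l h hh (j * q) (fun e => hl ⟨-j, by rw [mul_neg, mul_comm]; omega⟩) y hy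

end

end GrothLib.GrDual
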