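import Groth.Agent.Lib.GrLC.VerCM
import Groth.Agent.Lib.GrLC.TwoLe
import Groth.Agent.S18648

/-!
# Gorenstein Veronese subrings
-/

universe u

open DirectSum

namespace GrothLib.GrLC.Ver

open _root_.GrLC (GMod StarInjRes deg0 IsStarLocal IsStarInjHull IsStarCanonical IsGrHomDeg quotGr endDeg)
open GrothLib.GrLC (cmp cmp_mem cmp_of_mem cmp_of_mem_ne gr_induction cmp_smul_mem smul_mem' VMap EH)
open scoped GrothLib.Segre

noncomputable section

section Single

variable {R : Type u} [CommRing R] {𝒜 : ℤ → AddSubgroup R} [GradedRing 𝒜] (hpos : ∀ n : ℤ, n < 0 → 𝒜 n = ⊥)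
  (h0 : IsField (deg0 𝒜)) {m : HomogeneousIdeal 𝒜} (hm : IsStarLocal 𝒜 m)
  (hmsp : m.toIdeal = Ideal.span (⋃ n ∈ Set.Ioi (0 : ℤ), (𝒜 n : Set R)))
  {n : ℕ} (hn : ringKrullDim R = n) {I : StarInjRes 𝒜 𝒜} {E C : GMod.{u} 𝒜}
  {e : (R ⧸ m.toIdeal) →ₗ[R] E.carrier} (he : IsStarInjHull 𝒜 (quotGr 𝒜 m) E.gr e)
  (hC : IsStarCanonical 𝒜 C.gr E.gr m n I)

include hpos hm hn he hC in
/-- A canonical module has no elements killed by a power of the irrelevant ideal. -/
theorem eq_zero_of_pow_kills [IsNoetherianRing R] (h1 : 1 ≤ n) {y : C.carrier} {N : ℕ}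
    (hy : ∀ z ∈ m.toIdeal ^ N, z • y = 0) : y = 0 := by
  have hp := GrothLib.GrLC.pos_of_bot hpos
  have hmax := GrothLib.GrLC.isMaximal_of_isStarLocal hp hm
  haveI : Module.Finite R C.carrier := hC.1
  let A := Localization.AtPrime m.toIdeal
  let mk := LocalizedModule.mkLinearMap m.toIdeal.primeCompl C.carrier
  obtain ⟨E₀, _, _, f, hf, ⟨eK⟩⟩ := GrothLib.GrLC.exists_local_canonical he hC
  have hd := GrothLib.GrLC.ringKrullDim_localization hp hm hn
  by_contra hy0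
  have hv : mk y ≠ 0 := fun h => by
    obtain ⟨s, hs⟩ := (IsLocalizedModule.eq_zero_iff m.toIdeal.primeCompl mk).1 h
    obtain ⟨b, c, hc, hbc⟩ := Ideal.IsMaximal.exists_inv (I := m.toIdeal) hmax s.2
    obtain ⟨d, hd⟩ : (s : R) ∣ 1 - c ^ N := by
      have h1 : (s : R) ∣ 1 - c := ⟨b, by linear_combination -hbc⟩
      exact h1.trans (by simpa using sub_dvd_pow_sub_pow (1 : R) c N)
    apply hy0
    rw [← one_smul R y, show (1 : R) = d * (s : R) + c ^ N by linear_combination hd, add_smul, mul_smul,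
      show (s : R) • y = 0 from hs, smul_zero, zero_add, hy _ (Ideal.pow_mem_pow hc N)]
  let J : Ideal A := LinearMap.ker (LinearMap.toSpanSingleton A _ (mk y))
  have hq : ringKrullDim (A ⧸ J) = n :=
    GrothLib.CanonMod.dim_quotient_eq_of_hom_ne_zero hd hf eK hv fun a ha => LinearMap.mem_ker.1 ha
  have hle : IsLocalRing.maximalIdeal A ^ N ≤ J := by
    rw [← Localization.AtPrime.map_eq_maximalIdeal, ← Ideal.map_pow, Ideal.map_le_iff_le_comap]
    intro r hr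
    rw [Ideal.mem_comap, LinearMap.mem_ker, LinearMap.toSpanSingleton_apply, algebraMap_smul, ← map_smul,
      hy r hr, map_zero]
  have : Ring.KrullDimLE 0 (A ⧸ J) := Ring.krullDimLE_zero_iff.2 fun P hP => by
    have hmax : (P.comap (Ideal.Quotient.mk J)) = IsLocalRing.maximalIdeal A := by
      refine le_antisymm (IsLocalRing.le_maximalIdeal (Ideal.IsPrime.ne_top (Ideal.IsPrime.comap _))) ?_
      refine Ideal.IsPrime.le_of_pow_le (n := N) (hP := Ideal.IsPrime.comap _) (hle.trans fun a ha => ?_)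
      rw [Ideal.mem_comap, Ideal.Quotient.eq_zero_iff_mem.2 ha]
      exact P.zero_mem
    have hP' := Ideal.map_comap_of_surjective _ (Ideal.Quotient.mk_surjective (I := J)) P
    rw [hmax] at hP'
    rcases Ideal.map_eq_top_or_isMaximal_of_surjective (Ideal.Quotient.mk J) Ideal.Quotient.mk_surjective
      (IsLocalRing.maximalIdeal.isMaximal A) with h | h
    · exact absurd (hP'.symm.trans h) hP.ne_top
    · exact hP' ▸ h
  have h2 : ringKrullDim (A ⧸ J) ≤ 0 := Ring.krullDimLE_iff.1 this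
  rw [hq] at h2
  have : n ≤ 0 := by exact_mod_cast h2
  omega

include hmsp in
/-- If every element of degree one is in the radical, so is a power of the irrelevant ideal. -/
theorem exists_pow_le [IsNoetherianRing R]
    (hstd : Ideal.span (⋃ n ∈ Set.Ioi (0 : ℤ), (𝒜 n : Set R)) = Ideal.span ((𝒜 1 : AddSubgroup R) : Set R))
    {J : Ideal R} (hJ : ∀ a ∈ 𝒜 1, a ∈ J.radical) : ∃ N, m.toIdeal ^ N ≤ J :=
  Ideal.exists_pow_le_of_le_radical_of_fg (by rw [hmsp, hstd, Ideal.span_le]; exact hJ) (IsNoetherian.noetherian _)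

include hpos h0 hm hmsp hn in
/-- A regular sequence of length two inside every power of the irrelevant ideal. -/
theorem exists_regular_pair [LocCoh.IsCohenMacaulayRing R] (h2 : 2 ≤ n) (N : ℕ) :
    ∃ a b : R, a ∈ m.toIdeal ^ N ∧ b ∈ m.toIdeal ^ N ∧ IsSMulRegular R a ∧
      ∀ t, a ∣ b * t → a ∣ t := by
  letI : Field (deg0 𝒜) := h0.toField
  have hp := GrothLib.GrLC.pos_of_bot hpos
  have := GrothLib.GrLC.isMaximal_of_isStarLocal hp hm
  haveI := GrothLib.GrLC.OverField.finiteType_alg (𝒜 := 𝒜) hp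
  have hs := GrothLib.GrLC.OverField.mem_alg 𝒜
  haveI : Nontrivial R := not_subsingleton_iff_nontrivial.1 fun h => by
    rw [ringKrullDim_eq_bot_of_subsingleton] at hn; exact WithBot.bot_ne_coe hn
  haveI : (GrothLib.GrLC.OverField.idealTo hs m).toIdeal.IsPrime :=
    (inferInstance : m.toIdeal.IsMaximal).isPrime
  have hmA := GrothLib.GrLC.OverField.hmsp_alg hmsp
  have hpA := GrothLib.GrLC.OverField.hpos_alg hp
  let I₀ := GrothLib.GrLC.OverField.resTo hs (GrothLib.GrLC.starInjRes 𝒜 𝒜)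
  have hc := GrothLib.Segre.conc_ring (k := deg0 𝒜) hpA GrothLib.GrLC.OverField.zero_alg hmA I₀ hn
  obtain ⟨l, hl⟩ := GrothLib.GrLC.exists_hspan (𝒜 := GrothLib.GrLC.OverField.alg 𝒜)
    (a := GrothLib.GrLC.OverField.idealTo hs m)
  let X := GrothLib.GrLC.gmod (GrothLib.GrLC.OverField.alg 𝒜) (GrothLib.Segre.agr (GrothLib.GrLC.OverField.alg 𝒜))
  haveI : Module.Finite R X.carrier := inferInstanceAs (Module.Finite R R)
  have hsd : Module.supportDim (Localization.AtPrime (GrothLib.GrLC.OverField.idealTo hs m).toIdeal)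
      (LocalizedModule (GrothLib.GrLC.OverField.idealTo hs m).toIdeal.primeCompl X.carrier) ≤ (n : WithBot ℕ∞) := by
    refine (Module.supportDim_le_ringKrullDim _ _).trans ?_
    exact le_of_eq (GrothLib.GrLC.ringKrullDim_localization hp hm hn)
  obtain ⟨θ, hθ, hreg, -⟩ := GrothLib.Segre.exists_params hpA GrothLib.GrLC.OverField.zero_alg hmA hl n X
    inferInstance (fun i hi g => (GrothLib.GrLC.Hcomp_eq_bot_iff_van (GrothLib.Segre.resAgr I₀) hl i g).1
      (hc.vanish i hi.ne g)) hsd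
  obtain ⟨k, rfl⟩ : ∃ k, n = k + 2 := ⟨n - 2, by omega⟩
  rw [List.ofFn_succ, RingTheory.Sequence.isWeaklyRegular_cons_iff, List.ofFn_succ,
    RingTheory.Sequence.isWeaklyRegular_cons_iff] at hreg
  obtain ⟨ha, hb, -⟩ := hreg
  let a := (θ 0).val
  let b := (θ (Fin.succ 0)).val
  have hmem : ∀ i, (θ i).val ∈ m.toIdeal := fun i =>
    hmsp.ge (Ideal.subset_span (Set.mem_iUnion₂.2 ⟨(θ i).deg, hθ i, (θ i).mem⟩))
  have ha' : IsSMulRegular R a := ha
  have hb' : ∀ t, a ∣ b * t → a ∣ t := fun t ⟨c, hc⟩ => by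
    have h := (isSMulRegular_quotient_iff_mem_of_smul_mem (M := X.carrier) _ b).1 hb t
      ((Submodule.mem_smul_pointwise_iff_exists _ _ _).2 ⟨c, Submodule.mem_top, hc.symm⟩)
    obtain ⟨d, -, hd⟩ := (Submodule.mem_smul_pointwise_iff_exists _ _ _).1 h
    exact ⟨d, hd.symm⟩
  have hb'' : ∀ (i : ℕ) (t : R), a ^ i ∣ b * t → a ^ i ∣ t := by
    intro i
    induction i with
    | zero => intro t _; rw [pow_zero]; exact one_dvd t
    | succ i ih =>
      intro t ht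
      obtain ⟨t', rfl⟩ := hb' t ((dvd_pow_self a i.succ_ne_zero).trans ht)
      obtain ⟨c, hc⟩ := ht
      have h1 : b * t' = a ^ i * c := ha' (by
        change a * (b * t') = a * (a ^ i * c)
        rw [← mul_assoc a (a ^ i), ← pow_succ', ← hc]; ring)
      rw [pow_succ']
      exact mul_dvd_mul_left a (ih t' ⟨c, h1⟩)
  have hbN : ∀ (j : ℕ) (t : R), a ^ N ∣ b ^ j * t → a ^ N ∣ t := by
    intro j
    induction j with
    | zero => intro t ht; rwa [pow_zero, one_mul] at ht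
    | succ j ih => intro t ht; exact ih t (hb'' N _ (by rwa [pow_succ', mul_assoc] at ht))
  exact ⟨a ^ N, b ^ N, Ideal.pow_mem_pow (hmem 0) N, Ideal.pow_mem_pow (hmem _) N, ha'.pow N, hbN N⟩

include hpos h0 hmsp he hC in
/-- The a-invariant of a ring whose canonical module is a shift of it. -/
theorem endDeg_eq_neg_of_shift [IsNoetherianRing R] [Nontrivial R] {c : ℤ} {f : R →ₗ[R] C.carrier}
    (hf : Function.Bijective f) (hfd : IsGrHomDeg 𝒜 C.gr f c) :
    endDeg (I.Hgr m n) = (((-c : ℤ) : WithTop ℤ) : WithBot (WithTop ℤ)) := by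
  letI : Field (deg0 𝒜) := h0.toField
  have hp := GrothLib.GrLC.pos_of_bot hpos
  haveI := GrothLib.GrLC.OverField.finiteType_alg (𝒜 := 𝒜) hp
  have hs := GrothLib.GrLC.OverField.mem_alg 𝒜
  haveI := GrothLib.GrLC.OverField.gsmul_to hs E.gr
  haveI := GrothLib.GrLC.OverField.gsmul_to hs C.gr
  haveI : Module.Finite R C.carrier := hC.1
  have heB := GrothLib.GrLC.OverField.hull_to hs he
  have hCB := GrothLib.GrLC.OverField.canonical_to hs hC
  obtain ⟨β, hβ⟩ := GrothLib.GrDual.exists_isGDual_of_canonical (k := deg0 𝒜)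
    (GrothLib.GrLC.OverField.hpos_alg hp) GrothLib.GrLC.OverField.zero_alg
    (GrothLib.GrLC.OverField.hmsp_alg hmsp)
    (E := GrothLib.GrLC.OverField.modTo hs E) (C := GrothLib.GrLC.OverField.modTo hs C) heB hCB
  exact GrothLib.Segre.endDeg_of_shift (GrothLib.GrLC.OverField.hpos_alg hp)
    (GrothLib.GrLC.OverField.resTo hs I) hβ hf fun j r hr => hfd j r hr

omit [GradedRing 𝒜] in
/-- Nonvanishing of the pieces of a standard graded ring of positive dimension. -/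
theorem exists_mem_ne_zero {R : Type u} [CommRing R] {𝒜 : ℤ → AddSubgroup R} [GradedRing 𝒜]
    [IsNoetherianRing R] (hpos : ∀ n : ℤ, n < 0 → 𝒜 n = ⊥) (h0 : IsField (deg0 𝒜)) {m : HomogeneousIdeal 𝒜}
    (hm : IsStarLocal 𝒜 m) (hmsp : m.toIdeal = Ideal.span (⋃ n ∈ Set.Ioi (0 : ℤ), (𝒜 n : Set R)))
    (hstd : Ideal.span (⋃ n ∈ Set.Ioi (0 : ℤ), (𝒜 n : Set R)) = Ideal.span ((𝒜 1 : AddSubgroup R) : Set R))
    {n : ℕ} (hn : ringKrullDim R = n) (h1 : 1 ≤ n) {i : ℤ} (hi : 0 ≤ i) : ∃ r ∈ 𝒜 i, r ≠ 0 := by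
  letI : Field (deg0 𝒜) := h0.toField
  haveI : Nontrivial R := not_subsingleton_iff_nontrivial.1 fun h => by
    rw [ringKrullDim_eq_bot_of_subsingleton] at hn; exact WithBot.bot_ne_coe hn
  have hmax := GrothLib.GrLC.isMaximal_of_isStarLocal (GrothLib.GrLC.pos_of_bot hpos) hm
  have h := Groth.Agent.S18648.piece_ne_bot (GrothLib.GrLC.OverField.alg 𝒜)
    (hmsp ▸ hmax) (GrothLib.GrLC.OverField.hstd_alg hstd) hn h1 hi
  obtain ⟨r, hr, hr0⟩ := (Submodule.ne_bot_iff _).1 h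
  exact ⟨r, hr, hr0⟩

end Single

section Pair

variable {R : Type u} [CommRing R] {𝒜 : ℤ → AddSubgroup R} [GradedRing 𝒜]
  {q : ℕ} {R' : Type u} [CommRing R'] {𝒜' : ℤ → AddSubgroup R'} [GradedRing 𝒜'] {φ : R' →+* R}
  (hdeg : ∀ j : ℤ, (𝒜' j).map (φ : R' →+ R) = 𝒜 (j * q)) (hφ : Function.Injective φ) (hq : 0 < q)
  {C : GMod.{u} 𝒜} {C' : GMod.{u} 𝒜'} (v : VMap φ q C' C)

include hdeg hφ v hq in
/-- If `C` is free on a generator of degree a multiple of `q`, so is its Veronese. -/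
theorem exists_shift_of_shift {f : R →ₗ[R] C.carrier} (hf : Function.Bijective f) {j₀ : ℤ}
    (hfd : IsGrHomDeg 𝒜 C.gr f (j₀ * q)) :
    ∃ h : R' →ₗ[R'] C'.carrier, Function.Bijective h ∧ IsGrHomDeg 𝒜' C'.gr h j₀ := by
  have hx : f 1 ∈ C.gr (j₀ * q) := by simpa using hfd 0 1 SetLike.GradedOne.one_mem
  obtain ⟨x', hx', e⟩ := v.onto j₀ _ hx
  have hmul : ∀ r : R', v.f (r • x') = f (φ r) := fun r => by
    rw [v.smul, e, ← map_smul, smul_eq_mul, mul_one]
  refine ⟨LinearMap.toSpanSingleton R' _ x', ⟨fun a b hab => hφ (hf.1 ?_), fun y => ?_⟩, fun j r hr => ?_⟩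
  · rw [← hmul, ← hmul]
    exact congrArg v.f hab
  · induction y using gr_induction C'.gr with
    | h0 => exact ⟨0, map_zero _⟩
    | hadd a b ha hb =>
      obtain ⟨r, hr⟩ := ha
      obtain ⟨r', hr'⟩ := hb
      exact ⟨r + r', by rw [map_add, hr, hr']⟩
    | hh j y hy =>
      obtain ⟨s, hs⟩ := hf.2 (v.f y)
      obtain ⟨r, -, hr⟩ := exists_pre hdeg (j - j₀) (y := cmp 𝒜 ((j - j₀) * q) s) (cmp_mem 𝒜 _ s)
      refine ⟨r, v.inj ?_⟩
      have h1 := congrArg (cmp C.gr (j * q)) hs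
      rw [show s = s • (1 : R) by rw [smul_eq_mul, mul_one], map_smul, cmp_smul_mem (𝒜 := 𝒜) C.gr s hx,
        cmp_of_mem _ (v.hom j y hy), ← sub_mul, ← map_smul, smul_eq_mul, mul_one] at h1
      rw [← h1, ← hr]
      exact hmul r
  · exact smul_mem' (𝒜 := 𝒜') C'.gr hr hx'

end Pair

section GorConverse

variable {R : Type u} [CommRing R] [LocCoh.IsCohenMacaulayRing R] {𝒜 : ℤ → AddSubgroup R} [GradedRing 𝒜]
  (hpos : ∀ n : ℤ, n < 0 → 𝒜 n = ⊥) (h0 : IsField (deg0 𝒜))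
  {m : HomogeneousIdeal 𝒜} (hm : IsStarLocal 𝒜 m)
  (hmsp : m.toIdeal = Ideal.span (⋃ n ∈ Set.Ioi (0 : ℤ), (𝒜 n : Set R)))
  (hstd : Ideal.span (⋃ n ∈ Set.Ioi (0 : ℤ), (𝒜 n : Set R)) = Ideal.span ((𝒜 1 : AddSubgroup R) : Set R))
  {n : ℕ} (hn : ringKrullDim R = n) {I : StarInjRes 𝒜 𝒜} {E C : GMod.{u} 𝒜}
  {e : (R ⧸ m.toIdeal) →ₗ[R] E.carrier} (he : IsStarInjHull 𝒜 (quotGr 𝒜 m) E.gr e)
  (hC : IsStarCanonical 𝒜 C.gr E.gr m n I)
  {q : ℕ} (hq : 0 < q) {R' : Type u} [CommRing R'] {𝒜' : ℤ → AddSubgroup R'} [GradedRing 𝒜'] {φ : R' →+* R}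
  (hdeg : ∀ j : ℤ, (𝒜' j).map (φ : R' →+ R) = 𝒜 (j * q)) (hφ : Function.Injective φ)
  {C' : GMod.{u} 𝒜'} (v : VMap φ q C' C)
  {c : ℤ} {h : R' →ₗ[R'] C'.carrier} (hh : Function.Bijective h) (hhd : IsGrHomDeg 𝒜' C'.gr h c)

include hpos h0 hm hmsp hstd hn he hC hq hdeg hφ v hh hhd in
/-- If the Veronese of the canonical module is free, so is the canonical module, in dimension at least two. -/
theorem shift_of_veronese_shift (h2 : 2 ≤ n) :
    ∃ f : R →ₗ[R] C.carrier, Function.Bijective f ∧ IsGrHomDeg 𝒜 C.gr f (c * q) := by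
  classical
  have hp := GrothLib.GrLC.pos_of_bot hpos
  haveI : Nontrivial R := not_subsingleton_iff_nontrivial.1 fun h => by
    rw [ringKrullDim_eq_bot_of_subsingleton] at hn; exact WithBot.bot_ne_coe hn
  have hx' : h 1 ∈ C'.gr c := by simpa using hhd 0 1 SetLike.GradedOne.one_mem
  let x := v.f (h 1)
  have hx : x ∈ C.gr (c * q) := v.hom c _ hx'
  have hmul : ∀ r : R', v.f (h r) = φ r • x := fun r => by
    rw [← v.smul, ← map_smul, smul_eq_mul, mul_one]
  have hpiece : ∀ j, ∀ u ∈ C.gr (j * q), ∃ r : R', φ r • x = u := fun j u hu => by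
    obtain ⟨u', -, rfl⟩ := v.onto j u hu
    obtain ⟨r, rfl⟩ := hh.2 u'
    exact ⟨r, (hmul r).symm⟩
  have hlow : ∀ g, g < c * q → ∀ y ∈ C.gr g, y = 0 := by
    intro g hg y hy
    by_contra hy0
    obtain ⟨u, w, hu, hw, hind⟩ := GrothLib.GrLC.exists_two_indep hp h0 hm (GrothLib.GrLC.irr_of_span hmsp)
      (hmsp.le.trans hstd.le) hn h2 he hC hy hy0 hg
    have hdeg0 : ∀ u ∈ C.gr (c * q), ∃ d : deg0 𝒜, (d : R) • x = u := fun u hu => by
      obtain ⟨r, hr⟩ := hpiece c u hu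
      refine ⟨⟨cmp 𝒜 0 (φ r), cmp_mem 𝒜 0 _⟩, ?_⟩
      have h1 := congrArg (cmp C.gr (c * q)) hr
      rwa [cmp_smul_mem (𝒜 := 𝒜) C.gr _ hx, sub_self, cmp_of_mem _ hu] at h1
    obtain ⟨d₁, hd₁⟩ := hdeg0 u hu
    obtain ⟨d₂, hd₂⟩ := hdeg0 w hw
    have h1 := hind d₂ (-d₁) (by
      rw [← hd₁, ← hd₂, smul_smul, NegMemClass.coe_neg, smul_smul, ← add_smul, neg_mul, mul_comm, add_neg_cancel,
        zero_smul])
    have hu0 : u = 0 := by
      rw [← hd₁, neg_eq_zero.1 h1.2, ZeroMemClass.coe_zero, zero_smul]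
    have h2 := hind 1 0 (by rw [hu0, smul_zero, zero_add, ZeroMemClass.coe_zero, zero_smul])
    haveI := h0.nontrivial
    exact one_ne_zero h2.1
  obtain ⟨a, b, ha, hb, hareg, hbreg⟩ := exists_regular_pair hpos h0 hm hmsp hn h2 1
  have hinj : ∀ i : ℤ, ∀ r ∈ 𝒜 i, r • x = 0 → r = 0 := by
    intro i r hr hrx
    let J : Ideal R := Submodule.comap (LinearMap.toSpanSingleton R R r) ⊥
    obtain ⟨N, hN⟩ := exists_pow_le (hmsp := hmsp) hstd (J := J) fun a ha => by
      obtain ⟨p, hp'⟩ : ∃ p : ℕ, (q : ℤ) ∣ i + p := ⟨((-i) % q).toNat, by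
        rw [Int.toNat_of_nonneg (Int.emod_nonneg _ (by exact_mod_cast hq.ne')), Int.emod_def]
        exact ⟨-((-i) / q), by ring⟩⟩
      obtain ⟨j, hj⟩ := hp'
      have hz : a ^ p * r ∈ 𝒜 (j * q) := by
        have := SetLike.mul_mem_graded (SetLike.pow_mem_graded p ha) hr
        rw [show p • (1 : ℤ) + i = j * q by rw [nsmul_eq_mul, mul_one, add_comm, hj, mul_comm]] at this
        exact this
      obtain ⟨r', -, hr'⟩ := exists_pre hdeg j hz
      have h1 : h r' = h 0 := v.inj (by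
        rw [hmul, hr', mul_smul, hrx, smul_zero, map_zero, map_zero])
      refine ⟨p, ?_⟩
      change a ^ p * r ∈ (⊥ : Ideal R)
      rw [← hr', hh.1 h1, map_zero]
      exact zero_mem _
    obtain ⟨a, b, ha, -, hareg, -⟩ := exists_regular_pair hpos h0 hm hmsp hn h2 N
    have h1 : a * r = 0 := (Submodule.mem_bot R).1 (hN ha)
    exact hareg (h1.trans (mul_zero a).symm)
  have hsurj : ∀ g, ∀ y ∈ C.gr g, ∃ r : R, r • x = y := by
    intro g y hy
    let J : Ideal R := Submodule.comap (LinearMap.toSpanSingleton R C.carrier y) (Submodule.span R {x})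
    obtain ⟨N, hN⟩ := exists_pow_le (hmsp := hmsp) hstd (J := J) fun a ha => by
      obtain ⟨p, hp'⟩ : ∃ p : ℕ, (q : ℤ) ∣ g + p := ⟨((-g) % q).toNat, by
        rw [Int.toNat_of_nonneg (Int.emod_nonneg _ (by exact_mod_cast hq.ne')), Int.emod_def]
        exact ⟨-((-g) / q), by ring⟩⟩
      obtain ⟨j, hj⟩ := hp'
      have hz : a ^ p • y ∈ C.gr (j * q) := by
        have := smul_mem' (𝒜 := 𝒜) C.gr (SetLike.pow_mem_graded p ha) hy
        rw [show p • (1 : ℤ) + g = j * q by rw [nsmul_eq_mul, mul_one, add_comm, hj, mul_comm]] at this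
        exact this
      obtain ⟨r', hr'⟩ := hpiece j _ hz
      refine ⟨p, ?_⟩
      change a ^ p • y ∈ Submodule.span R {x}
      exact Submodule.mem_span_singleton.2 ⟨φ r', hr'⟩
    obtain ⟨a, b, ha, hb, hareg, hbreg⟩ := exists_regular_pair hpos h0 hm hmsp hn h2 N
    obtain ⟨s, hs⟩ := Submodule.mem_span_singleton.1 (hN ha)
    obtain ⟨t, ht⟩ := Submodule.mem_span_singleton.1 (hN hb)
    change s • x = a • y at hs
    change t • x = b • y at ht
    have hxinj : ∀ r : R, r • x = 0 → r = 0 := fun r hr => GrothLib.GrLC.eq_zero_of_cmp 𝒜 fun i =>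
      hinj i _ (cmp_mem 𝒜 i r) (by
        have h1 := congrArg (cmp C.gr (i + c * q)) hr
        rwa [cmp_smul_mem (𝒜 := 𝒜) C.gr r hx, add_sub_cancel_right, map_zero] at h1)
    have hst : b * s = a * t := sub_eq_zero.1 (hxinj _ (by
      rw [sub_smul, mul_smul, mul_smul, hs, ht, smul_smul, smul_smul, mul_comm, sub_self]))
    obtain ⟨s', rfl⟩ := hbreg s ⟨t, hst⟩
    refine ⟨s', (sub_eq_zero.1 (eq_zero_of_pow_kills hpos hm hn he hC (by omega) (N := N) fun z hz => ?_)).symm⟩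
    obtain ⟨w, hw⟩ := Submodule.mem_span_singleton.1 (hN hz)
    change w • x = z • y at hw
    have h1 : a * w = a * (z * s') := sub_eq_zero.1 (hxinj _ (by
      rw [sub_smul, mul_smul, hw, show a * (z * s') = z * (a * s') by ring, mul_smul z, hs, smul_smul, smul_smul,
        mul_comm, sub_self]))
    rw [smul_sub, ← hw, hareg h1, smul_smul, sub_self]
  refine ⟨LinearMap.toSpanSingleton R C.carrier x, ⟨fun r r' hrr => sub_eq_zero.1 (GrothLib.GrLC.eq_zero_of_cmp 𝒜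
    fun i => hinj i _ (cmp_mem 𝒜 i _) ?_), fun y => ?_⟩, fun j r hr => smul_mem' (𝒜 := 𝒜) C.gr hr hx⟩
  · have h0' : (r - r') • x = 0 := by
      rw [sub_smul]
      exact sub_eq_zero.2 hrr
    have h1 := congrArg (cmp C.gr (i + c * q)) h0'
    rwa [cmp_smul_mem (𝒜 := 𝒜) C.gr _ hx, add_sub_cancel_right, map_zero] at h1
  · induction y using gr_induction C.gr with
    | h0 => exact ⟨0, map_zero _⟩
    | hadd a b ha hb =>
      obtain ⟨r, hr⟩ := ha
      obtain ⟨r', hr'⟩ := hb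
      exact ⟨r + r', by rw [map_add, hr, hr']⟩
    | hh g y hy => exact hsurj g y hy

end GorConverse

end

end GrothLib.GrLC.Ver
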