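import Groth.Agent.Lib.GrLC.VerGor

/-!
# Canonical modules of a ring and of its Veronese subring, together
-/

universe u

open DirectSum

namespace GrothLib.GrLC.Ver

open _root_.GrLC (GMod StarInjRes deg0 IsStarLocal IsStarInjHull IsStarCanonical IsGrHomDeg quotGr endDeg)
open GrothLib.GrLC (VMap EH)
open scoped GrothLib.Segre

noncomputable section

variable {R : Type u} [CommRing R] [LocCoh.IsCohenMacaulayRing R] {𝒜 : ℤ → AddSubgroup R} [GradedRing 𝒜]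
  (hpos : ∀ n : ℤ, n < 0 → 𝒜 n = ⊥) (h0 : IsField (deg0 𝒜))
  {m : HomogeneousIdeal 𝒜} (hm : IsStarLocal 𝒜 m)
  (hmsp : m.toIdeal = Ideal.span (⋃ n ∈ Set.Ioi (0 : ℤ), (𝒜 n : Set R)))
  {n : ℕ} (hn : ringKrullDim R = n) (I : StarInjRes 𝒜 𝒜)
  {q : ℕ} (hq : 0 < q) {R' : Type u} [CommRing R'] {𝒜' : ℤ → AddSubgroup R'} [GradedRing 𝒜'] {φ : R' →+* R}
  (hdeg : ∀ j : ℤ, (𝒜' j).map (φ : R' →+ R) = 𝒜 (j * q)) (hφ : Function.Injective φ)

variable (n) in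
/-- Canonical modules of `R` and of its Veronese subring `R'`, and their comparison. -/
structure CanonPair (m : HomogeneousIdeal 𝒜) (φ : R' →+* R) (q : ℕ) : Type (u + 1) where
  /-- envelope for `R` -/
  E : GMod.{u} 𝒜
  /-- canonical module of `R` -/
  C : GMod.{u} 𝒜
  /-- the envelope map -/
  e : (R ⧸ m.toIdeal) →ₗ[R] E.carrier
  he : IsStarInjHull 𝒜 (quotGr 𝒜 m) E.gr e
  hC : IsStarCanonical 𝒜 C.gr E.gr m n I
  /-- resolution of `R'` -/
  I' : StarInjRes 𝒜' 𝒜'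
  /-- envelope for `R'` -/
  E' : GMod.{u} 𝒜'
  /-- canonical module of `R'` -/
  C' : GMod.{u} 𝒜'
  /-- the envelope map of `R'` -/
  e' : (R' ⧸ (irrel 𝒜').toIdeal) →ₗ[R'] E'.carrier
  he' : IsStarInjHull 𝒜' (quotGr 𝒜' (irrel 𝒜')) E'.gr e'
  hC' : IsStarCanonical 𝒜' C'.gr E'.gr (irrel 𝒜') n I'
  /-- the comparison -/
  v : VMap φ q C' C
  hm' : IsStarLocal 𝒜' (irrel 𝒜')
  hpos' : ∀ j : ℤ, j < 0 → ∀ r ∈ 𝒜' j, r = 0
  h0' : IsField (deg0 𝒜')
  cm : LocCoh.IsCohenMacaulayRing R'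
  hn' : ringKrullDim R' = n

include hpos h0 hm hmsp hn hq hdeg hφ in
theorem nonempty_canonPair : Nonempty (CanonPair (𝒜' := 𝒜') n I m φ q) := by
  haveI : Nontrivial R := not_subsingleton_iff_nontrivial.1 fun h => by
    rw [ringKrullDim_eq_bot_of_subsingleton] at hn; exact WithBot.bot_ne_coe hn
  haveI := Groth.Agent.S18671.isNoetherianRing_veronese φ hφ q hq hdeg
  haveI : Nontrivial R' := φ.domain_nontrivial
  have hpos' := neg_eq_bot hdeg hφ hpos hq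
  have h0' := isField_zero hdeg hφ h0
  have hm' := isStarLocal_irrel hpos' h0'
  obtain ⟨E, C, e, he, hC⟩ := exists_canonical (n := n) hpos h0 hm hmsp I
  obtain ⟨E', C', e', he', hC'⟩ :=
    exists_canonical (n := n) hpos' h0' hm' irrel_toIdeal (GrothLib.GrLC.starInjRes 𝒜' 𝒜')
  obtain ⟨v⟩ := nonempty_vmap_canonical hdeg hq hφ hm hmsp hpos irrel_toIdeal h0 he hC he' hC'
  exact ⟨⟨E, C, e, he, hC, GrothLib.GrLC.starInjRes 𝒜' 𝒜', E', C', e', he', hC', v, hm',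
    GrothLib.GrLC.pos_of_bot hpos', h0', isCohenMacaulayRing hdeg hq hφ hm hmsp hpos h0 hn,
    (ringKrullDim_eq hdeg hq hφ hpos).trans hn⟩⟩

end

end GrothLib.GrLC.Ver
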