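import Groth.Agent.Lib.GrLC.VerCanon
import Groth.Agent.Lib.GrLC.Exists
import Groth.Agent.Lib.Dim.Ring

/-!
# A Veronese subring of a graded ring over a field
-/

universe u

open DirectSum

namespace GrothLib.GrLC.Ver

open _root_.GrLC (GMod StarInjRes deg0 IsStarLocal IsStarInjHull IsStarCanonical quotGr)
open GrothLib.GrLC (cmp cmp_mem cmp_of_mem gr_induction VMap EH HElt hspan mapElt)
open scoped GrothLib.Segre

noncomputable section

variable {R : Type u} [CommRing R] {𝒜 : ℤ → AddSubgroup R} [GradedRing 𝒜]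
  {q : ℕ} {R' : Type u} [CommRing R'] {𝒜' : ℤ → AddSubgroup R'} [GradedRing 𝒜'] {φ : R' →+* R}
  (hdeg : ∀ j : ℤ, (𝒜' j).map (φ : R' →+ R) = 𝒜 (j * q))

include hdeg in
theorem map_mem (j : ℤ) (r : R') (hr : r ∈ 𝒜' j) : φ r ∈ 𝒜 (j * q) := (hdeg j).le ⟨r, hr, rfl⟩

include hdeg in
theorem exists_pre (j : ℤ) {y : R} (hy : y ∈ 𝒜 (j * q)) : ∃ r ∈ 𝒜' j, φ r = y := by
  obtain ⟨r, hr, e⟩ := (hdeg j).ge hy
  exact ⟨r, hr, e⟩

include hdeg in
theorem map_mem_zero (r : deg0 𝒜') : φ (r : R') ∈ 𝒜 0 := by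
  simpa using map_mem hdeg 0 _ r.2

include hdeg in
theorem neg_eq_bot (hφ : Function.Injective φ) (hpos : ∀ n : ℤ, n < 0 → 𝒜 n = ⊥) (hq : 0 < q) :
    ∀ j : ℤ, j < 0 → 𝒜' j = ⊥ := fun j hj => by
  rw [AddSubgroup.eq_bot_iff_forall]
  intro r hr
  have hjq : j * (q : ℤ) < 0 := mul_neg_of_neg_of_pos hj (by exact_mod_cast hq)
  have h := map_mem hdeg j r hr
  rw [hpos _ hjq, AddSubgroup.mem_bot] at h
  exact hφ (h.trans (map_zero φ).symm)

/-- the degree zero parts agree -/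
def zeroEquiv (hφ : Function.Injective φ) : deg0 𝒜' ≃+* deg0 𝒜 :=
  RingEquiv.ofBijective
    ({ toFun := fun r => ⟨φ r, map_mem_zero hdeg r⟩
       map_one' := Subtype.ext (map_one φ)
       map_mul' := fun a b => Subtype.ext (map_mul φ (a : R') b)
       map_zero' := Subtype.ext (map_zero φ)
       map_add' := fun a b => Subtype.ext (map_add φ (a : R') b) } : deg0 𝒜' →+* deg0 𝒜)
    ⟨fun a b h => Subtype.ext (hφ (congrArg Subtype.val h)), fun y => by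
      obtain ⟨r, hr, e⟩ := exists_pre hdeg 0 (y := y) (by rw [zero_mul]; exact y.2)
      exact ⟨⟨r, hr⟩, Subtype.ext e⟩⟩

include hdeg in
theorem isField_zero (hφ : Function.Injective φ) (h0 : IsField (deg0 𝒜)) : IsField (deg0 𝒜') :=
  (zeroEquiv hdeg hφ).toMulEquiv.isField h0

include hdeg in
theorem exists_pow_eq (x : R) {i : ℤ} (hx : x ∈ 𝒜 i) : ∃ r ∈ 𝒜' i, φ r = x ^ q := by
  refine exists_pre hdeg i ?_
  have := SetLike.pow_mem_graded q hx
  rwa [nsmul_eq_mul, mul_comm] at this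

variable (𝒜') in
/-- the irrelevant ideal of a graded ring -/
def irrel : HomogeneousIdeal 𝒜' :=
  ⟨Ideal.span (⋃ n ∈ Set.Ioi (0 : ℤ), (𝒜' n : Set R')), Ideal.homogeneous_span _ _ fun x hx => by
    obtain ⟨i, -, hx⟩ := Set.mem_iUnion₂.1 hx
    exact ⟨i, hx⟩⟩

theorem irrel_toIdeal : (irrel 𝒜').toIdeal = Ideal.span (⋃ n ∈ Set.Ioi (0 : ℤ), (𝒜' n : Set R')) := rfl

theorem eq_irrel {m' : HomogeneousIdeal 𝒜'}
    (h : m'.toIdeal = Ideal.span (⋃ n ∈ Set.Ioi (0 : ℤ), (𝒜' n : Set R'))) : m' = irrel 𝒜' :=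
  HomogeneousIdeal.toIdeal_injective h

/-- The irrelevant ideal of a Noetherian positively graded ring over a field is the unique graded maximal ideal. -/
theorem isStarLocal_irrel [Nontrivial R'] [IsNoetherianRing R'] (hpos' : ∀ n : ℤ, n < 0 → 𝒜' n = ⊥)
    (h0' : IsField (deg0 𝒜')) : IsStarLocal 𝒜' (irrel 𝒜') := by
  letI : Field (deg0 𝒜') := h0'.toField
  have hp := GrothLib.GrLC.pos_of_bot hpos'
  haveI := GrothLib.GrLC.OverField.finiteType_alg (𝒜 := 𝒜') hp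
  have hsame := GrothLib.GrLC.OverField.mem_alg 𝒜'
  have h := GrothLib.Segre.isStarLocal_irrel (k := deg0 𝒜') (GrothLib.GrLC.OverField.hpos_alg hp)
    GrothLib.GrLC.OverField.zero_alg (m := GrothLib.GrLC.OverField.idealTo hsame (irrel 𝒜'))
    (GrothLib.GrLC.OverField.hmsp_alg irrel_toIdeal)
  exact GrothLib.GrLC.OverField.isStarLocal_to (fun n x => (hsame n x).symm) h

theorem exists_canonical [Nontrivial R] [IsNoetherianRing R] (hpos : ∀ n : ℤ, n < 0 → 𝒜 n = ⊥)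
    (h0 : IsField (deg0 𝒜)) {m : HomogeneousIdeal 𝒜} (hm : IsStarLocal 𝒜 m)
    (hmsp : m.toIdeal = Ideal.span (⋃ n ∈ Set.Ioi (0 : ℤ), (𝒜 n : Set R))) {n : ℕ} (I : StarInjRes 𝒜 𝒜) :
    ∃ (E C : GMod.{u} 𝒜) (e : (R ⧸ m.toIdeal) →ₗ[R] E.carrier),
      IsStarInjHull 𝒜 (quotGr 𝒜 m) E.gr e ∧ IsStarCanonical 𝒜 C.gr E.gr m n I := by
  letI : Field (deg0 𝒜) := h0.toField
  have hp := GrothLib.GrLC.pos_of_bot hpos
  haveI := GrothLib.GrLC.OverField.finiteType_alg (𝒜 := 𝒜) hp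
  have hsame := GrothLib.GrLC.OverField.mem_alg 𝒜
  have hsame' : ∀ (n : ℤ) (x : R), x ∈ 𝒜 n ↔ x ∈ GrothLib.GrLC.OverField.alg 𝒜 n := fun n x => (hsame n x).symm
  haveI : (GrothLib.GrLC.OverField.idealTo hsame m).toIdeal.IsMaximal :=
    GrothLib.GrLC.isMaximal_of_isStarLocal hp hm
  obtain ⟨E, e, C, he, hC, -⟩ := GrothLib.GrDual.exists_starCanonical (k := deg0 𝒜)
    (GrothLib.GrLC.OverField.hpos_alg hp) GrothLib.GrLC.OverField.zero_alg
    (GrothLib.GrLC.OverField.hmsp_alg hmsp) (n := n) (GrothLib.GrLC.OverField.resTo hsame I)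
  haveI := GrothLib.GrLC.OverField.gsmul_to hsame' E.gr
  haveI := GrothLib.GrLC.OverField.gsmul_to hsame' C.gr
  refine ⟨GMod.of 𝒜 E.carrier E.gr, GMod.of 𝒜 C.carrier C.gr, e, ?_, ?_⟩
  · refine ⟨⟨he.injective, fun g x hx => he.grHom g x ?_, ?_⟩, ?_⟩
    · obtain ⟨r, hr, rfl⟩ := hx
      exact ⟨r, hr, rfl⟩
    · exact he.essential
    · exact GrothLib.GrLC.OverField.starInj_to (ℳ := E.gr) hsame' he.starInj
  · obtain ⟨hfin, ψ, hψ⟩ := hC
    exact ⟨hfin, ψ, hψ⟩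

section Compare

variable [IsNoetherianRing R] (hq : 0 < q) (hφ : Function.Injective φ)
  {m : HomogeneousIdeal 𝒜} (hm : IsStarLocal 𝒜 m)
  (hmsp : m.toIdeal = Ideal.span (⋃ n ∈ Set.Ioi (0 : ℤ), (𝒜 n : Set R)))
  (hpos : ∀ n : ℤ, n < 0 → 𝒜 n = ⊥) {m' : HomogeneousIdeal 𝒜'}
  (hm'sp : m'.toIdeal = Ideal.span (⋃ j ∈ Set.Ioi (0 : ℤ), (𝒜' j : Set R')))

include hdeg hq hm hmsp hpos hm'sp in
theorem radical_eq {l : List (HElt 𝒜')} (hl : (hspan l).toIdeal = m'.toIdeal) :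
    (hspan (l.map (mapElt (map_mem hdeg)))).toIdeal.radical = m.toIdeal.radical := by
  have hprime : m.toIdeal.IsPrime :=
    (GrothLib.GrLC.isMaximal_of_isStarLocal (GrothLib.GrLC.pos_of_bot hpos) hm).isPrime
  have hqz : (0 : ℤ) < q := by exact_mod_cast hq
  have hm'm : m'.toIdeal ≤ m.toIdeal.comap φ := by
    rw [hm'sp]
    refine Ideal.span_le.2 fun r hr => ?_
    obtain ⟨i, hi, hr⟩ := Set.mem_iUnion₂.1 hr
    exact hmsp.ge (Ideal.subset_span
      (Set.mem_iUnion₂.2 ⟨i * q, mul_pos (show 0 < i from hi) hqz, map_mem hdeg i r hr⟩))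
  refine le_antisymm (Ideal.radical_mono (Ideal.span_le.2 ?_)) (Ideal.radical_le_radical_iff.2 ?_)
  · rintro r ⟨y, hy, rfl⟩
    obtain ⟨x, hx, rfl⟩ := List.mem_map.1 hy
    exact hm'm (hl.le (Ideal.subset_span ⟨x, hx, rfl⟩))
  · rw [hmsp, Ideal.span_le]
    intro y hy
    obtain ⟨i, hi, hy⟩ := Set.mem_iUnion₂.1 hy
    obtain ⟨r, hr, e⟩ := exists_pow_eq hdeg y hy
    have hmapl : (hspan l).toIdeal ≤ (hspan (l.map (mapElt (map_mem hdeg)))).toIdeal.comap φ :=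
      Ideal.span_le.2 (by
        rintro z ⟨x, hx, rfl⟩
        exact Ideal.subset_span ⟨_, List.mem_map_of_mem hx, rfl⟩)
    exact ⟨q, e ▸ hmapl (hl.ge (hm'sp.ge (Ideal.subset_span (Set.mem_iUnion₂.2 ⟨i, hi, hr⟩))))⟩

include hdeg hφ in
/-- the ring as the Veronese of the ring -/
def ringVMap : VMap φ q (GrothLib.GrLC.gmod 𝒜' 𝒜') (GrothLib.GrLC.gmod 𝒜 𝒜) where
  f := (φ : R' →+ R)
  smul r x := by
    exact map_mul φ r x
  inj := hφ
  hom j x hx := map_mem hdeg j x hx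
  onto j y hy := exists_pre hdeg j hy

include hdeg hq hφ hm hmsp hpos hm'sp in
/-- `H^i_{m'}(R^{(q)})` is the Veronese of `H^i_m(R)`. -/
theorem nonempty_vmap_EH (I : StarInjRes 𝒜 𝒜) (I' : StarInjRes 𝒜' 𝒜') (i : ℕ) :
    Nonempty (VMap φ q (EH I' m' i) (EH I m i)) := by
  have := Groth.Agent.S18671.isNoetherianRing_veronese φ hφ q hq hdeg
  obtain ⟨l, hl⟩ := GrothLib.GrLC.exists_hspan (𝒜 := 𝒜') (a := m')
  refine ((GrothLib.GrLC.vcech (map_mem hdeg) (ringVMap hdeg hφ) l).hmap hq i).nonempty_congr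
    (GrothLib.GrLC.iso_cech I' hl i)
    ((GrothLib.GrLC.iso_cech I (a := hspan (l.map (mapElt (map_mem hdeg)))) rfl i).symm.trans
      (GrothLib.Segre.iso_EH_of_radical I (radical_eq hdeg hq hm hmsp hpos hm'sp hl) i))

include hdeg hq hφ hm hmsp hpos hm'sp in
/-- The canonical module of the Veronese subring is the Veronese of the canonical module. -/
theorem nonempty_vmap_canonical (h0 : IsField (deg0 𝒜)) [Nontrivial R] {n : ℕ}
    {I : StarInjRes 𝒜 𝒜} {E C : GMod.{u} 𝒜} {e : (R ⧸ m.toIdeal) →ₗ[R] E.carrier}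
    (he : IsStarInjHull 𝒜 (quotGr 𝒜 m) E.gr e) (hC : IsStarCanonical 𝒜 C.gr E.gr m n I)
    {I' : StarInjRes 𝒜' 𝒜'} {E' C' : GMod.{u} 𝒜'} {e' : (R' ⧸ m'.toIdeal) →ₗ[R'] E'.carrier}
    (he' : IsStarInjHull 𝒜' (quotGr 𝒜' m') E'.gr e') (hC' : IsStarCanonical 𝒜' C'.gr E'.gr m' n I') :
    Nonempty (VMap φ q C' C) := by
  haveI := Groth.Agent.S18671.isNoetherianRing_veronese φ hφ q hq hdeg
  haveI : Nontrivial R' := φ.domain_nontrivial
  have hpos' := neg_eq_bot hdeg hφ hpos hq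
  have h0' := isField_zero hdeg hφ h0
  letI : Field (deg0 𝒜) := h0.toField
  letI : Field (deg0 𝒜') := h0'.toField
  have hp := GrothLib.GrLC.pos_of_bot hpos
  have hp' := GrothLib.GrLC.pos_of_bot hpos'
  haveI := GrothLib.GrLC.OverField.finiteType_alg (𝒜 := 𝒜) hp
  haveI := GrothLib.GrLC.OverField.finiteType_alg (𝒜 := 𝒜') hp'
  have hs := GrothLib.GrLC.OverField.mem_alg 𝒜
  have hs' := GrothLib.GrLC.OverField.mem_alg 𝒜'
  haveI := GrothLib.GrLC.OverField.gsmul_to hs E.gr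
  haveI := GrothLib.GrLC.OverField.gsmul_to hs C.gr
  haveI := GrothLib.GrLC.OverField.gsmul_to hs' E'.gr
  haveI := GrothLib.GrLC.OverField.gsmul_to hs' C'.gr
  haveI : Module.Finite R C.carrier := hC.1
  haveI : Module.Finite R' C'.carrier := hC'.1
  haveI : Module.Finite R (GrothLib.GrLC.OverField.modTo hs C).carrier := hC.1
  haveI : Module.Finite R' (GrothLib.GrLC.OverField.modTo hs' C').carrier := hC'.1
  have heB := GrothLib.GrLC.OverField.hull_to hs he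
  have hCB := GrothLib.GrLC.OverField.canonical_to hs hC
  have heB' := GrothLib.GrLC.OverField.hull_to hs' he'
  have hCB' := GrothLib.GrLC.OverField.canonical_to hs' hC'
  obtain ⟨β, hβ⟩ := GrothLib.GrDual.exists_isGDual_of_canonical (k := deg0 𝒜)
    (GrothLib.GrLC.OverField.hpos_alg hp) GrothLib.GrLC.OverField.zero_alg
    (GrothLib.GrLC.OverField.hmsp_alg hmsp)
    (E := GrothLib.GrLC.OverField.modTo hs E) (C := GrothLib.GrLC.OverField.modTo hs C) heB hCB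
  obtain ⟨β', hβ'⟩ := GrothLib.GrDual.exists_isGDual_of_canonical (k := deg0 𝒜')
    (GrothLib.GrLC.OverField.hpos_alg hp') GrothLib.GrLC.OverField.zero_alg
    (GrothLib.GrLC.OverField.hmsp_alg hm'sp)
    (E := GrothLib.GrLC.OverField.modTo hs' E') (C := GrothLib.GrLC.OverField.modTo hs' C') heB' hCB'
  obtain ⟨G⟩ := nonempty_vmap_EH hdeg hq hφ hm hmsp hpos hm'sp I I' n
  let GB : VMap φ q (EH (GrothLib.GrLC.OverField.resTo hs' I') (GrothLib.GrLC.OverField.idealTo hs' m') n)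
      (EH (GrothLib.GrLC.OverField.resTo hs I) (GrothLib.GrLC.OverField.idealTo hs m) n) :=
    ⟨G.f, G.smul, G.inj, G.hom, G.onto⟩
  obtain ⟨v⟩ := GrothLib.GrDual.nonempty_vmap_dual hq (zeroEquiv hdeg hφ) (fun c => rfl)
    (fun j r hr => map_mem hdeg j r hr) GB hβ hβ'
    (fun g => GrothLib.GrDual.finiteDimensional_piece (k := deg0 𝒜) (𝒜 := GrothLib.GrLC.OverField.alg 𝒜)
      (GrothLib.GrLC.OverField.hpos_alg hp) GrothLib.GrLC.OverField.zero_alg (GrothLib.GrLC.OverField.modTo hs C).gr g)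
    (fun g => GrothLib.GrDual.finiteDimensional_piece (k := deg0 𝒜') (𝒜 := GrothLib.GrLC.OverField.alg 𝒜')
      (GrothLib.GrLC.OverField.hpos_alg hp') GrothLib.GrLC.OverField.zero_alg (GrothLib.GrLC.OverField.modTo hs' C').gr g)
  exact ⟨⟨v.f, v.smul, v.inj, v.hom, v.onto⟩⟩

include hdeg hq hφ hpos in
theorem ringKrullDim_eq : ringKrullDim R' = ringKrullDim R := by
  letI : Algebra R' R := φ.toAlgebra
  have hint : ∀ (i : ℤ), ∀ x ∈ 𝒜 i, IsIntegral R' x := fun i x hx => by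
    obtain ⟨r, -, hr⟩ := exists_pow_eq hdeg x hx
    exact IsIntegral.of_pow hq (hr ▸ isIntegral_algebraMap)
  haveI : Algebra.IsIntegral R' R := ⟨fun x => by
    induction x using gr_induction 𝒜 with
    | h0 => exact isIntegral_zero
    | hadd a b ha hb => exact ha.add hb
    | hh i x hx => exact hint i x hx⟩
  exact (GrothLib.Dim.ringKrullDim_eq_of_isIntegral (R := R') (S := R) hφ).symm

end Compare

end

end GrothLib.GrLC.Ver
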