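import Groth.Agent.Lib.GrLC.VerPair
import Groth.Agent.Lib.GrLC.BassCanon
import Groth.Agent.S18672
import Mathlib.LinearAlgebra.TensorProduct.Quotient

/-!
# The type of a Veronese subring of a Gorenstein standard graded ring
-/

universe u

open DirectSum
open scoped TensorProduct

namespace GrothLib.GrLC.Ver

open _root_.GrLC (GMod StarInjRes deg0 IsStarLocal endDeg)
open GrothLib.GrLC (cmp cmp_mem cmp_of_mem cmp_of_mem_ne gr_induction cmp_smul_mem smul_mem' exists_sum_cmp)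
open scoped GrothLib.Segre

noncomputable section

variable {R' : Type u} [CommRing R'] {𝒜' : ℤ → AddSubgroup R'} [GradedRing 𝒜']

theorem sub_cmp_zero_mem (hpos' : ∀ j : ℤ, j < 0 → ∀ r ∈ 𝒜' j, r = 0) (r : R') :
    r - cmp 𝒜' 0 r ∈ (irrel 𝒜').toIdeal := by
  induction r using gr_induction 𝒜' with
  | h0 => simp
  | hadd a b ha hb => rw [map_add, add_sub_add_comm]; exact add_mem ha hb
  | hh j r hr =>
    rcases lt_trichotomy j 0 with h | rfl | h
    · rw [hpos' j h r hr]; simp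
    · rw [cmp_of_mem 𝒜' hr, sub_self]; exact zero_mem _
    · rw [cmp_of_mem_ne 𝒜' hr h.ne', sub_zero]
      exact Ideal.subset_span (Set.mem_iUnion₂.2 ⟨j, h, hr⟩)

theorem cmp_eq_zero_of_mem_irrel (hpos' : ∀ j : ℤ, j < 0 → ∀ r ∈ 𝒜' j, r = 0) {r : R'}
    (hr : r ∈ (irrel 𝒜').toIdeal) {i : ℤ} (hi : i ≤ 0) : cmp 𝒜' i r = 0 := by
  rw [irrel_toIdeal] at hr
  suffices h : ∀ x ∈ Ideal.span (⋃ n ∈ Set.Ioi (0 : ℤ), (𝒜' n : Set R')), ∀ (i : ℤ), i ≤ 0 → ∀ b,
      cmp 𝒜' i (b * x) = 0 by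
    simpa using h r hr i hi 1
  intro x hx
  induction hx using Submodule.span_induction with
  | mem x hx =>
    obtain ⟨j, hj, hx⟩ := Set.mem_iUnion₂.1 hx
    have hj' : (0 : ℤ) < j := hj
    intro i hi b
    rw [← smul_eq_mul b x, cmp_smul_mem (𝒜 := 𝒜') 𝒜' b hx, hpos' (i - j) (by omega) _ (cmp_mem 𝒜' _ b), zero_smul]
  | zero => intro i _ b; rw [mul_zero, map_zero]
  | add u v _ _ hu hv => intro i hi b; rw [mul_add, map_add, hu i hi b, hv i hi b, add_zero]
  | smul c u _ hu => intro i hi b; rw [smul_eq_mul, ← mul_assoc]; exact hu i hi (b * c)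

/-- A graded module generated in its lowest degree, tensored with the residue field. -/
theorem finrank_residue_tensor (hpos' : ∀ j : ℤ, j < 0 → ∀ r ∈ 𝒜' j, r = 0) [(irrel 𝒜').toIdeal.IsMaximal]
    {C' : GMod.{u} 𝒜'} {j₀ : ℤ} (hlow : ∀ j, j < j₀ → ∀ x ∈ C'.gr j, x = 0)
    (hgen : Submodule.span R' (C'.gr j₀ : Set C'.carrier) = ⊤)
    {k : Type u} [Ring k] {V : Type u} [AddCommGroup V] [Module k V]
    (i : k → deg0 𝒜') (hi : Function.Bijective i) (g : V ≃+ C'.gr j₀)
    (hg : ∀ a x, ((g (a • x) : C'.gr j₀) : C'.carrier) = (i a : R') • (g x : C'.carrier)) :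
    Module.finrank (R' ⧸ (irrel 𝒜').toIdeal) ((R' ⧸ (irrel 𝒜').toIdeal) ⊗[R'] C'.carrier) = Module.finrank k V := by
  let J := (irrel 𝒜').toIdeal
  let F : V →+ (R' ⧸ J) ⊗[R'] C'.carrier :=
    AddMonoidHom.mk' (fun x => (1 : R' ⧸ J) ⊗ₜ[R'] (g x : C'.carrier)) fun x y => by
      rw [map_add, AddSubgroup.coe_add, TensorProduct.tmul_add]
  have hzero : ∀ z ∈ J • (⊤ : Submodule R' C'.carrier), cmp C'.gr j₀ z = 0 := fun z hz => by
    refine Submodule.smul_induction_on hz (fun r hr x _ => ?_) fun a b ha hb => by rw [map_add, ha, hb, add_zero]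
    induction x using gr_induction C'.gr with
    | h0 => simp
    | hadd a b ha hb => rw [smul_add, map_add, ha trivial, hb trivial, add_zero]
    | hh j x hx =>
      rcases lt_or_ge j j₀ with h | h
      · rw [hlow j h x hx, smul_zero, map_zero]
      · rw [cmp_smul_mem (𝒜 := 𝒜') C'.gr r hx, cmp_eq_zero_of_mem_irrel hpos' hr (by omega), zero_smul]
  have hF : Function.Bijective F := by
    refine ⟨(injective_iff_map_eq_zero F).2 fun x hx => ?_, fun y => ?_⟩
    · have h1 := congrArg (TensorProduct.quotTensorEquivQuotSMul C'.carrier J) hx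
      rw [map_zero] at h1
      change TensorProduct.quotTensorEquivQuotSMul C'.carrier J ((Ideal.Quotient.mk J 1) ⊗ₜ[R'] _) = 0 at h1
      rw [TensorProduct.quotTensorEquivQuotSMul_mk_tmul, one_smul, Submodule.Quotient.mk_eq_zero] at h1
      have h2 := hzero _ h1
      rw [cmp_of_mem _ (g x).2] at h2
      exact g.injective ((Subtype.ext h2).trans (map_zero g).symm)
    · induction y using TensorProduct.induction_on with
      | zero => exact ⟨0, map_zero _⟩
      | add a b ha hb =>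
        obtain ⟨u, hu⟩ := ha
        obtain ⟨v, hv⟩ := hb
        exact ⟨u + v, by rw [map_add, hu, hv]⟩
      | tmul s x =>
        obtain ⟨s, rfl⟩ := Ideal.Quotient.mk_surjective s
        have hs : (Ideal.Quotient.mk J s) ⊗ₜ[R'] x = (1 : R' ⧸ J) ⊗ₜ[R'] (s • x) := by
          rw [← TensorProduct.smul_tmul]
          refine congrArg (· ⊗ₜ[R'] x) ?_
          change Ideal.Quotient.mk J s = Ideal.Quotient.mk J (s * 1)
          rw [mul_one]
        rw [hs]
        generalize s • x = z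
        have hz : z ∈ Submodule.span R' (C'.gr j₀ : Set C'.carrier) := by rw [hgen]; exact Submodule.mem_top
        clear hs
        induction hz using Submodule.span_induction with
        | mem u hu => exact ⟨g.symm ⟨u, hu⟩, by simp [F]⟩
        | zero => exact ⟨0, by rw [map_zero, TensorProduct.tmul_zero]⟩
        | add u v _ _ hu hv =>
          obtain ⟨a, ha⟩ := hu
          obtain ⟨b, hb⟩ := hv
          exact ⟨a + b, by rw [map_add, ha, hb, TensorProduct.tmul_add]⟩
        | smul r u _ hu =>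
          obtain ⟨a, ha⟩ := hu
          obtain ⟨c, hc⟩ := hi.2 ⟨cmp 𝒜' 0 r, cmp_mem 𝒜' 0 r⟩
          refine ⟨c • a, ?_⟩
          change (1 : R' ⧸ J) ⊗ₜ[R'] (g (c • a) : C'.carrier) = _
          rw [hg, hc, TensorProduct.tmul_smul, TensorProduct.tmul_smul]
          change cmp 𝒜' 0 r • F a = _
          rw [ha, TensorProduct.smul_tmul', TensorProduct.smul_tmul']
          refine congrArg (· ⊗ₜ[R'] u) ?_
          change Ideal.Quotient.mk J (cmp 𝒜' 0 r * 1) = Ideal.Quotient.mk J (r * 1)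
          rw [mul_one, mul_one]
          exact ((Ideal.Quotient.eq).2 (sub_cmp_zero_mem hpos' r)).symm
  let ψ : k → R' ⧸ J := fun a => Ideal.Quotient.mk J (i a : R')
  have hψ : Function.Bijective ψ := by
    refine ⟨fun a b hab => hi.1 (Subtype.ext (sub_eq_zero.1 ?_)), fun y => ?_⟩
    · have h2 := cmp_eq_zero_of_mem_irrel hpos' (Ideal.Quotient.eq.1 hab) (le_refl (0 : ℤ))
      rwa [map_sub, cmp_of_mem 𝒜' (i a).2, cmp_of_mem 𝒜' (i b).2] at h2
    · obtain ⟨r, rfl⟩ := Ideal.Quotient.mk_surjective y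
      obtain ⟨a, ha⟩ := hi.2 ⟨cmp 𝒜' 0 r, cmp_mem 𝒜' 0 r⟩
      refine ⟨a, ?_⟩
      change Ideal.Quotient.mk J (i a : R') = _
      rw [ha]
      exact ((Ideal.Quotient.eq).2 (sub_cmp_zero_mem hpos' r)).symm
  refine (congrArg Cardinal.toNat (rank_eq_of_equiv_equiv ψ (AddEquiv.ofBijective F hF) hψ fun a x => ?_)).symm
  change (1 : R' ⧸ J) ⊗ₜ[R'] (g (a • x) : C'.carrier) = ψ a • ((1 : R' ⧸ J) ⊗ₜ[R'] (g x : C'.carrier))
  rw [hg, TensorProduct.tmul_smul, TensorProduct.smul_tmul', TensorProduct.smul_tmul']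
  refine congrArg (· ⊗ₜ[R'] (g x : C'.carrier)) ?_
  change Ideal.Quotient.mk J ((i a : R') * 1) = ψ a * 1
  simp [ψ]

end

end GrothLib.GrLC.Ver
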