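import Groth.Agent.Lib.Segre.CMRing
import Groth.Agent.Lib.GrLC.OverField

/-!
# A graded algebra over a field is Cohen–Macaulay iff it is so at the vertex
-/

universe u

namespace GrothLib.GrLC.VertexCM

open _root_.GrLC (StarInjRes)

variable {k T : Type u} [Field k] [CommRing T] [Algebra k T] {𝒯 : ℤ → Submodule k T} [GradedAlgebra 𝒯]
  [Algebra.FiniteType k T] [Nontrivial T] (hpos : ∀ n : ℤ, n < 0 → 𝒯 n = ⊥)
  (h0 : 𝒯 0 = Submodule.span k {(1 : T)}) {m : HomogeneousIdeal 𝒯}
  (hm : m.toIdeal = Ideal.span (⋃ n ∈ Set.Ioi (0 : ℤ), (𝒯 n : Set T))) [m.toIdeal.IsPrime]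

include hpos h0 hm

theorem isCohenMacaulayRing_iff : LocCoh.IsCohenMacaulayRing T ↔
    LocCoh.IsCohenMacaulayLocalRing (Localization.AtPrime m.toIdeal) := by
  haveI : IsNoetherianRing T := Algebra.FiniteType.isNoetherianRing k T
  refine ⟨fun h => h.isCohenMacaulayLocalRing_localization m.toIdeal, fun h => ?_⟩
  haveI : IsNoetherianRing (Localization.AtPrime m.toIdeal) :=
    IsLocalization.isNoetherianRing m.toIdeal.primeCompl _ inferInstance
  haveI : Module.Finite (Localization.AtPrime m.toIdeal) (LocalizedModule m.toIdeal.primeCompl T) :=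
    Module.Finite.of_isLocalizedModule m.toIdeal.primeCompl (LocalizedModule.mkLinearMap m.toIdeal.primeCompl T)
  let F := GrothLib.Segre.resAgr (GrothLib.GrLC.starInjRes 𝒯 𝒯)
  have hnt : ¬ Subsingleton (LocalizedModule m.toIdeal.primeCompl T) := fun hs =>
    not_subsingleton (Localization.AtPrime m.toIdeal)
      (IsLocalizedModule.iso m.toIdeal.primeCompl (Algebra.linearMap T (Localization.AtPrime m.toIdeal))).symm.toEquiv.subsingleton
  have hmod := ((GrothLib.Segre.cmModule_self_iff m.toIdeal).2 h).resolve_left hnt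
  have h11627 := Groth.Agent.S11627.result (Localization.AtPrime m.toIdeal)
    (LocalizedModule m.toIdeal.primeCompl T)
  simp only [GrothLib.Segre.nontrivial_H_iff hpos h0 hm F] at h11627
  exact GrothLib.Segre.cmRing_iff_module.2 ((GrothLib.Segre.cm_iff hpos h0 hm F).2 (h11627.2 hmod))

end GrothLib.GrLC.VertexCM
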